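import Mathlib
import Cfsg.Prelude.Def_Transfer

namespace Cfsg.Agent.H65

variable {G : Type*} [Group G]

theorem mul_self_eq_one {x : G} (hx : orderOf x = 2) : x * x = 1 := by
  have h := pow_orderOf_eq_one x
  rwa [hx, sq] at h

theorem inv_eq_self {x : G} (hx : orderOf x = 2) : x⁻¹ = x :=
  inv_eq_of_mul_eq_one_right (mul_self_eq_one hx)

theorem ne_one_of_orderOf {x : G} (hx : orderOf x = 2) : x ≠ 1 := by
  intro h
  rw [h, orderOf_one] at hx
  omega

theorem orderOf_conj' (g v : G) : orderOf (g * v * g⁻¹) = orderOf v :=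
  ((SemiconjBy.conj_mk g v).orderOf_eq).symm

theorem orderOf_of_isConj {a b : G} (h : IsConj a b) : orderOf a = orderOf b := by
  obtain ⟨g, rfl⟩ := isConj_iff.1 h
  exact (orderOf_conj' g a).symm

theorem orderOf_mul_two {x y : G} (hx : orderOf x = 2) (hy : orderOf y = 2) (hxy : Commute x y)
    (hne : x ≠ y) : orderOf (x * y) = 2 := by
  refine orderOf_eq_prime ?_ ?_
  · rw [hxy.mul_pow, sq, sq, mul_self_eq_one hx, mul_self_eq_one hy, one_mul]
  · intro h
    apply hne
    calc x = y⁻¹ := eq_inv_of_mul_eq_one_left h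
      _ = y := inv_eq_self hy

/-- Two involutions of a finite group that are not conjugate commute with a common involution. -/
theorem exists_invol_commute_of_not_isConj [Finite G] {x y : G} (hx : orderOf x = 2)
    (hy : orderOf y = 2) (h : ¬ IsConj x y) :
    ∃ u : G, orderOf u = 2 ∧ Commute u x ∧ Commute u y := by
  have hxi := inv_eq_self hx
  have hyi := inv_eq_self hy
  have hconj : x * (x * y) * x⁻¹ = (x * y)⁻¹ := by
    rw [← mul_assoc, mul_self_eq_one hx, one_mul, mul_inv_rev, hxi, hyi]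
  have hconj' : ∀ k : ℕ, x * (x * y) ^ k * x⁻¹ = ((x * y) ^ k)⁻¹ := by
    intro k
    rw [← conj_pow, hconj, inv_pow]
  rcases Nat.even_or_odd (orderOf (x * y)) with hev | hodd
  · obtain ⟨k, hk⟩ := hev
    have hpos : 0 < orderOf (x * y) := orderOf_pos _
    have hk0 : k ≠ 0 := by omega
    have hu : orderOf ((x * y) ^ k) = 2 := by
      rw [orderOf_pow' _ hk0, Nat.gcd_eq_right ⟨2, by omega⟩, hk]
      rw [show k + k = 2 * k by omega, Nat.mul_div_cancel _ (Nat.pos_of_ne_zero hk0)]
    have hux : Commute ((x * y) ^ k) x := by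
      have := hconj' k
      rw [inv_eq_self hu, mul_inv_eq_iff_eq_mul] at this
      exact this.symm
    refine ⟨_, hu, hux, ?_⟩
    have h1 : Commute ((x * y) ^ k) (x * y) := Commute.pow_self _ _
    have h2 : Commute ((x * y) ^ k) (x * (x * y)) := hux.mul_right h1
    rwa [← mul_assoc, mul_self_eq_one hx, one_mul] at h2
  · obtain ⟨j, hj⟩ := hodd
    refine absurd (isConj_iff.2 ⟨(x * y) ^ j, ?_⟩) h
    have h1 : x * ((x * y) ^ j)⁻¹ = (x * y) ^ j * x := by
      have := hconj' j
      rw [mul_inv_eq_iff_eq_mul] at this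
      -- x * r = r⁻¹ * x
      calc x * ((x * y) ^ j)⁻¹ = ((x * y) ^ j * ((x * y) ^ j)⁻¹ * x) * ((x * y) ^ j)⁻¹ := by group
        _ = (x * y) ^ j * (x * (x * y) ^ j) * ((x * y) ^ j)⁻¹ := by rw [this]; group
        _ = (x * y) ^ j * x := by group
    rw [mul_assoc, h1, ← mul_assoc, ← pow_add]
    have h2 : (x * y) ^ (j + j) = (x * y)⁻¹ := by
      rw [eq_inv_iff_mul_eq_one, ← pow_succ]
      rw [show j + j + 1 = orderOf (x * y) by omega, pow_orderOf_eq_one]
    rw [h2, mul_inv_rev, hxi, hyi, mul_assoc, mul_self_eq_one hx, mul_one]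

end Cfsg.Agent.H65
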