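import Cfsg.Agent.H65.DihedralFusion
import Cfsg.Agent.H84.Kernel
import Cfsg.Agent.H66.Triangle235
import Cfsg.Agent.H27.ProjLine

/-!
A simple group of order 360 with a dihedral involution centraliser is alternating of degree six:
a structure constant gives a `(2,3,5)`-generated subgroup, whose index is six.
-/

set_option autoImplicit false
set_option linter.style.haveILetI false

open scoped ComplexConjugate
open Finset

namespace Cfsg.Agent.H65.DihedralAltSix

open Cfsg Cfsg.Agent.CharBasic DihedralEight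

universe u

variable {G : Type u} [Group G] [Fintype G] [IsSimpleGroup G]

/-- A proper subgroup of a simple group of order 360 has index at least six. -/
theorem six_le_index (hG : Nat.card G = 360) {H : Subgroup G} (hH : H ≠ ⊤) : 6 ≤ H.index := by
  have hne : MulAction.toPermHom G (G ⧸ H) ≠ 1 := by
    intro h
    apply hH
    refine eq_top_iff.2 fun g _ => ?_
    have := congrArg (fun f : G →* Equiv.Perm (G ⧸ H) => f g ((1 : G) : G ⧸ H)) h
    simp only [MulAction.toPermHom_apply, MulAction.toPerm_apply, MulAction.Quotient.smul_mk,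
      MonoidHom.one_apply, Equiv.Perm.one_apply, smul_eq_mul, mul_one] at this
    rw [QuotientGroup.eq] at this
    simpa using H.inv_mem this
  have hinj : Function.Injective (MulAction.toPermHom G (G ⧸ H)) := by
    rw [← MonoidHom.ker_eq_bot_iff]
    exact (MonoidHom.normal_ker _).eq_bot_or_eq_top.resolve_right fun h =>
      hne (MonoidHom.ext fun g => MonoidHom.mem_ker.1 (h ▸ Subgroup.mem_top g :
        g ∈ (MulAction.toPermHom G (G ⧸ H)).ker))
  have hdvd := Subgroup.card_dvd_of_injective _ hinj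
  rw [hG, Nat.card_perm, ← Subgroup.index_eq_card] at hdvd
  by_contra hlt
  have h5 : H.index.factorial ≤ Nat.factorial 5 := Nat.factorial_le (by omega)
  have := Nat.le_of_dvd (Nat.factorial_pos _) hdvd
  rw [show Nat.factorial 5 = 120 from rfl] at h5
  omega

/-- A group of twice odd order has a subgroup of index two. -/
theorem exists_index_two {K : Type u} [Group K] [Finite K] {m : ℕ} (hm : Odd m)
    (hK : Nat.card K = 2 * m) : ∃ M : Subgroup K, M.Normal ∧ M.index = 2 := by
  haveI : Fact (Nat.Prime 2) := ⟨Nat.prime_two⟩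
  obtain ⟨j, hj⟩ := hm
  let P : Sylow 2 K := default
  have hP : Nat.card ↥(P : Subgroup K) = 2 := by
    obtain ⟨k, hk⟩ := IsPGroup.iff_card.1 P.isPGroup'
    have hk2 : k < 2 := by
      by_contra h
      have : 2 ^ 2 ∣ 2 * m := (pow_dvd_pow 2 (not_lt.1 h)).trans
        (hk ▸ hK ▸ (P : Subgroup K).card_subgroup_dvd_card)
      omega
    have hk0 : k ≠ 0 := by
      intro h
      have h1 : (P : Subgroup K) = ⊥ := Subgroup.card_eq_one.1 (by rw [hk, h, pow_zero])
      exact P.ne_bot_of_dvd_card (hK ▸ dvd_mul_right 2 m) h1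
    rw [hk, show k = 1 by omega, pow_one]
  have hc : Subgroup.normalizer ((P : Subgroup K) : Set K) ≤
      Subgroup.centralizer ((P : Subgroup K) : Set K) := by
    intro n hn a ha
    have key : ∀ b : K, b ∈ (P : Subgroup K) → b ≠ 1 → ∀ c ∈ (P : Subgroup K), c ≠ 1 → c = b := by
      intro b hb hb1 c hc hc1
      by_contra hne
      have h3 : ({1, b, c} : Set K).ncard = 3 := by
        rw [Set.ncard_insert_of_notMem (by simp [hb1.symm, hc1.symm]),
          Set.ncard_pair (Ne.symm hne)]
      have hsub : ({1, b, c} : Set K) ⊆ ((P : Subgroup K) : Set K) := by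
        rintro _ (rfl | rfl | rfl)
        exacts [(P : Subgroup K).one_mem, hb, hc]
      have := Set.ncard_le_ncard hsub
      rw [h3, ← Nat.card_coe_set_eq, show Nat.card ((P : Subgroup K) : Set K) = 2 from hP] at this
      omega
    by_cases ha1 : a = 1
    · subst ha1; simp
    · exact ((mul_inv_eq_iff_eq_mul.1 (key a ha ha1 _ ((Subgroup.mem_normalizer_iff.1 hn a).1 ha)
        (by simpa using ha1))).symm)
  refine ⟨(MonoidHom.transferSylow P hc).ker, inferInstance, ?_⟩
  rw [(MonoidHom.ker_transferSylow_isComplement' P hc).symm.index_eq_card, hP]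

variable (t : G) (e : ↥(Subgroup.centralizer ({t} : Set G)) ≃* DihedralGroup 4)
  (ht : orderOf t = 2) (hone : ∀ v : G, orderOf v = 2 → IsConj t v)

include e ht hone in
open scoped Classical in
/-- An involution times an element of order three can have order five. -/
theorem exists_triangle (hG : Nat.card G = 360) :
    ∃ s v u : G, orderOf s = 2 ∧ orderOf v = 3 ∧ orderOf u = 5 ∧ s * v = u := by
  haveI : Fact (Nat.Prime 3) := ⟨Nat.prime_three⟩
  haveI : Fact (Nat.Prime 5) := ⟨by norm_num⟩
  obtain ⟨χ₀, h9, h1, hrest⟩ := ((card_cases t e ht hone).resolve_left (by omega)).2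
  obtain ⟨v, hv⟩ := exists_prime_orderOf_dvd_card' 3 (G := G) (by rw [hG]; norm_num)
  obtain ⟨u, hu⟩ := exists_prime_orderOf_dvd_card' 5 (G := G) (by rw [hG]; norm_num)
  set I := univ.filter fun w : G => orderOf w = 2 with hI
  set J := univ.filter fun w : G => IsConj v w with hJ
  let triv : IrrCharacter G := ⟨fun _ => 1, isIrrCharacter_one⟩
  have hne : χ₀ ≠ triv := fun h => by rw [h] at h9; norm_num [triv] at h9
  have hzero : ∀ χ : IrrCharacter G, χ ≠ triv → χ ≠ χ₀ →
      (χ : G → ℂ) t = 0 ∨ (χ : G → ℂ) u = 0 := by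
    intro χ h2 h3
    by_cases h4 : (χ : G → ℂ) t = 0
    · exact Or.inl h4
    obtain h5 | ⟨n, hn, h5⟩ := hrest χ h4 fun h => h2 (Subtype.ext h)
    · exact absurd h5 h3
    refine Or.inr (H84.apply_eq_zero_of_defect_zero (p := 5) χ ?_ (hu ▸ dvd_refl _))
    have hcd : Cfsg.charDegree (χ : G → ℂ) = n := by
      have := BlockBasic.apply_one_eq_charDegree χ
      rw [hn] at this
      exact_mod_cast this.symm
    have hdvd := BlockBasic.charDegree_dvd χ
    rw [hcd] at hdvd ⊢
    obtain ⟨k, hk⟩ := hdvd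
    obtain ⟨j, rfl⟩ := h5
    intro h25
    have hn0 : 0 < 5 * j := by
      rcases Nat.eq_zero_or_pos (5 * j) with h | h
      · rw [h, zero_mul] at hk; omega
      · exact h
    rw [hk, Nat.mul_div_cancel_left _ hn0] at h25
    obtain ⟨i, rfl⟩ := h25
    have : 25 ∣ 360 := ⟨j * i, by rw [← hG, hk]; ring⟩
    omega
  have hsum : ∀ f : IrrCharacter G → ℂ, (∀ χ, χ ≠ triv → χ ≠ χ₀ → f χ = 0) →
      ∑ χ, f χ = f triv + f χ₀ := by
    intro f hf
    rw [← Finset.sum_pair hne.symm]
    refine (Finset.sum_subset (Finset.subset_univ _) fun χ _ hχ => ?_).symm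
    simp only [Finset.mem_insert, Finset.mem_singleton, not_or] at hχ
    exact hf χ hχ.1 hχ.2
  have hu0 : conj ((χ₀ : G → ℂ) u) = -1 := by
    have h := second_orthogonality_not_isConj (g := t) (h := u) fun h => by
      have := orderOf_of_isConj h; omega
    rw [hsum _ (fun χ h2 h3 => by rcases hzero χ h2 h3 with h | h <;> rw [h] <;> simp)] at h
    simp only [h1, one_mul] at h
    simp only [triv, map_one, mul_one] at h
    linear_combination h
  by_contra hcon
  push Not at hcon
  have hk0 : ((I ×ˢ J).filter fun p => p.1 * p.2 = u).card = 0 := by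
    refine Finset.card_eq_zero.2 (Finset.filter_eq_empty_iff.2 fun p hp h => ?_)
    simp only [hI, hJ, Finset.mem_product, Finset.mem_filter, Finset.mem_univ, true_and] at hp
    exact hcon p.1 p.2 u hp.1 ((orderOf_of_isConj hp.2).symm.trans hv) hu h
  have hpair := pair_sum u I J (fun y w => by simp [hI, orderOf_conj']) (fun y w => by
    simp only [hJ, Finset.mem_filter, Finset.mem_univ, true_and]
    exact ⟨fun h => h.trans (isConj_iff.2 ⟨y⁻¹, by group⟩), fun h =>
      h.trans (isConj_iff.2 ⟨y, rfl⟩)⟩)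
  rw [hk0, Nat.cast_zero, mul_zero] at hpair
  have hinner : ∀ χ : IrrCharacter G, (χ : G → ℂ) 1 * (∑ s ∈ I, ∑ w ∈ J, (χ : G → ℂ) (s * w)) =
      (I.card : ℂ) * (J.card : ℂ) * (χ : G → ℂ) t * (χ : G → ℂ) v := by
    intro χ
    obtain ⟨ω, hω⟩ := CentralFour.exists_scalar χ.2 (f := fun g => if orderOf g = 2 then 1 else 0)
      (fun g h => by simp only [orderOf_conj'])
    have hω' : ∀ h : G, ∑ s ∈ I, (χ : G → ℂ) (h * s) = ω * (χ : G → ℂ) h := by
      intro h
      rw [← hω h, hI, Finset.sum_filter]
      refine Finset.sum_congr rfl fun g _ => ?_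
      split_ifs <;> simp
    have hsum1 : ∑ s ∈ I, (χ : G → ℂ) s = (I.card : ℂ) * (χ : G → ℂ) t := by
      rw [Finset.sum_congr rfl (fun s hs => ?_), Finset.sum_const, nsmul_eq_mul]
      obtain ⟨y, rfl⟩ := isConj_iff.1 (hone s (Finset.mem_filter.1 hs).2)
      exact IsIrr.isClassFunction χ.2 t y
    have hω1 := hω' 1
    simp only [one_mul] at hω1
    rw [hsum1] at hω1
    have hsum2 : ∑ w ∈ J, (χ : G → ℂ) w = (J.card : ℂ) * (χ : G → ℂ) v := by
      rw [Finset.sum_congr rfl (fun w hw => ?_), Finset.sum_const, nsmul_eq_mul]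
      obtain ⟨y, rfl⟩ := isConj_iff.1 (Finset.mem_filter.1 hw).2
      exact IsIrr.isClassFunction χ.2 v y
    have hrow : ∀ w ∈ J, ∑ s ∈ I, (χ : G → ℂ) (s * w) = ω * (χ : G → ℂ) w := by
      intro w _
      rw [← hω' w]
      refine Finset.sum_congr rfl fun s _ => ?_
      rw [← IsIrr.isClassFunction χ.2 (w * s) s]
      congr 1
      group
    rw [Finset.sum_comm, Finset.sum_congr rfl hrow, ← Finset.mul_sum, hsum2]
    linear_combination (-((J.card : ℂ) * (χ : G → ℂ) v)) * hω1
  rw [hsum] at hpair
  · have hT := hinner triv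
    have hP := hinner χ₀
    rw [h9, h1] at hP
    simp only [triv, one_mul, mul_one] at hT
    rw [hu0] at hpair
    simp only [triv, map_one, one_mul] at hpair
    have hIJ : (I.card : ℂ) * (J.card : ℂ) ≠ 0 := by
      refine mul_ne_zero (Nat.cast_ne_zero.2 (Finset.card_ne_zero.2 ⟨t, ?_⟩))
        (Nat.cast_ne_zero.2 (Finset.card_ne_zero.2 ⟨v, ?_⟩))
      · simp [hI, ht]
      · exact Finset.mem_filter.2 ⟨Finset.mem_univ _, IsConj.refl v⟩
    have hv9 : (χ₀ : G → ℂ) v = 9 := by
      apply mul_left_cancel₀ hIJ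
      linear_combination -hP + 9 * hT - 9 * hpair
    have hn := second_orthogonality_self v
    have hre := congrArg Complex.re hn
    rw [Complex.re_sum, Complex.natCast_re] at hre
    have hle : (81 : ℝ) ≤ (Nat.card ↥(Subgroup.centralizer ({v} : Set G)) : ℝ) := by
      rw [← hre]
      refine le_trans ?_ (Finset.single_le_sum
        (f := fun χ : IrrCharacter G => ((χ : G → ℂ) v * conj ((χ : G → ℂ) v)).re)
        (fun χ _ => ?_) (Finset.mem_univ χ₀))
      · simp only [hv9]
        norm_num
      · rw [Complex.mul_conj, Complex.ofReal_re]; exact Complex.normSq_nonneg _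
    have hle' : 81 ≤ Nat.card ↥(Subgroup.centralizer ({v} : Set G)) := by exact_mod_cast hle
    have hCne : Subgroup.centralizer ({v} : Set G) ≠ ⊤ := by
      intro htop
      have hvZ : v ∈ Subgroup.center G := Subgroup.mem_center_iff.2 fun g =>
        Subgroup.mem_centralizer_singleton_iff.1 (by rw [htop]; trivial)
      rcases (inferInstance : (Subgroup.center G).Normal).eq_bot_or_eq_top with h | h
      · rw [h, Subgroup.mem_bot] at hvZ
        rw [hvZ, orderOf_one] at hv; omega
      · have hxy : inc t e (.r 1) * inc t e (.sr 0) = inc t e (.sr 0) * inc t e (.r 1) :=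
          Subgroup.mem_center_iff.1 (h ▸ Subgroup.mem_top (inc t e (.sr 0))) _
        rw [← map_mul, ← map_mul] at hxy
        exact absurd (inc_injective t e hxy) (by decide)
    have h6 := six_le_index hG hCne
    have hmul := (Subgroup.centralizer ({v} : Set G)).card_mul_index
    rw [hG] at hmul
    nlinarith
  · intro χ h2 h3
    rcases hzero χ h2 h3 with h | h
    · have := hinner χ
      rw [h, mul_zero, zero_mul] at this
      rw [(mul_eq_zero.1 this).resolve_left (IsIrr.one_ne_zero χ.2), mul_zero]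
    · rw [h, map_zero, zero_mul]

include e ht hone in
/-- The recognition of the alternating group of degree six. -/
theorem iso_alternating_six (hG : Nat.card G = 360) :
    Nonempty (G ≃* alternatingGroup (Fin 6)) := by
  classical
  obtain ⟨s, v, u, hs, hv, hu, hsv⟩ := exists_triangle t e ht hone hG
  set K := Subgroup.closure ({v⁻¹, u} : Set G) with hK
  have hx : v⁻¹ ∈ K := Subgroup.subset_closure (Or.inl rfl)
  have hy : u ∈ K := Subgroup.subset_closure (Or.inr rfl)
  have hgen : Subgroup.closure ({⟨v⁻¹, hx⟩, ⟨u, hy⟩} : Set ↥K) = ⊤ := by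
    refine Subgroup.map_injective K.subtype_injective ?_
    rw [MonoidHom.map_closure, ← MonoidHom.range_eq_map, Subgroup.range_subtype, Set.image_pair]
    rfl
  have hv3 : v⁻¹ ^ 3 = 1 := by rw [inv_pow, ← hv, pow_orderOf_eq_one, inv_one]
  have hconj : v⁻¹ * u = v⁻¹ * s * v⁻¹⁻¹ := by rw [inv_inv, ← hsv, mul_assoc]
  have hxy : orderOf (v⁻¹ * u) = 2 := by rw [hconj, orderOf_conj']; exact hs
  obtain ⟨-, hle⟩ := H66.card_triangle235_le (⟨v⁻¹, hx⟩ : ↥K) ⟨u, hy⟩ (Subtype.ext hv3)
    (Subtype.ext (by rw [← hu]; exact pow_orderOf_eq_one u))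
    (Subtype.ext (by rw [← hxy]; exact pow_orderOf_eq_one _)) hgen
  have hd2 : 2 ∣ Nat.card ↥K := hxy ▸ Subgroup.orderOf_dvd_natCard _ (K.mul_mem hx hy)
  have hd3 : 3 ∣ Nat.card ↥K := by
    rw [← hv, ← orderOf_inv]; exact Subgroup.orderOf_dvd_natCard _ hx
  have hd5 : 5 ∣ Nat.card ↥K := hu ▸ Subgroup.orderOf_dvd_natCard _ hy
  have hpos : 0 < Nat.card ↥K := Nat.card_pos
  have hcases : Nat.card ↥K = 30 ∨ Nat.card ↥K = 60 := by omega
  have h60 : Nat.card ↥K = 60 := by
    refine hcases.resolve_left fun h30 => ?_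
    obtain ⟨M, hMn, hM2⟩ := exists_index_two (K := ↥K) (m := 15) (by decide) (by rw [h30])
    have hmem : ∀ (z : ↥K) (n : ℕ), Odd n → z ^ n = 1 → z ∈ M := by
      intro z n hn hz
      obtain ⟨j, rfl⟩ := hn
      have h2 : (z ^ 2) ^ j ∈ M := M.pow_mem (Subgroup.sq_mem_of_index_two hM2 z) j
      rw [pow_succ, pow_mul] at hz
      rw [← inv_inv z, ← eq_inv_of_mul_eq_one_left hz]
      exact M.inv_mem h2
    have htop : M = ⊤ := by
      rw [eq_top_iff, ← hgen, Subgroup.closure_le]
      rintro _ (rfl | rfl)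
      · exact hmem _ 3 (by decide) (Subtype.ext hv3)
      · exact hmem _ 5 (by decide) (Subtype.ext (by rw [← hu]; exact pow_orderOf_eq_one u))
    rw [htop, Subgroup.index_top] at hM2
    omega
  have hidx : K.index = 6 := by
    have := K.card_mul_index
    rw [h60, hG] at this
    omega
  have hinj : Function.Injective (MulAction.toPermHom G (G ⧸ K)) := by
    rw [← MonoidHom.ker_eq_bot_iff]
    refine (MonoidHom.normal_ker _).eq_bot_or_eq_top.resolve_right fun h => ?_
    rw [← Subgroup.normalCore_eq_ker] at h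
    have := K.normalCore_le
    rw [h, top_le_iff] at this
    rw [this, Subgroup.index_top] at hidx
    omega
  exact H27.ProjLine.equiv_alternating _ hinj (by rw [← Subgroup.index_eq_card, hidx]) (by rw [hG]; rfl)

end Cfsg.Agent.H65.DihedralAltSix
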