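import Cfsg.Agent.H65.Constrained
import Cfsg.Agent.Coprime.SchurZassenhaus

namespace Cfsg.Agent.H65

open Cfsg

variable {G : Type*} [Group G] [Finite G] {p : ℕ} [hp : Fact p.Prime]

/-- An element centralising a `p`-subgroup modulo a normal `p'`-subgroup can be corrected to an
element centralising it. -/
theorem exists_mul_mem_centralizer (O P : Subgroup G) [O.Normal] (hO : (Nat.card ↥O).Coprime p)
    (hP : IsPGroup p ↥P) {g : G} (hg : ∀ t ∈ P, g * t * g⁻¹ * t⁻¹ ∈ O) :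
    ∃ o ∈ O, g * o ∈ Subgroup.centralizer (P : Set G) := by
  have hcop : (Nat.card ↥P).Coprime (Nat.card ↥O) := by
    obtain ⟨k, hk⟩ := IsPGroup.iff_card.1 hP
    rw [hk]; exact Nat.Coprime.pow_left k hO.symm
  have hinf : P ⊓ O = ⊥ := Subgroup.inf_eq_bot_of_coprime hcop
  obtain ⟨n, hn, hPn⟩ := Coprime.exists_conj_of_le_sup (N := O) (H₁ := P)
    (H₂ := P.map (MulAut.conj g).toMonoidHom)
    (Subgroup.normalizer_eq_top_iff.2 ‹O.Normal› ▸ le_top)
    (by
      rintro _ ⟨t, ht, rfl⟩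
      have : g * t * g⁻¹ = (g * t * g⁻¹ * t⁻¹) * t := by group
      simp only [MulEquiv.coe_toMonoidHom, MulAut.conj_apply]
      rw [this]
      exact mul_mem (Subgroup.mem_sup_left (hg t ht)) (Subgroup.mem_sup_right ht))
    (Nat.card_congr (P.equivMapOfInjective _ (MulAut.conj g).injective).toEquiv.symm) hcop
    (Or.inl (by haveI := hP.isNilpotent; infer_instance))
  have hn' : g⁻¹ * n⁻¹ * g ∈ O := by
    simpa using ‹O.Normal›.conj_mem _ (inv_mem hn) g⁻¹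
  refine ⟨g⁻¹ * n⁻¹ * g, hn', fun t ht => ?_⟩
  set h := g * (g⁻¹ * n⁻¹ * g) with hh
  have hh' : h = n⁻¹ * g := by rw [hh]; group
  have h1 : h * t * h⁻¹ ∈ P := by
    have h2 : g * t * g⁻¹ ∈ P.map (MulAut.conj n).toMonoidHom := hPn ▸ ⟨t, ht, rfl⟩
    obtain ⟨s, hs, hse⟩ := h2
    simp only [MulEquiv.coe_toMonoidHom, MulAut.conj_apply] at hse
    have : h * t * h⁻¹ = s := by
      rw [hh']
      calc n⁻¹ * g * t * (n⁻¹ * g)⁻¹ = n⁻¹ * (g * t * g⁻¹) * n := by group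
        _ = s := by rw [← hse]; group
    rwa [this]
  have h2 : h * t * h⁻¹ * t⁻¹ ∈ P ⊓ O := by
    refine ⟨P.mul_mem h1 (P.inv_mem ht), ?_⟩
    rw [hh']
    have : n⁻¹ * g * t * (n⁻¹ * g)⁻¹ * t⁻¹ =
        n⁻¹ * (g * t * g⁻¹ * t⁻¹) * (t * n * t⁻¹) := by group
    rw [this]
    exact O.mul_mem (O.mul_mem (O.inv_mem hn) (hg t ht)) (‹O.Normal›.conj_mem _ hn t)
  rw [hinf, Subgroup.mem_bot, mul_inv_eq_one, mul_inv_eq_iff_eq_mul] at h2
  exact h2.symm

/-- The image in `G ⧸ O_{p'}(G)` of a Sylow subgroup of `O_{p',p}(G)` is `O_p(G ⧸ O_{p'}(G))`. -/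
theorem map_sylow_pPrimePCore (P : Sylow p ↥(pPrimePCore p G)) :
    ((P : Subgroup ↥(pPrimePCore p G)).map (pPrimePCore p G).subtype).map
      (QuotientGroup.mk' (pPrimeCore p G)) = pCore p (G ⧸ pPrimeCore p G) := by
  let f : ↥(pPrimePCore p G) →* ↥(pCore p (G ⧸ pPrimeCore p G)) :=
    ((QuotientGroup.mk' (pPrimeCore p G)).comp (pPrimePCore p G).subtype).codRestrict _
      (fun x => x.2)
  have hf : Function.Surjective f := by
    rintro ⟨r, hr⟩
    obtain ⟨a, rfl⟩ := QuotientGroup.mk'_surjective _ r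
    exact ⟨⟨a, hr⟩, rfl⟩
  have hp' : IsPGroup p ↥(pCore p (G ⧸ pPrimeCore p G)) := Cores.pCore_isPGroup
  have htop : (P : Subgroup ↥(pPrimePCore p G)).map f = ⊤ := by
    rw [← Sylow.coe_mapSurjective hf P]
    exact ((Sylow.mapSurjective hf P).3 (hp'.to_subgroup ⊤) le_top).symm
  ext r
  constructor
  · rintro ⟨_, ⟨w, -, rfl⟩, rfl⟩
    exact w.2
  · intro hr
    obtain ⟨w, hw, hwr⟩ := (htop.symm ▸ Subgroup.mem_top (⟨r, hr⟩ : ↥(pCore p _)) :
      (⟨r, hr⟩ : ↥(pCore p (G ⧸ pPrimeCore p G))) ∈ (P : Subgroup _).map f)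
    exact ⟨w, ⟨w, hw, rfl⟩, congrArg Subtype.val hwr⟩

theorem isPConstrained_of_quot
    (h : Subgroup.centralizer (pCore p (G ⧸ pPrimeCore p G) : Set (G ⧸ pPrimeCore p G)) ≤
      pCore p (G ⧸ pPrimeCore p G)) : IsPConstrained p G := by
  intro P c hc
  refine h (fun r hr => ?_)
  rw [SetLike.mem_coe, ← map_sylow_pPrimePCore P] at hr
  obtain ⟨w, hw, rfl⟩ := hr
  rw [← map_mul, ← map_mul, hc w hw]

theorem centralizer_quot (hc : IsPConstrained p G) :
    Subgroup.centralizer (pCore p (G ⧸ pPrimeCore p G) : Set (G ⧸ pPrimeCore p G)) ≤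
      pCore p (G ⧸ pPrimeCore p G) := by
  intro r hr
  obtain ⟨c, rfl⟩ := QuotientGroup.mk'_surjective _ r
  have P : Sylow p ↥(pPrimePCore p G) := default
  obtain ⟨o, ho, hco⟩ := exists_mul_mem_centralizer (pPrimeCore p G)
    ((P : Subgroup ↥(pPrimePCore p G)).map (pPrimePCore p G).subtype) Cores.coprime_card_pPrimeCore
    (P.2.map _) (g := c) (fun t ht => by
      have h1 := hr (QuotientGroup.mk' _ t) (by
        rw [SetLike.mem_coe, ← map_sylow_pPrimePCore P]; exact ⟨t, ht, rfl⟩)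
      rw [← QuotientGroup.eq_one_iff, ← QuotientGroup.mk'_apply]
      simp only [map_mul, map_inv]
      rw [← h1, mul_inv_cancel_right, mul_inv_cancel])
  have h2 : QuotientGroup.mk' (pPrimeCore p G) (c * o) ∈ pCore p (G ⧸ pPrimeCore p G) := hc P hco
  rwa [map_mul, show QuotientGroup.mk' (pPrimeCore p G) o = 1 from
    (QuotientGroup.eq_one_iff o).2 ho, mul_one] at h2

end Cfsg.Agent.H65
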