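import Mathlib

namespace Cfsg.Agent.H65

variable {G : Type*} [Group G] [Finite G] {p : ℕ} [Fact p.Prime] {H : Subgroup G} [H.Normal]

/-- A `p`-subgroup of `G ⧸ H` is the image of a `p`-subgroup containing a given one. -/
theorem exists_pSubgroup_lift (R : Subgroup (G ⧸ H)) (hR : IsPGroup p ↥R) (V : Subgroup G)
    (hV : IsPGroup p ↥V) (hVR : V.map (QuotientGroup.mk' H) ≤ R) :
    ∃ U : Subgroup G, IsPGroup p ↥U ∧ V ≤ U ∧ U.map (QuotientGroup.mk' H) = R := by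
  set f := QuotientGroup.mk' H with hf
  set P := R.comap f with hP
  have hVP : V ≤ P := Subgroup.map_le_iff_le_comap.1 hVR
  let g : ↥P →* ↥R := (f.comp P.subtype).codRestrict R (fun x => x.2)
  have hg : Function.Surjective g := by
    rintro ⟨r, hr⟩
    obtain ⟨a, rfl⟩ := QuotientGroup.mk'_surjective H r
    exact ⟨⟨a, hr⟩, rfl⟩
  obtain ⟨W, hW⟩ := (hV.comap_of_injective P.subtype P.subtype_injective).exists_le_sylow
  refine ⟨(W : Subgroup ↥P).map P.subtype, W.2.map _, fun v hv => ⟨⟨v, hVP hv⟩, hW hv, rfl⟩, ?_⟩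
  have htop : (W : Subgroup ↥P).map g = ⊤ := by
    rw [← Sylow.coe_mapSurjective hg W]
    exact ((Sylow.mapSurjective hg W).3 (hR.to_subgroup ⊤) le_top).symm
  ext r
  constructor
  · rintro ⟨a, ⟨w, -, rfl⟩, rfl⟩
    exact w.2
  · intro hr
    obtain ⟨w, hw, hwr⟩ := (htop.symm ▸ Subgroup.mem_top (⟨r, hr⟩ : ↥R) :
      (⟨r, hr⟩ : ↥R) ∈ (W : Subgroup ↥P).map g)
    exact ⟨w, ⟨w, hw, rfl⟩, congrArg Subtype.val hwr⟩

/-- A `p`-subgroup whose image lies in a Sylow subgroup `S` of `G ⧸ H` lies in a Sylow subgroup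
with image `S`. -/
theorem exists_sylow_lift (S : Sylow p (G ⧸ H)) (V : Subgroup G) (hV : IsPGroup p ↥V)
    (hVS : V.map (QuotientGroup.mk' H) ≤ (S : Subgroup (G ⧸ H))) :
    ∃ S' : Sylow p G, V ≤ (S' : Subgroup G) ∧
      (S' : Subgroup G).map (QuotientGroup.mk' H) = (S : Subgroup (G ⧸ H)) := by
  obtain ⟨U, hU, hVU, hUS⟩ := exists_pSubgroup_lift (S : Subgroup (G ⧸ H)) S.2 V hV hVS
  obtain ⟨S', hS'⟩ := hU.exists_le_sylow
  exact ⟨S', hVU.trans hS', S.3 (S'.2.map _) (hUS.symm.le.trans (Subgroup.map_mono hS'))⟩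

/-- An intersection of two distinct Sylow subgroups of `G ⧸ H` is the image of a subgroup of the
intersection of two distinct Sylow subgroups of `G`. -/
theorem exists_inter_lift (S T : Sylow p (G ⧸ H)) (hne : S ≠ T) :
    ∃ (S' T' : Sylow p G) (U : Subgroup G), S' ≠ T' ∧ U ≤ (S' : Subgroup G) ⊓ (T' : Subgroup G) ∧
      U.map (QuotientGroup.mk' H) = (S : Subgroup (G ⧸ H)) ⊓ (T : Subgroup (G ⧸ H)) := by
  obtain ⟨U, hU, -, hUR⟩ := exists_pSubgroup_lift (H := H)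
    ((S : Subgroup (G ⧸ H)) ⊓ (T : Subgroup (G ⧸ H))) (S.2.to_le inf_le_left) ⊥ IsPGroup.of_bot
    (by simp)
  obtain ⟨S', hS, hS'⟩ := exists_sylow_lift S U hU (hUR ▸ inf_le_left)
  obtain ⟨T', hT, hT'⟩ := exists_sylow_lift T U hU (hUR ▸ inf_le_right)
  refine ⟨S', T', U, fun h => hne ?_, le_inf hS hT, hUR⟩
  exact Sylow.ext (by rw [← hS', ← hT', h])

end Cfsg.Agent.H65
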