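import Cfsg.Agent.Cores.PCore
import Cfsg.Prelude.Def_Local

namespace Cfsg.Agent.H65

open Cfsg

variable {G : Type*} [Group G] {p : ℕ}

theorem pPrimePCore_eq_of_bot (h : pPrimeCore p G = ⊥) : pPrimePCore p G = pCore p G := by
  have hinj : Function.Injective (QuotientGroup.mk' (pPrimeCore p G)) := by
    rw [← MonoidHom.ker_eq_bot_iff, QuotientGroup.ker_mk', h]
  rw [pPrimePCore,
    ← Cores.pCore_map_mulEquiv (MulEquiv.ofBijective _ ⟨hinj, QuotientGroup.mk'_surjective _⟩)]
  exact Subgroup.comap_map_eq_self_of_injective hinj _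

theorem sylow_pPrimePCore_map [Finite G] [Fact p.Prime] (h : pPrimeCore p G = ⊥)
    (P : Sylow p ↥(pPrimePCore p G)) :
    (P : Subgroup ↥(pPrimePCore p G)).map (pPrimePCore p G).subtype = pCore p G := by
  have hp : IsPGroup p ↥(pPrimePCore p G) := by
    rw [pPrimePCore_eq_of_bot h]; exact Cores.pCore_isPGroup
  have htop : (⊤ : Subgroup ↥(pPrimePCore p G)) = P := P.3 (hp.to_subgroup ⊤) le_top
  rw [← htop, ← MonoidHom.range_eq_map, Subgroup.range_subtype, pPrimePCore_eq_of_bot h]

theorem centralizer_pCore_le [Finite G] [Fact p.Prime] (hc : IsPConstrained p G)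
    (h : pPrimeCore p G = ⊥) : Subgroup.centralizer (pCore p G : Set G) ≤ pCore p G := by
  have P : Sylow p ↥(pPrimePCore p G) := default
  have := hc P
  rwa [sylow_pPrimePCore_map h P, pPrimePCore_eq_of_bot h] at this

theorem pPrimeCore_eq_bot_of_centralizer_le [Finite G]
    (h : Subgroup.centralizer (pCore p G : Set G) ≤ pCore p G) : pPrimeCore p G = ⊥ := by
  rw [eq_bot_iff, ← Cores.pCore_inf_pPrimeCore (G := G) (p := p)]
  exact le_inf (fun x hx => h fun y hy => Cores.commute_pCore_pPrimeCore hy hx) le_rfl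

theorem isPConstrained_of_centralizer_le [Finite G] [Fact p.Prime]
    (h : Subgroup.centralizer (pCore p G : Set G) ≤ pCore p G) : IsPConstrained p G := by
  intro P
  have hb := pPrimeCore_eq_bot_of_centralizer_le h
  rwa [sylow_pPrimePCore_map hb P, pPrimePCore_eq_of_bot hb]

end Cfsg.Agent.H65
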