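import Mathlib
import Cfsg.Agent.H65.Invol

/-!
Groups in which every involution has elementary abelian centraliser of order four, all involutions
being conjugate: the order is 12 or 60, by counting ordered pairs of involutions.
-/

namespace Cfsg.Agent.H65.FourCount

open Finset

variable {G : Type*} [Group G] [Fintype G] [DecidableEq G]

theorem card_eq_image_mul {β : Type*} [DecidableEq β] (f : G → β) (K : Finset G)
    (h : ∀ a b : G, f b = f a ↔ a⁻¹ * b ∈ K) :
    Fintype.card G = (univ.image f).card * K.card := by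
  rw [← Finset.card_univ, Finset.card_eq_sum_card_image f univ, Finset.sum_const_nat]
  intro b hb
  obtain ⟨a, -, rfl⟩ := Finset.mem_image.1 hb
  refine Finset.card_bij' (fun c _ => a⁻¹ * c) (fun k _ => a * k) ?_ ?_ ?_ ?_
  · intro c hc; exact (h a c).1 (Finset.mem_filter.1 hc).2
  · intro k hk
    exact Finset.mem_filter.2 ⟨Finset.mem_univ _, (h a (a * k)).2 (by simpa using hk)⟩
  · intro c _; simp
  · intro k _; simp

theorem sq_eq_one_of {v : G} (hv : v ≠ 1) (h : v ^ 2 = 1) : orderOf v = 2 :=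
  orderOf_eq_prime h hv

variable (h4 : ∀ t : G, orderOf t = 2 → Nat.card ↥(Subgroup.centralizer ({t} : Set G)) = 4 ∧
    ∀ c ∈ Subgroup.centralizer ({t} : Set G), c ^ 2 = 1)
  (hone : ∀ s t : G, orderOf s = 2 → orderOf t = 2 → IsConj s t)

/-- Centraliser of an element, as a finset. -/
noncomputable def cen (g : G) : Finset G := univ.filter fun a => a * g = g * a

/-- The involutions. -/
noncomputable def invs : Finset G := univ.filter fun t => orderOf t = 2

/-- The strongly real elements that are not involutions. -/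
noncomputable def sr : Finset G :=
  univ.filter fun g => g ≠ 1 ∧ orderOf g ≠ 2 ∧ ∃ t, orderOf t = 2 ∧ t * g * t⁻¹ = g⁻¹

theorem mem_cen {g a : G} : a ∈ cen g ↔ a * g = g * a := by simp [cen]

theorem card_cen (g : G) : (cen g).card = Nat.card ↥(Subgroup.centralizer ({g} : Set G)) := by
  classical
  rw [Nat.card_eq_fintype_card]
  refine (Fintype.card_of_subtype _ fun a => ?_).symm
  rw [mem_cen, Subgroup.mem_centralizer_singleton_iff]

include h4 in
theorem sq_of_commute {t c : G} (ht : orderOf t = 2) (hc : c * t = t * c) : c ^ 2 = 1 :=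
  (h4 t ht).2 c (Subgroup.mem_centralizer_singleton_iff.2 hc)

include h4 in
/-- Structure of the centraliser of a strongly real element. -/
theorem sr_props {g t : G} (hg : g ≠ 1) (hg2 : orderOf g ≠ 2) (ht : orderOf t = 2)
    (hgt : t * g * t⁻¹ = g⁻¹) :
    (∀ v ∈ cen g, v ^ 2 = 1 → v = 1) ∧ (∀ a ∈ cen g, t * a * t⁻¹ = a⁻¹) := by
  have hfree : ∀ v ∈ cen g, v ^ 2 = 1 → v = 1 := by
    intro v hv hv2
    by_contra hv1
    have h1 := sq_of_commute h4 (sq_eq_one_of hv1 hv2) (mem_cen.1 hv).symm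
    exact hg2 (sq_eq_one_of hg h1)
  refine ⟨hfree, ?_⟩
  have htinv : t⁻¹ = t := inv_eq_self ht
  have hconj : ∀ a ∈ cen g, t * a * t⁻¹ ∈ cen g := by
    intro a ha
    rw [mem_cen] at ha ⊢
    have hgi : a * g⁻¹ = g⁻¹ * a := (show Commute a g from ha).inv_right.eq
    have hg' : t * g⁻¹ * t⁻¹ = g := by
      rw [← inv_inj, mul_inv_rev, mul_inv_rev, inv_inv, inv_inv, ← mul_assoc, hgt]
    calc t * a * t⁻¹ * g = t * a * t⁻¹ * (t * g⁻¹ * t⁻¹) := by rw [hg']
      _ = t * (a * g⁻¹) * t⁻¹ := by group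
      _ = (t * g⁻¹ * t⁻¹) * (t * a * t⁻¹) := by rw [hgi]; group
      _ = g * (t * a * t⁻¹) := by rw [hg']
  -- `a ↦ a⁻¹ (t a t⁻¹)` is a bijection of the centraliser
  intro b hb
  let f : {a // a ∈ cen g} → {a // a ∈ cen g} := fun a =>
    ⟨(a : G)⁻¹ * (t * a * t⁻¹), by
      have h1 := hconj a a.2
      have h2 := a.2
      rw [mem_cen] at h1 h2 ⊢
      exact ((show Commute (a : G) g from h2).inv_left.mul_left h1).eq⟩
  have hinj : Function.Injective f := by
    intro x y h
    have h : (x : G)⁻¹ * (t * x * t⁻¹) = (y : G)⁻¹ * (t * y * t⁻¹) := congrArg Subtype.val h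
    have hc : ((y : G) * (x : G)⁻¹) * t = t * ((y : G) * (x : G)⁻¹) := by
      calc (y : G) * (x : G)⁻¹ * t = y * ((x : G)⁻¹ * (t * x * t⁻¹)) * t * (x : G)⁻¹ := by group
        _ = y * ((y : G)⁻¹ * (t * y * t⁻¹)) * t * (x : G)⁻¹ := by rw [h]
        _ = t * ((y : G) * (x : G)⁻¹) := by group
    have hmem : (y : G) * (x : G)⁻¹ ∈ cen g := by
      have h1 := x.2
      have h2 := y.2
      rw [mem_cen] at h1 h2 ⊢
      exact ((show Commute (y : G) g from h2).mul_left (show Commute (x : G) g from h1).inv_left).eq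
    exact Subtype.ext (mul_inv_eq_one.1 (hfree _ hmem (sq_of_commute h4 ht hc))).symm
  obtain ⟨x, hx⟩ := Finite.injective_iff_surjective.1 hinj ⟨b, hb⟩
  have hx : (x : G)⁻¹ * (t * x * t⁻¹) = b := congrArg Subtype.val hx
  rw [← hx, mul_inv_rev, inv_inv, mul_inv_rev, mul_inv_rev, inv_inv, htinv]
  have h2 : t * t = 1 := mul_self_eq_one ht
  calc t * ((x : G)⁻¹ * (t * x * t)) * t = t * ((x : G)⁻¹ * t) * x * (t * t) := by group
    _ = t * ((x : G)⁻¹ * t) * x := by rw [h2, mul_one]
    _ = _ := by simp only [mul_assoc]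

include h4 in
theorem cen_comm {g t : G} (hg : g ≠ 1) (hg2 : orderOf g ≠ 2) (ht : orderOf t = 2)
    (hgt : t * g * t⁻¹ = g⁻¹) {a b : G} (ha : a ∈ cen g) (hb : b ∈ cen g) : a * b = b * a := by
  have hinv := (sr_props h4 hg hg2 ht hgt).2
  have hab : a * b ∈ cen g := by
    rw [mem_cen] at ha hb ⊢
    exact ((show Commute a g from ha).mul_left (show Commute b g from hb)).eq
  have h1 := hinv _ hab
  rw [show t * (a * b) * t⁻¹ = t * a * t⁻¹ * (t * b * t⁻¹) by group, hinv a ha, hinv b hb,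
    ← mul_inv_rev, inv_inj] at h1
  exact h1.symm

include h4 in
theorem cen_eq {g t a : G} (hg : g ≠ 1) (hg2 : orderOf g ≠ 2) (ht : orderOf t = 2)
    (hgt : t * g * t⁻¹ = g⁻¹) (ha : a ∈ cen g) (ha1 : a ≠ 1) :
    orderOf a ≠ 2 ∧ cen a = cen g := by
  obtain ⟨hfree, hinv⟩ := sr_props h4 hg hg2 ht hgt
  have ha2 : orderOf a ≠ 2 := fun h => ha1 (hfree a ha (by rw [← h, pow_orderOf_eq_one]))
  refine ⟨ha2, ?_⟩
  ext c
  constructor
  · intro hc
    have hga : g ∈ cen a := mem_cen.2 (mem_cen.1 ha).symm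
    exact mem_cen.2 (cen_comm h4 ha1 ha2 ht (hinv a ha) hc hga)
  · intro hc
    exact mem_cen.2 (cen_comm h4 hg hg2 ht hgt hc ha)

include h4 in
theorem card_inv_eq {g : G} (hg : g ∈ sr (G := G)) :
    ((univ : Finset G).filter fun t => orderOf t = 2 ∧ orderOf (g * t) = 2).card = (cen g).card := by
  obtain ⟨-, hg1, hg2, t, ht, hgt⟩ := Finset.mem_filter.1 hg
  obtain ⟨hfree, hinv⟩ := sr_props h4 hg1 hg2 ht hgt
  have htt : t⁻¹ = t := inv_eq_self ht
  have hat : ∀ a ∈ cen g, orderOf (a * t) = 2 := by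
    intro a ha
    refine sq_eq_one_of ?_ ?_
    · intro h
      have hta : t = a⁻¹ := eq_inv_of_mul_eq_one_right h
      refine ne_one_of_orderOf ht (hfree t ?_ (by rw [← ht, pow_orderOf_eq_one]))
      rw [hta, mem_cen]
      exact ((show Commute a g from mem_cen.1 ha).inv_left).eq
    · calc (a * t) ^ 2 = a * (t * a * t⁻¹) := by rw [htt, sq]; simp only [mul_assoc]
        _ = 1 := by rw [hinv a ha, mul_inv_cancel]
  refine Finset.card_bij' (fun s _ => s * t⁻¹) (fun a _ => a * t) ?_ ?_ ?_ ?_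
  · intro s hs
    obtain ⟨-, hs, hgs⟩ := Finset.mem_filter.1 hs
    rw [mem_cen]
    have h1 := mul_self_eq_one hgs
    have hsg : s * g * s⁻¹ = g⁻¹ := by
      rw [inv_eq_self hs, eq_inv_iff_mul_eq_one]
      calc s * g * s * g = g⁻¹ * (g * s * (g * s)) * g := by group
        _ = 1 := by rw [h1, mul_one, inv_mul_cancel]
    have hsg' : s * g⁻¹ * s⁻¹ = g := by
      rw [← inv_inj, mul_inv_rev, mul_inv_rev, inv_inv, inv_inv, ← mul_assoc, hsg]
    have e : t⁻¹ * g = g⁻¹ * t⁻¹ := by
      rw [htt, ← hgt, htt, mul_assoc, mul_assoc, mul_self_eq_one ht, mul_one]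
    calc s * t⁻¹ * g = s * (g⁻¹ * t⁻¹) := by rw [mul_assoc, e]
      _ = (s * g⁻¹ * s⁻¹) * (s * t⁻¹) := by group
      _ = g * (s * t⁻¹) := by rw [hsg']
  · intro a ha
    refine Finset.mem_filter.2 ⟨Finset.mem_univ _, hat a ha, ?_⟩
    rw [← mul_assoc]
    refine hat _ (mem_cen.2 ?_)
    rw [mem_cen] at ha
    exact ((Commute.refl g).mul_left (show Commute a g from ha)).eq
  · intro s _; simp
  · intro a _; simp

/-- The orbit of the centraliser of `g` under conjugation. -/
noncomputable def orb (g : G) : Finset (Finset G) := univ.image fun h : G => cen (h * g * h⁻¹)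

theorem cen_conj (h g : G) : cen (h * g * h⁻¹) = (cen g).image fun a => h * a * h⁻¹ := by
  ext c
  rw [Finset.mem_image, mem_cen]
  constructor
  · intro hc
    refine ⟨h⁻¹ * c * h, mem_cen.2 ?_, by group⟩
    calc h⁻¹ * c * h * g = h⁻¹ * (c * (h * g * h⁻¹)) * h := by group
      _ = h⁻¹ * ((h * g * h⁻¹) * c) * h := by rw [hc]
      _ = g * (h⁻¹ * c * h) := by group
  · rintro ⟨a, ha, rfl⟩
    calc h * a * h⁻¹ * (h * g * h⁻¹) = h * (a * g) * h⁻¹ := by group
      _ = h * (g * a) * h⁻¹ := by rw [mem_cen.1 ha]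
      _ = h * g * h⁻¹ * (h * a * h⁻¹) := by group

theorem card_cen_conj (h g : G) : (cen (h * g * h⁻¹)).card = (cen g).card := by
  rw [cen_conj]
  exact Finset.card_image_of_injective _ fun a b e => mul_left_cancel (mul_right_cancel e)

include h4 hone in
theorem orb_card {g : G} (hg : g ∈ sr (G := G)) :
    (orb g).card * (2 * (cen g).card) = Fintype.card G := by
  obtain ⟨-, hg1, hg2, t, ht, hgt⟩ := Finset.mem_filter.1 hg
  obtain ⟨hfree, hinv⟩ := sr_props h4 hg1 hg2 ht hgt
  have htt : t⁻¹ = t := inv_eq_self ht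
  set A := cen g with hA
  set K := A ∪ A.image (fun a => a * t) with hK
  have hKcard : K.card = 2 * A.card := by
    rw [hK, Finset.card_union_of_disjoint, Finset.card_image_of_injective _ (mul_left_injective t)]
    · ring
    · rw [Finset.disjoint_left]
      intro c hc hc'
      obtain ⟨a, ha, rfl⟩ := Finset.mem_image.1 hc'
      refine ne_one_of_orderOf ht (hfree t ?_ (by rw [← ht, pow_orderOf_eq_one]))
      rw [hA, mem_cen] at ha hc ⊢
      have := (show Commute a g from ha).inv_left.mul_left (show Commute (a * t) g from hc)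
      rwa [inv_mul_cancel_left] at this
  rw [← hKcard]
  refine (card_eq_image_mul _ K fun a b => ?_).symm
  have e : cen (b * g * b⁻¹) = cen (a * g * a⁻¹) ↔
      cen ((a⁻¹ * b) * g * (a⁻¹ * b)⁻¹) = A := by
    constructor
    · intro h
      rw [show (a⁻¹ * b) * g * (a⁻¹ * b)⁻¹ = a⁻¹ * (b * g * b⁻¹) * a⁻¹⁻¹ by group, cen_conj, h,
        ← cen_conj, show a⁻¹ * (a * g * a⁻¹) * a⁻¹⁻¹ = g by group]
    · intro h
      have := congrArg (Finset.image fun c => a * c * a⁻¹) h
      rw [← cen_conj, hA, ← cen_conj] at this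
      rwa [show a * ((a⁻¹ * b) * g * (a⁻¹ * b)⁻¹) * a⁻¹ = b * g * b⁻¹ by group] at this
  rw [e]
  generalize a⁻¹ * b = h
  constructor
  · intro hh
    have hmem : ∀ c ∈ A, h * c * h⁻¹ ∈ A := by
      intro c hc
      rw [← hh, cen_conj]
      exact Finset.mem_image_of_mem _ hc
    -- `h t h⁻¹` inverts `g`
    have hg' : h * g * h⁻¹ ∈ A := hmem g (mem_cen.2 rfl)
    have ht' : orderOf (h * t * h⁻¹) = 2 := (orderOf_conj' h t).trans ht
    have hinv' : h * t * h⁻¹ * g * (h * t * h⁻¹)⁻¹ = g⁻¹ := by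
      obtain ⟨c, hc, hcg⟩ : ∃ c ∈ A, h * c * h⁻¹ = g := by
        have : g ∈ cen (h * g * h⁻¹) := by rw [hh]; exact mem_cen.2 rfl
        rw [cen_conj] at this
        exact Finset.mem_image.1 this
      rw [← hcg]
      calc h * t * h⁻¹ * (h * c * h⁻¹) * (h * t * h⁻¹)⁻¹ = h * (t * c * t⁻¹) * h⁻¹ := by group
        _ = (h * c * h⁻¹)⁻¹ := by rw [hinv c hc]; group
    set a0 := h * t * h⁻¹ * t⁻¹ with ha0
    have ha0A : a0 ∈ A := by
      rw [hA, mem_cen]
      have e1 : t⁻¹ * g = g⁻¹ * t⁻¹ := by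
        rw [htt, ← hgt, htt, mul_assoc, mul_assoc, mul_self_eq_one ht, mul_one]
      have e2 : h * t * h⁻¹ * g⁻¹ = g * (h * t * h⁻¹) := by
        have := congrArg (·⁻¹) hinv'
        simp only [mul_inv_rev, inv_inv] at this
        calc h * t * h⁻¹ * g⁻¹ = (h * t * h⁻¹ * (g⁻¹ * (h * (t⁻¹ * h⁻¹)))) * (h * t * h⁻¹) := by group
          _ = _ := by rw [this]
      calc a0 * g = h * t * h⁻¹ * g⁻¹ * t⁻¹ := by rw [ha0, mul_assoc, e1, ← mul_assoc]
        _ = g * a0 := by rw [e2, ha0]; group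
    -- square root
    let sqf : {a // a ∈ A} → {a // a ∈ A} := fun b => ⟨(b : G) * b, by
      have hb' : Commute (b : G) g := mem_cen.1 (show (b : G) ∈ cen g from b.2)
      exact mem_cen.2 (hb'.mul_left hb').eq⟩
    have hsq : Function.Surjective sqf := by
      refine Finite.injective_iff_surjective.1 ?_
      intro p q hpq
      have hpq : (p : G) * p = (q : G) * q := congrArg Subtype.val hpq
      have hcm : Commute (p : G) q := cen_comm h4 hg1 hg2 ht hgt p.2 q.2
      have hp' : Commute (p : G) g := mem_cen.1 (show (p : G) ∈ cen g from p.2)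
      have hq' : Commute (q : G) g := mem_cen.1 (show (q : G) ∈ cen g from q.2)
      have : (p : G) * (q : G)⁻¹ = 1 := hfree _ (mem_cen.2 (hp'.mul_left hq'.inv_left).eq) (by
        rw [hcm.inv_right.mul_pow, sq, sq, hpq, ← mul_inv_rev, mul_inv_cancel])
      exact Subtype.ext (mul_inv_eq_one.1 this)
    obtain ⟨⟨b0, hb0⟩, hb0e⟩ := hsq ⟨a0, ha0A⟩
    have hb0e : b0 * b0 = a0 := congrArg Subtype.val hb0e
    set c := b0⁻¹ * h with hc
    have hct : c * t = t * c := by
      have hti := hinv b0 hb0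
      calc c * t = b0⁻¹ * a0 * t * h := by rw [hc, ha0]; group
        _ = b0 * t * h := by rw [← hb0e]; group
        _ = (t * t) * b0 * t⁻¹ * h := by rw [mul_self_eq_one ht, one_mul, htt]
        _ = t * (t * b0 * t⁻¹) * h := by group
        _ = t * c := by rw [hti, hc, mul_assoc]
    have hcA : ∀ d ∈ A, c * d * c⁻¹ ∈ A := by
      intro d hd
      have h1 := hmem d hd
      have : c * d * c⁻¹ = h * d * h⁻¹ := by
        calc c * d * c⁻¹ = b0⁻¹ * (h * d * h⁻¹ * b0) := by rw [hc]; group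
          _ = _ := by rw [cen_comm h4 hg1 hg2 ht hgt h1 hb0, inv_mul_cancel_left]
      rw [this]; exact h1
    rcases eq_or_ne c 1 with hc1 | hc1
    · refine Finset.mem_union_left _ ?_
      rwa [← (inv_mul_eq_one.1 hc1)]
    rcases eq_or_ne c t with hct' | hct'
    · refine Finset.mem_union_right _ (Finset.mem_image.2 ⟨b0, hb0, ?_⟩)
      rw [← hct', hc]; group
    exfalso
    have hc2 : orderOf c = 2 := sq_eq_one_of hc1 (sq_of_commute h4 ht hct)
    -- c and c * t act without fixed points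
    have hinvert : ∀ v : G, orderOf v = 2 → (∀ d ∈ A, v * d * v⁻¹ ∈ A) →
        ∀ d ∈ A, v * d * v⁻¹ = d⁻¹ := by
      intro v hv hvA d hd
      let f : {a // a ∈ A} → {a // a ∈ A} := fun a => ⟨(a : G)⁻¹ * (v * a * v⁻¹), by
        have h2 : Commute (v * a * v⁻¹) g := mem_cen.1 (show _ ∈ cen g from hvA a a.2)
        have h3 : Commute (a : G) g := mem_cen.1 (show (a : G) ∈ cen g from a.2)
        exact mem_cen.2 (h3.inv_left.mul_left h2).eq⟩
      have hinj : Function.Injective f := by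
        intro p q e
        have e : (p : G)⁻¹ * (v * p * v⁻¹) = (q : G)⁻¹ * (v * q * v⁻¹) := congrArg Subtype.val e
        have hcm : ((q : G) * (p : G)⁻¹) * v = v * ((q : G) * (p : G)⁻¹) := by
          calc (q : G) * (p : G)⁻¹ * v = q * ((p : G)⁻¹ * (v * p * v⁻¹)) * v * (p : G)⁻¹ := by group
            _ = q * ((q : G)⁻¹ * (v * q * v⁻¹)) * v * (p : G)⁻¹ := by rw [e]
            _ = v * ((q : G) * (p : G)⁻¹) := by group
        have hmem : (q : G) * (p : G)⁻¹ ∈ A := by
          have h1 : Commute (p : G) g := mem_cen.1 (show (p : G) ∈ cen g from p.2)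
          have h2 : Commute (q : G) g := mem_cen.1 (show (q : G) ∈ cen g from q.2)
          exact mem_cen.2 (h2.mul_left h1.inv_left).eq
        exact Subtype.ext (mul_inv_eq_one.1 (hfree _ hmem (sq_of_commute h4 hv hcm))).symm
      obtain ⟨p, hp⟩ := Finite.injective_iff_surjective.1 hinj ⟨d, hd⟩
      have hp : (p : G)⁻¹ * (v * p * v⁻¹) = d := congrArg Subtype.val hp
      have hvv := mul_self_eq_one hv
      rw [← hp, mul_inv_rev, inv_inv, mul_inv_rev, mul_inv_rev, inv_inv, inv_eq_self hv]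
      calc v * ((p : G)⁻¹ * (v * p * v)) * v = v * ((p : G)⁻¹ * v) * p * (v * v) := by group
        _ = v * ((p : G)⁻¹ * v) * p := by rw [hvv, mul_one]
        _ = _ := by simp only [mul_assoc]
    have hgA : g ∈ A := mem_cen.2 rfl
    have htg : t * g * t⁻¹ ∈ A := by
      rw [hgt, hA, mem_cen]; exact (Commute.refl g).inv_left.eq
    have e1 := hinvert c hc2 hcA g hgA
    have e2 := hinvert (c * t) (orderOf_mul_two hc2 ht hct hct') (fun d hd => by
      have : c * t * d * (c * t)⁻¹ = c * (t * d * t⁻¹) * c⁻¹ := by group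
      rw [this, hinv d hd]
      refine hcA _ ?_
      rw [hA, mem_cen] at hd ⊢
      exact (show Commute d g from hd).inv_left.eq) g hgA
    have e3 : c * t * g * (c * t)⁻¹ = g := by
      calc c * t * g * (c * t)⁻¹ = c * (t * g * t⁻¹) * c⁻¹ := by group
        _ = c * g⁻¹ * c⁻¹ := by rw [hgt]
        _ = (c * g * c⁻¹)⁻¹ := by group
        _ = g := by rw [e1, inv_inv]
    exact hg2 (sq_eq_one_of hg1 (by rw [sq]; nth_rw 2 [← inv_inv g]; rw [e2.symm.trans e3]; group))
  · intro hh
    have hsame : ∀ k : G, (∀ d ∈ A, k * d * k⁻¹ ∈ A) → cen (k * g * k⁻¹) = A := by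
      intro k hk
      refine Finset.eq_of_subset_of_card_le ?_ (by rw [card_cen_conj])
      rw [cen_conj]
      intro c hc
      obtain ⟨d, hd, rfl⟩ := Finset.mem_image.1 hc
      exact hk d hd
    rcases Finset.mem_union.1 hh with hh | hh
    · refine hsame h fun d hd => ?_
      rw [cen_comm h4 hg1 hg2 ht hgt hh hd, mul_inv_cancel_right]; exact hd
    · obtain ⟨a, ha, rfl⟩ := Finset.mem_image.1 hh
      refine hsame _ fun d hd => ?_
      have hdi : d⁻¹ ∈ A := by
        rw [hA, mem_cen] at hd ⊢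
        exact (show Commute d g from hd).inv_left.eq
      rw [show a * t * d * (a * t)⁻¹ = a * (t * d * t⁻¹) * a⁻¹ by group, hinv d hd,
        cen_comm h4 hg1 hg2 ht hgt ha hdi, mul_inv_cancel_right]
      exact hdi

include h4 hone in
theorem card_eq_four_mul {x : G} (hx : orderOf x = 2) :
    Fintype.card G = 4 * (invs (G := G)).card := by
  have h := card_eq_image_mul (fun h : G => h * x * h⁻¹) (cen x) (fun a b => by
    rw [mem_cen]
    constructor
    · intro e
      calc a⁻¹ * b * x = a⁻¹ * (b * x * b⁻¹) * b := by group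
        _ = a⁻¹ * (a * x * a⁻¹) * b := by rw [e]
        _ = x * (a⁻¹ * b) := by group
    · intro e
      calc b * x * b⁻¹ = a * (a⁻¹ * b * x) * b⁻¹ := by group
        _ = a * (x * (a⁻¹ * b)) * b⁻¹ := by rw [e]
        _ = a * x * a⁻¹ := by group)
  have hi : (univ.image fun h : G => h * x * h⁻¹) = invs := by
    ext t
    simp only [Finset.mem_image, Finset.mem_univ, true_and, invs, Finset.mem_filter]
    refine ⟨fun ⟨h, e⟩ => e ▸ (orderOf_conj' h x).trans hx, fun ht => ?_⟩
    exact isConj_iff.1 (hone x t hx ht)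
  rw [h, hi, card_cen, (h4 x hx).1, mul_comm]

include h4 hone in
/-- The order is 12 or 60. -/
theorem card_invs {x : G} (hx : orderOf x = 2) :
    (invs (G := G)).card = 3 ∨ (invs (G := G)).card = 15 := by
  set n := (invs (G := G)).card with hn
  have hG := card_eq_four_mul h4 hone hx
  rw [← hn] at hG
  -- pair counting
  have hpairs : n * n = 3 * n + ∑ g ∈ sr (G := G), (cen g).card := by
    have h1 : n * n = ∑ g : G, (invs.filter fun t => orderOf (g * t) = 2).card := by
      rw [← Finset.card_product, Finset.card_eq_sum_card_fiberwise (f := fun p : G × G => p.1 * p.2)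
        (t := univ) (fun _ _ => Finset.mem_univ _)]
      refine Finset.sum_congr rfl fun g _ => ?_
      refine Finset.card_bij' (fun p _ => p.2) (fun t _ => (g * t, t)) ?_ ?_ ?_ ?_
      · intro p hp
        obtain ⟨hp, e⟩ := Finset.mem_filter.1 hp
        obtain ⟨h1, h2⟩ := Finset.mem_product.1 hp
        refine Finset.mem_filter.2 ⟨h2, ?_⟩
        have h2' : orderOf p.2 = 2 := (Finset.mem_filter.1 h2).2
        rw [← e, mul_assoc, mul_self_eq_one h2', mul_one]
        exact (Finset.mem_filter.1 h1).2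
      · intro t ht
        obtain ⟨ht, e⟩ := Finset.mem_filter.1 ht
        refine Finset.mem_filter.2 ⟨Finset.mem_product.2 ⟨Finset.mem_filter.2 ⟨Finset.mem_univ _, e⟩, ht⟩, ?_⟩
        change g * t * t = g
        rw [mul_assoc, mul_self_eq_one (Finset.mem_filter.1 ht).2, mul_one]
      · intro p hp
        obtain ⟨hp, e⟩ := Finset.mem_filter.1 hp
        have h2' : orderOf p.2 = 2 := (Finset.mem_filter.1 (Finset.mem_product.1 hp).2).2
        refine Prod.ext ?_ rfl
        change g * p.2 = p.1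
        rw [← e, mul_assoc, mul_self_eq_one h2', mul_one]
      · intro t _; rfl
    have h2 : ∀ g : G, (invs.filter fun t => orderOf (g * t) = 2).card =
        (if g = 1 then n else 0) + (if g ∈ invs (G := G) then 2 else 0) +
          (if g ∈ sr (G := G) then (cen g).card else 0) := by
      intro g
      by_cases h1 : g = 1
      · subst h1
        have hni : (1 : G) ∉ invs (G := G) := by simp [invs]
        have hns : (1 : G) ∉ sr (G := G) := by simp [sr]
        rw [if_pos rfl, if_neg hni, if_neg hns, add_zero, add_zero, hn]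
        refine congrArg Finset.card (Finset.filter_true_of_mem fun t ht => ?_)
        rw [one_mul]; exact (Finset.mem_filter.1 ht).2
      by_cases h2 : orderOf g = 2
      · have hi : g ∈ invs (G := G) := Finset.mem_filter.2 ⟨Finset.mem_univ _, h2⟩
        have hns : g ∉ sr (G := G) := fun h => (Finset.mem_filter.1 h).2.2.1 h2
        rw [if_neg h1, if_pos hi, if_neg hns, zero_add, add_zero]
        have e : (invs.filter fun t => orderOf (g * t) = 2) = ((cen g).erase 1).erase g := by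
          ext t
          simp only [invs, Finset.mem_filter, Finset.mem_univ, true_and, Finset.mem_erase, mem_cen]
          constructor
          · rintro ⟨ht, hgt⟩
            refine ⟨?_, ne_one_of_orderOf ht, ?_⟩
            · intro e; subst e
              exact ne_one_of_orderOf hgt (mul_self_eq_one ht)
            · have h := inv_eq_self hgt
              rw [mul_inv_rev, inv_eq_self ht, inv_eq_self h2] at h
              exact h
          · rintro ⟨hne, hne1, hc⟩
            have ht2 := sq_eq_one_of hne1 (sq_of_commute h4 h2 hc)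
            exact ⟨ht2, orderOf_mul_two h2 ht2 hc.symm (Ne.symm hne)⟩
        rw [e, Finset.card_erase_of_mem (Finset.mem_erase.2 ⟨h1, mem_cen.2 rfl⟩),
          Finset.card_erase_of_mem (mem_cen.2 (by simp)), card_cen, (h4 g h2).1]
      have hni : g ∉ invs (G := G) := fun h => h2 (Finset.mem_filter.1 h).2
      rw [if_neg h1, if_neg hni, zero_add, zero_add]
      by_cases h3 : g ∈ sr (G := G)
      · rw [if_pos h3, ← card_inv_eq h4 h3]
        refine congrArg Finset.card ?_
        ext t; simp [invs]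
      · rw [if_neg h3, Finset.card_eq_zero, Finset.filter_eq_empty_iff]
        intro t ht hgt
        have ht := (Finset.mem_filter.1 ht).2
        refine h3 (Finset.mem_filter.2 ⟨Finset.mem_univ _, h1, h2, t, ht, ?_⟩)
        rw [inv_eq_self ht, eq_inv_iff_mul_eq_one]
        calc t * g * t * g = g⁻¹ * (g * t * (g * t)) * g := by group
          _ = 1 := by rw [mul_self_eq_one hgt, mul_one, inv_mul_cancel]
    rw [h1, Finset.sum_congr rfl fun g _ => h2 g, Finset.sum_add_distrib, Finset.sum_add_distrib,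
      Finset.sum_ite_eq', if_pos (Finset.mem_univ _), Finset.sum_ite_mem, Finset.sum_ite_mem,
      Finset.univ_inter, Finset.univ_inter, Finset.sum_const, smul_eq_mul, ← hn]
    ring
  -- partition by centralisers
  set 𝒜 : Finset (Finset G) := (sr (G := G)).image cen with h𝒜
  have hmem : ∀ B ∈ 𝒜, ∃ g ∈ sr (G := G), cen g = B := fun B hB => Finset.mem_image.1 hB
  have hfib : ∀ B ∈ 𝒜, ((sr (G := G)).filter fun g => cen g = B) = B.erase 1 := by
    intro B hB
    obtain ⟨g, hg, rfl⟩ := hmem B hB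
    obtain ⟨-, hg1, hg2, t, ht, hgt⟩ := Finset.mem_filter.1 hg
    ext a
    simp only [Finset.mem_filter, Finset.mem_erase]
    constructor
    · rintro ⟨ha, e⟩
      exact ⟨(Finset.mem_filter.1 ha).2.1, e ▸ mem_cen.2 rfl⟩
    · rintro ⟨ha1, ha⟩
      obtain ⟨ha2, e⟩ := cen_eq h4 hg1 hg2 ht hgt ha ha1
      exact ⟨Finset.mem_filter.2 ⟨Finset.mem_univ _, ha1, ha2, t, ht,
        (sr_props h4 hg1 hg2 ht hgt).2 a ha⟩, e⟩
  have hsum : ∑ g ∈ sr (G := G), (cen g).card = ∑ B ∈ 𝒜, (B.card - 1) * B.card := by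
    rw [← Finset.sum_fiberwise_of_maps_to (g := cen) (t := 𝒜)
      (fun g hg => Finset.mem_image_of_mem _ hg)]
    refine Finset.sum_congr rfl fun B hB => ?_
    have h1B : (1 : G) ∈ B := by
      obtain ⟨g, -, rfl⟩ := hmem B hB
      exact mem_cen.2 (by simp)
    rw [Finset.sum_congr rfl (fun g hg => by rw [(Finset.mem_filter.1 hg).2]), Finset.sum_const,
      smul_eq_mul, hfib B hB, Finset.card_erase_of_mem h1B]
  have hle : ∑ B ∈ 𝒜, (B.card - 1) + n + 1 ≤ 4 * n := by
    have h1 : ∑ B ∈ 𝒜, (B.card - 1) = (sr (G := G)).card := by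
      rw [Finset.card_eq_sum_card_fiberwise (f := cen) (t := 𝒜)
        (fun g hg => Finset.mem_image_of_mem _ hg)]
      refine Finset.sum_congr rfl fun B hB => ?_
      have h1B : (1 : G) ∈ B := by
        obtain ⟨g, -, rfl⟩ := hmem B hB
        exact mem_cen.2 (by simp)
      rw [hfib B hB, Finset.card_erase_of_mem h1B]
    rw [h1, ← hG, ← Finset.card_univ, hn]
    have hd1 : Disjoint (sr (G := G)) (invs (G := G)) := by
      rw [Finset.disjoint_left]
      exact fun g hg hg' => (Finset.mem_filter.1 hg).2.2.1 (Finset.mem_filter.1 hg').2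
    have hd2 : (1 : G) ∉ sr (G := G) ∪ invs (G := G) := by simp [sr, invs]
    rw [← Finset.card_union_of_disjoint hd1, ← Finset.card_insert_of_notMem hd2]
    exact Finset.card_le_card (Finset.subset_univ _)
  -- orbit facts
  have horb : ∀ g ∈ sr (G := G), orb g ⊆ 𝒜 ∧ (∀ B ∈ orb g, B.card = (cen g).card) ∧
      (orb g).card * (cen g).card = 2 * n ∧ 3 ≤ (cen g).card ∧ Odd (cen g).card := by
    intro g hg
    obtain ⟨-, hg1, hg2, t, ht, hgt⟩ := Finset.mem_filter.1 hg
    have hfree := (sr_props h4 hg1 hg2 ht hgt).1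
    have hodd : Odd (cen g).card := by
      by_contra hev
      rw [Nat.not_odd_iff_even] at hev
      rw [card_cen] at hev
      haveI : Fact (Nat.Prime 2) := ⟨Nat.prime_two⟩
      obtain ⟨v, hv⟩ := exists_prime_orderOf_dvd_card' 2 hev.two_dvd
      have hv' : (v : G) ∈ cen g := mem_cen.2 (Subgroup.mem_centralizer_singleton_iff.1 v.2)
      have h2 : (v : G) ^ 2 = 1 := by
        rw [← SubgroupClass.coe_pow, ← hv, pow_orderOf_eq_one, Subgroup.coe_one]
      have := hfree _ hv' h2
      rw [← Subgroup.coe_one (Subgroup.centralizer ({g} : Set G)), Subtype.coe_inj] at this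
      rw [this, orderOf_one] at hv
      omega
    refine ⟨?_, ?_, ?_, ?_, hodd⟩
    · intro B hB
      obtain ⟨h, -, rfl⟩ := Finset.mem_image.1 hB
      refine Finset.mem_image_of_mem _ (Finset.mem_filter.2 ⟨Finset.mem_univ _, ?_, ?_, h * t * h⁻¹, ?_, ?_⟩)
      · simpa using hg1
      · rwa [orderOf_conj']
      · rwa [orderOf_conj']
      · calc h * t * h⁻¹ * (h * g * h⁻¹) * (h * t * h⁻¹)⁻¹ = h * (t * g * t⁻¹) * h⁻¹ := by group
          _ = (h * g * h⁻¹)⁻¹ := by rw [hgt]; group
    · intro B hB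
      obtain ⟨h, -, rfl⟩ := Finset.mem_image.1 hB
      exact card_cen_conj h g
    · have := orb_card h4 hone hg
      rw [hG] at this
      linarith [this, show (orb g).card * (2 * (cen g).card) = 2 * ((orb g).card * (cen g).card) by ring]
    · have : 1 < (cen g).card := Finset.one_lt_card.2
        ⟨1, mem_cen.2 (by simp), g, mem_cen.2 rfl, Ne.symm hg1⟩
      obtain ⟨k, hk⟩ := hodd
      omega
  have horb_eq : ∀ g g' : G, g ∈ sr (G := G) → g' ∈ sr (G := G) → cen g' ∉ orb g →
      Disjoint (orb g) (orb g') := by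
    intro g g' _ _ hnot
    rw [Finset.disjoint_left]
    intro B hB hB'
    obtain ⟨h, -, rfl⟩ := Finset.mem_image.1 hB
    obtain ⟨h', -, e⟩ := Finset.mem_image.1 hB'
    refine hnot (Finset.mem_image.2 ⟨h'⁻¹ * h, Finset.mem_univ _, ?_⟩)
    rw [show h'⁻¹ * h * g * (h'⁻¹ * h)⁻¹ = h'⁻¹ * (h * g * h⁻¹) * h'⁻¹⁻¹ by group, cen_conj, ← e,
      ← cen_conj, show h'⁻¹ * (h' * g' * h'⁻¹) * h'⁻¹⁻¹ = g' by group]
  have hsum1 : ∀ g ∈ sr (G := G), ∑ B ∈ orb g, (B.card - 1) = (orb g).card * ((cen g).card - 1) := by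
    intro g hg
    rw [Finset.sum_congr rfl (fun B hB => by rw [(horb g hg).2.1 B hB]), Finset.sum_const, smul_eq_mul]
  have hsum2 : ∀ g ∈ sr (G := G), ∑ B ∈ orb g, (B.card - 1) * B.card = 2 * n * ((cen g).card - 1) := by
    intro g hg
    rw [Finset.sum_congr rfl (fun B hB => by rw [(horb g hg).2.1 B hB]), Finset.sum_const, smul_eq_mul,
      ← (horb g hg).2.2.1]
    ring
  have hn0 : 0 < n := by
    rw [hn, Finset.card_pos]; exact ⟨x, Finset.mem_filter.2 ⟨Finset.mem_univ _, hx⟩⟩
  rcases Finset.eq_empty_or_nonempty (sr (G := G)) with hempty | ⟨g1, hg1⟩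
  · left
    rw [hempty, Finset.sum_empty, add_zero] at hpairs
    exact Nat.eq_of_mul_eq_mul_right hn0 hpairs
  right
  obtain ⟨hsub1, -, ho1, ha1, hodd1⟩ := horb g1 hg1
  have hlow : ∀ g ∈ sr (G := G), 4 * n ≤ 3 * ((orb g).card * ((cen g).card - 1)) := by
    intro g hg
    obtain ⟨-, -, ho, ha, -⟩ := horb g hg
    obtain ⟨k, hk⟩ : ∃ k, (cen g).card = k + 1 := ⟨(cen g).card - 1, by omega⟩
    rw [hk] at ho ha ⊢
    simp only [Nat.add_sub_cancel]
    nlinarith [Nat.mul_le_mul (Nat.le_refl (orb g).card) (show 2 ≤ k by omega)]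
  by_cases hall1 : ∀ g ∈ sr (G := G), cen g ∈ orb g1
  · -- one class
    exfalso
    have h𝒜1 : 𝒜 = orb g1 := Finset.Subset.antisymm (by
      intro B hB
      obtain ⟨g, hg, rfl⟩ := hmem B hB
      exact hall1 g hg) hsub1
    rw [hsum, h𝒜1, hsum2 g1 hg1] at hpairs
    obtain ⟨k, hk⟩ := hodd1
    rw [hk] at ho1 hpairs ha1
    have h3 : n = 3 + 4 * k := by
      refine Nat.eq_of_mul_eq_mul_right hn0 (hpairs.trans ?_)
      rw [Nat.add_sub_cancel]; ring
    clear_value n
    subst h3
    have hdvd : 2 * k + 1 ∣ 2 * (3 + 4 * k) := ⟨_, by rw [← ho1, mul_comm]⟩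
    have hdvd2 : 2 * k + 1 ∣ 2 := by
      have h' : 2 * k + 1 ∣ 4 * (2 * k + 1) := dvd_mul_left _ _
      have := Nat.dvd_sub hdvd h'
      rwa [show 2 * (3 + 4 * k) - 4 * (2 * k + 1) = 2 by omega] at this
    have := Nat.le_of_dvd two_pos hdvd2
    omega
  push Not at hall1
  obtain ⟨g2, hg2, hg21⟩ := hall1
  obtain ⟨hsub2, -, ho2, ha2, hodd2⟩ := horb g2 hg2
  have hd12 := horb_eq g1 g2 hg1 hg2 hg21
  have hall2 : ∀ g ∈ sr (G := G), cen g ∈ orb g1 ∪ orb g2 := by
    intro g hg
    by_contra hcon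
    rw [Finset.mem_union, not_or] at hcon
    have hd13 := horb_eq g1 g hg1 hg hcon.1
    have hd23 := horb_eq g2 g hg2 hg hcon.2
    have hsub : orb g1 ∪ orb g2 ∪ orb g ⊆ 𝒜 :=
      Finset.union_subset (Finset.union_subset hsub1 hsub2) (horb g hg).1
    have h := Finset.sum_le_sum_of_subset (f := fun B => B.card - 1) hsub
    rw [Finset.sum_union (Finset.disjoint_union_left.2 ⟨hd13, hd23⟩), Finset.sum_union hd12,
      hsum1 g1 hg1, hsum1 g2 hg2, hsum1 g hg] at h
    have := hlow g1 hg1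
    have := hlow g2 hg2
    have := hlow g hg
    omega
  have h𝒜2 : 𝒜 = orb g1 ∪ orb g2 := Finset.Subset.antisymm (by
    intro B hB
    obtain ⟨g, hg, rfl⟩ := hmem B hB
    exact hall2 g hg) (Finset.union_subset hsub1 hsub2)
  rw [hsum, h𝒜2, Finset.sum_union hd12, hsum2 g1 hg1, hsum2 g2 hg2] at hpairs
  rw [h𝒜2, Finset.sum_union hd12, hsum1 g1 hg1, hsum1 g2 hg2] at hle
  generalize (orb g1).card = o1 at *
  generalize (orb g2).card = o2 at *
  generalize (cen g1).card = a at *
  generalize (cen g2).card = b at *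
  obtain ⟨i, hi⟩ := hodd1
  obtain ⟨j, hj⟩ := hodd2
  subst hi hj
  simp only [Nat.add_sub_cancel] at hpairs hle
  have h3 : n = 3 + 4 * i + 4 * j := by
    refine Nat.eq_of_mul_eq_mul_right hn0 (hpairs.trans ?_)
    ring
  clear_value n
  subst h3
  have hij : (2 * i + 1) * (2 * j + 1) < 2 * ((2 * i + 1) + (2 * j + 1)) := by
    have e : (o1 * (2 * i) + o2 * (2 * j)) * ((2 * i + 1) * (2 * j + 1)) <
        3 * (3 + 4 * i + 4 * j) * ((2 * i + 1) * (2 * j + 1)) :=
      Nat.mul_lt_mul_of_pos_right (by omega) (by positivity)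
    have e1 : (o1 * (2 * i) + o2 * (2 * j)) * ((2 * i + 1) * (2 * j + 1)) =
        2 * (3 + 4 * i + 4 * j) * (2 * i * (2 * j + 1) + 2 * j * (2 * i + 1)) := by
      calc (o1 * (2 * i) + o2 * (2 * j)) * ((2 * i + 1) * (2 * j + 1))
          = (o1 * (2 * i + 1)) * (2 * i * (2 * j + 1)) + (o2 * (2 * j + 1)) * (2 * j * (2 * i + 1)) := by ring
        _ = _ := by rw [ho1, ho2]; ring
    rw [e1] at e
    nlinarith [Nat.lt_of_mul_lt_mul_left (a := 3 + 4 * i + 4 * j)
      (show (3 + 4 * i + 4 * j) * (2 * (2 * i * (2 * j + 1) + 2 * j * (2 * i + 1))) <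
        (3 + 4 * i + 4 * j) * (3 * ((2 * i + 1) * (2 * j + 1))) by linarith)]
  have hi : i ≤ 2 := by nlinarith [hij, show 1 ≤ j by omega]
  have hj : j ≤ 2 := by nlinarith [hij, show 1 ≤ i by omega]
  have h4ij : 4 * i * j < 2 * i + 2 * j + 3 := by nlinarith [hij]
  have hd1 : (2 * i + 1) ∣ 2 * (3 + 4 * i + 4 * j) := ⟨o1, by rw [← ho1, mul_comm]⟩
  interval_cases i <;> interval_cases j <;> omega

end Cfsg.Agent.H65.FourCount
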