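import Cfsg.Agent.H65.DihedralEight
import Cfsg.Agent.S1853
import Cfsg.Agent.PGroups.Basic

/-!
Groups with a dihedral involution centraliser of order eight: the Sylow subgroup, fusion of
involutions and simplicity when there is no subgroup of index two.
-/

set_option autoImplicit false
set_option linter.style.haveILetI false

namespace Cfsg.Agent.H65.DihedralFusion

open Cfsg DihedralEight

universe u

/-- The character of the dihedral group with kernel the rotations, with values in a group of order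
two. -/
def parityHom : DihedralGroup 4 →* Multiplicative (ZMod 2) where
  toFun d := match d with
    | .r _ => 1
    | .sr _ => Multiplicative.ofAdd 1
  map_one' := rfl
  map_mul' := by rintro (i | i) (j | j) <;> decide +revert

theorem parityHom_key : ∀ d : DihedralGroup 4,
    parityHom d = 1 → d * d = 1 → d ≠ 1 → d = .r 2 := by decide

theorem parityHom_sr : ∀ i : ZMod 4, parityHom (.sr i) ≠ 1 := by decide

theorem pow_eight : ∀ d : DihedralGroup 4, d ^ 8 = 1 := by decide

variable {G : Type u} [Group G] [Finite G] {t : G}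
  (e : ↥(Subgroup.centralizer ({t} : Set G)) ≃* DihedralGroup 4) (ht : orderOf t = 2)

include e in
theorem card_eight : Nat.card ↥(Subgroup.centralizer ({t} : Set G)) = 8 := by
  rw [Nat.card_congr e.toEquiv, Nat.card_eq_fintype_card, DihedralGroup.card]

include e ht in
/-- The centraliser is a Sylow subgroup. -/
theorem exists_sylow :
    ∃ S : Sylow 2 G, (S : Subgroup G) = Subgroup.centralizer ({t} : Set G) := by
  haveI : Fact (Nat.Prime 2) := ⟨Nat.prime_two⟩
  set C := Subgroup.centralizer ({t} : Set G) with hC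
  have hCp : IsPGroup 2 ↥C := IsPGroup.of_card (n := 3) (by rw [hC, card_eight e]; norm_num)
  obtain ⟨S, hS⟩ := hCp.exists_le_sylow
  refine ⟨S, le_antisymm ?_ hS⟩
  haveI : Nontrivial ↥(S : Subgroup G) :=
    ⟨⟨t, hS (Subgroup.mem_centralizer_singleton_iff.2 rfl)⟩, 1,
      fun h => ne_one_of_orderOf ht (congrArg Subtype.val h)⟩
  obtain ⟨z, -, hzc, hz⟩ := Cfsg.Agent.PGroups.exists_mem_center_orderOf_eq S.isPGroup'
    (⊤ : Subgroup ↥(S : Subgroup G)) top_ne_bot
  have hz2 : orderOf (z : G) = 2 := (Subgroup.orderOf_coe z).trans hz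
  have hzall : ∀ s ∈ (S : Subgroup G), s * (z : G) = (z : G) * s := fun s hs =>
    congrArg Subtype.val (Subgroup.mem_center_iff.1 hzc ⟨s, hs⟩)
  obtain ⟨d, hd⟩ := exists_inc t e (show Commute (z : G) t from
    (hzall t (hS (Subgroup.mem_centralizer_singleton_iff.2 rfl))).symm)
  have key : ∀ d : DihedralGroup 4, d ≠ 1 → (∀ c, c * d = d * c) → d = .r 2 := by decide
  have hzt : (z : G) = t := by
    rw [← hd, key d (fun h => ne_one_of_orderOf hz2 (by rw [← hd, h, map_one]))
      (fun c => inc_injective t e (by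
        rw [map_mul, map_mul, hd]
        exact hzall _ (hS (Subgroup.mem_centralizer_singleton_iff.2 (inc_commute t e c).eq)))),
      inc_center t e ht]
  intro s hs
  have := hzall s hs
  rw [hzt] at this
  exact Subgroup.mem_centralizer_singleton_iff.2 this

include e ht in
/-- Without a homomorphism onto a group of order two all involutions are conjugate. -/
theorem isConj_of_no_hom (hG : ∀ f : G →* Multiplicative (ZMod 2), f = 1) (v : G)
    (hv : orderOf v = 2) : IsConj t v := by
  haveI : Fact (Nat.Prime 2) := ⟨Nat.prime_two⟩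
  obtain ⟨S, hS⟩ := exists_sylow e ht
  let φ : ↥(S : Subgroup G) →* Multiplicative (ZMod 2) :=
    parityHom.comp (e.toMonoidHom.comp (MulEquiv.subgroupCongr hS).toMonoidHom)
  have hφ : ∀ (d : DihedralGroup 4) (h : inc t e d ∈ (S : Subgroup G)),
      φ ⟨inc t e d, h⟩ = parityHom d := by
    intro d h
    exact congrArg parityHom (e.apply_symm_apply d)
  obtain ⟨R, hR⟩ := (IsPGroup.of_card (p := 2) (n := 1) (G := ↥(Subgroup.zpowers v))
    (by rw [Nat.card_zpowers, hv, pow_one])).exists_le_sylow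
  obtain ⟨g, hg⟩ := MulAction.exists_smul_eq G R S
  have hwS : g * v * g⁻¹ ∈ (S : Subgroup G) := by
    rw [← hg]
    exact Subgroup.smul_mem_pointwise_smul v (MulAut.conj g) _ (hR (Subgroup.mem_zpowers v))
  have hw2 : orderOf (g * v * g⁻¹) = 2 := (orderOf_conj' g v).trans hv
  refine IsConj.trans ?_ (isConj_iff.2 ⟨g⁻¹, by group⟩ : IsConj (g * v * g⁻¹) v)
  obtain ⟨d, hd⟩ := exists_inc t e (Subgroup.mem_centralizer_singleton_iff.1 (hS ▸ hwS))
  -- reflections are moved into the cyclic subgroup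
  obtain ⟨i, hi⟩ | ⟨i, hi⟩ : (∃ i, d = .r i) ∨ ∃ i, d = .sr i := by
    cases d with
    | r i => exact Or.inl ⟨i, rfl⟩
    | sr i => exact Or.inr ⟨i, rfl⟩
  · have key : ∀ i : ZMod 4, orderOf (DihedralGroup.r i : DihedralGroup 4) = 2 → i = 2 := by
      intro i hi
      rw [DihedralGroup.orderOf_r] at hi
      revert hi; revert i; decide
    rw [← hd, hi, inc_orderOf] at hw2
    rw [← hd, hi, key i hw2, inc_center t e ht]
  · obtain ⟨k, -, hk, hk1⟩ := Cfsg.Agent.S1853.exists_conj_mem S φ hG _ hw2 hwS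
      (by
        have h' := hd ▸ hwS
        rw [show (⟨g * v * g⁻¹, hwS⟩ : ↥(S : Subgroup G)) = ⟨inc t e d, h'⟩ from Subtype.ext hd.symm,
          hφ, hi]
        exact parityHom_sr i)
      (Subgroup.zpowers (g * v * g⁻¹))
      (IsPGroup.of_card (n := 1) (by rw [Nat.card_zpowers, hw2, pow_one]))
      (Subgroup.mem_zpowers _)
      ((Subgroup.zpowers_le).2 (Subgroup.mem_centralizer_singleton_iff.2 rfl))
    obtain ⟨d', hd'⟩ := exists_inc t e (Subgroup.mem_centralizer_singleton_iff.1 (hS ▸ hk))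
    have hd'2 : orderOf d' = 2 := by
      rw [← inc_orderOf t e, hd']
      have := orderOf_conj' k⁻¹ (g * v * g⁻¹)
      rw [inv_inv] at this
      exact this.trans hw2
    rw [show (⟨_, hk⟩ : ↥(S : Subgroup G)) = ⟨inc t e d', hd'.symm ▸ hk⟩ from Subtype.ext hd'.symm,
      hφ] at hk1
    have he := parityHom_key d' hk1 (mul_self_eq_one hd'2) (ne_one_of_orderOf hd'2)
    rw [he, inc_center t e ht] at hd'
    exact (isConj_iff.2 ⟨k⁻¹, by rw [inv_inv]; exact hd'.symm⟩ : IsConj (g * v * g⁻¹) t).symm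

include e ht in
/-- With one class of involutions the group is simple. -/
theorem isSimpleGroup (hone : ∀ v : G, orderOf v = 2 → IsConj t v) : IsSimpleGroup G := by
  haveI : Fact (Nat.Prime 2) := ⟨Nat.prime_two⟩
  obtain ⟨S, hS⟩ := exists_sylow e ht
  haveI : Nontrivial G := ⟨⟨t, 1, ne_one_of_orderOf ht⟩⟩
  refine ⟨fun N hN => or_iff_not_imp_left.2 fun hbot => ?_⟩
  have heven : ∃ v ∈ N, orderOf v = 2 := by
    by_contra hno
    push Not at hno
    have hodd : ∀ n ∈ N, n * n = 1 → n = 1 := fun n hn h => by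
      by_contra h1
      exact hno n hn (H26.orderOf_two_of_mul_self h h1)
    -- involutions invert `N`
    have hinv : ∀ v : G, orderOf v = 2 → ∀ n ∈ N, v * n * v⁻¹ = n⁻¹ := by
      intro v hv
      have hv' := inv_eq_self hv
      have hfix : ∀ n ∈ N, v * n * v⁻¹ = n → n = 1 := by
        intro n hn h
        obtain ⟨k, hk⟩ := isConj_iff.1 (hone v hv)
        have hm : k⁻¹ * n * k ∈ N := by simpa using hN.conj_mem n hn k⁻¹
        obtain ⟨d, hd⟩ := exists_inc t e (show Commute (k⁻¹ * n * k) t by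
          have h' : v * n = n * v := mul_inv_eq_iff_eq_mul.1 h
          change k⁻¹ * n * k * t = t * (k⁻¹ * n * k)
          calc k⁻¹ * n * k * t = k⁻¹ * (n * (k * t * k⁻¹)) * k := by group
            _ = k⁻¹ * ((k * t * k⁻¹) * n) * k := by rw [hk, h']
            _ = t * (k⁻¹ * n * k) := by group)
        have h8 : (k⁻¹ * n * k) ^ 8 = 1 := by
          rw [← hd, ← map_pow, pow_eight d, map_one]
        have hm2 : ∀ m ∈ N, ∀ j : ℕ, m ^ (2 ^ j) = 1 → m = 1 := by
          intro m hm j
          induction j with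
          | zero => intro h; simpa using h
          | succ j ih =>
            intro h
            refine ih (hodd _ (N.pow_mem hm _) ?_)
            rwa [← pow_add, ← two_mul, ← pow_succ']
        have := hm2 _ hm 3 h8
        rw [show n = k * (k⁻¹ * n * k) * k⁻¹ by group, this]
        group
      have hinj : Function.Injective fun n : ↥N =>
          (⟨(n : G)⁻¹ * (v * n * v⁻¹), N.mul_mem (N.inv_mem n.2) (hN.conj_mem _ n.2 v)⟩ : ↥N) := by
        intro a b h
        have h' : (a : G)⁻¹ * (v * a * v⁻¹) = (b : G)⁻¹ * (v * b * v⁻¹) := congrArg Subtype.val h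
        have : v * ((b : G) * (a : G)⁻¹) * v⁻¹ = (b : G) * (a : G)⁻¹ := by
          calc v * ((b : G) * (a : G)⁻¹) * v⁻¹ = (b : G) * ((b : G)⁻¹ * (v * b * v⁻¹)) *
                ((a : G) * ((a : G)⁻¹ * (v * a * v⁻¹)))⁻¹ := by group
            _ = (b : G) * (a : G)⁻¹ := by rw [h']; group
        exact Subtype.ext (mul_inv_eq_one.1 (hfix _ (N.mul_mem b.2 (N.inv_mem a.2)) this)).symm
      intro n hn
      obtain ⟨m, hm⟩ := Finite.surjective_of_injective hinj ⟨n, hn⟩
      have hm' : (m : G)⁻¹ * (v * m * v⁻¹) = n := congrArg Subtype.val hm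
      rw [← hm', hv', mul_inv_rev, inv_inv]
      calc v * ((m : G)⁻¹ * (v * m * v)) * v = (v * (m : G)⁻¹ * v) * (m : G) * (v * v) := by group
        _ = (v * (m : G) * v)⁻¹ * (m : G) := by
          rw [mul_self_eq_one hv, mul_one, mul_inv_rev, mul_inv_rev, hv', mul_assoc v]
    apply hbot
    rw [Subgroup.eq_bot_iff_forall]
    intro n hn
    have h1 := hinv (inc t e (.sr 0)) (by rw [inc_orderOf, DihedralGroup.orderOf_sr]) n hn
    have h2 := hinv t ht n hn
    have h3 := hinv (inc t e (.sr 2)) (by rw [inc_orderOf, DihedralGroup.orderOf_sr]) n hn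
    rw [show (DihedralGroup.sr 2 : DihedralGroup 4) = .sr 0 * .r 2 by decide, map_mul,
      inc_center t e ht] at h3
    refine hodd n hn ?_
    rw [show inc t e (.sr 0) * t * n * (inc t e (.sr 0) * t)⁻¹ =
      inc t e (.sr 0) * (t * n * t⁻¹) * (inc t e (.sr 0))⁻¹ by group, h2, show inc t e (.sr 0) * n⁻¹ * (inc t e (.sr 0))⁻¹ =
        (inc t e (.sr 0) * n * (inc t e (.sr 0))⁻¹)⁻¹ by group, h1, inv_inv] at h3
    nth_rw 2 [h3]; exact mul_inv_cancel n
  obtain ⟨v, hvN, hv⟩ := heven
  have hall : ∀ w : G, orderOf w = 2 → w ∈ N := by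
    intro w hw
    obtain ⟨k, hk⟩ := isConj_iff.1 ((hone v hv).symm.trans (hone w hw))
    rw [← hk]; exact hN.conj_mem v hvN k
  have hCN : Subgroup.centralizer ({t} : Set G) ≤ N := by
    intro c hc
    obtain ⟨d, rfl⟩ := exists_inc t e (Subgroup.mem_centralizer_singleton_iff.1 hc)
    have hsr : ∀ i : ZMod 4, inc t e (.sr i) ∈ N := fun i =>
      hall _ (by rw [inc_orderOf, DihedralGroup.orderOf_sr])
    cases d with
    | sr i => exact hsr i
    | r i =>
      rw [show DihedralGroup.r i = DihedralGroup.sr (0 : ZMod 4) * .sr i by simp, map_mul]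
      exact N.mul_mem (hsr 0) (hsr i)
  haveI := hN
  let P : Sylow 2 ↥N := S.subtype (hS ▸ hCN)
  have htop := Sylow.normalizer_sup_eq_top' S (N := N) (hS ▸ hCN)
  rw [← htop]
  refine le_antisymm le_sup_right (sup_le ?_ le_rfl)
  intro n hn
  refine hCN (Subgroup.mem_centralizer_singleton_iff.2 ?_)
  have htS : t ∈ (S : Subgroup G) := hS ▸ Subgroup.mem_centralizer_singleton_iff.2 rfl
  have h1 : n * t * n⁻¹ ∈ Subgroup.centralizer ({t} : Set G) :=
    hS ▸ (Subgroup.mem_normalizer_iff.1 hn t).1 htS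
  obtain ⟨d, hd⟩ := exists_inc t e (Subgroup.mem_centralizer_singleton_iff.1 h1)
  have key : ∀ d : DihedralGroup 4, d ≠ 1 → (∀ c, c * d = d * c) → d = .r 2 := by decide
  refine mul_inv_eq_iff_eq_mul.1 ?_
  rw [← hd, key d (fun h => ?_) (fun c => inc_injective t e ?_), inc_center t e ht]
  · refine ne_one_of_orderOf ((orderOf_conj' n t).trans ht) ?_
    rw [← hd, h, map_one]
  · rw [map_mul, map_mul, hd]
    have hcS : inc t e c ∈ (S : Subgroup G) :=
      hS ▸ Subgroup.mem_centralizer_singleton_iff.2 (inc_commute t e c).eq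
    have h2 : n⁻¹ * inc t e c * n ∈ (S : Subgroup G) := by
      refine (Subgroup.mem_normalizer_iff.1 hn _).2 ?_
      rwa [show n * (n⁻¹ * inc t e c * n) * n⁻¹ = inc t e c by group]
    have h3 : (n⁻¹ * inc t e c * n) * t = t * (n⁻¹ * inc t e c * n) :=
      Subgroup.mem_centralizer_singleton_iff.1 (hS ▸ h2)
    calc inc t e c * (n * t * n⁻¹) = n * ((n⁻¹ * inc t e c * n) * t) * n⁻¹ := by group
      _ = n * (t * (n⁻¹ * inc t e c * n)) * n⁻¹ := by rw [h3]
      _ = n * t * n⁻¹ * inc t e c := by group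

end Cfsg.Agent.H65.DihedralFusion
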