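import Cfsg.Agent.H65.DihedralAltSix
import Cfsg.Agent.Fusion.PComplement

/-!
Simple groups of order 360: the centraliser of a central involution of a Sylow 2-subgroup is
dihedral of order eight.
-/

set_option autoImplicit false
set_option linter.style.haveILetI false

namespace Cfsg.Agent.H65.OrderThreeSixty

open Cfsg DihedralAltSix

universe u

/-- A permutation of order dividing four whose square fixes exactly one point is determined in sign
by the number of points. -/
theorem sign_eq_of_sq_fix_one {α : Type*} [Fintype α] [DecidableEq α] (σ : Equiv.Perm α)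
    (h4 : σ ^ 4 = 1) (h2 : (Finset.univ.filter fun a => (σ ^ 2) a = a).card = 1) :
    Equiv.Perm.sign σ = (-1 : ℤˣ) ^ ((Fintype.card α - 1) / 4) := by
  classical
  have hsq : (σ ^ 2).support.card = Fintype.card α - 1 := by
    have e : (σ ^ 2).support = (Finset.univ.filter fun a => (σ ^ 2) a = a)ᶜ := by
      ext a; simp [Equiv.Perm.mem_support]
    rw [e, Finset.card_compl, h2]
  have hσ : σ.support.card = Fintype.card α - 1 := by
    apply le_antisymm
    · obtain ⟨a, ha⟩ := Finset.card_eq_one.1 h2
      have hfa : σ a = a := by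
        have h1 : (σ ^ 2) a = a := (Finset.mem_filter.1
          (show a ∈ Finset.univ.filter (fun b => (σ ^ 2) b = b) by
            rw [ha]; exact Finset.mem_singleton_self a)).2
        have h3 : (σ ^ 2) (σ a) = σ a := by
          change σ (σ (σ a)) = σ a
          exact congrArg σ h1
        exact Finset.mem_singleton.1 (ha ▸ Finset.mem_filter.2 ⟨Finset.mem_univ _, h3⟩)
      have := Finset.card_le_card (show σ.support ⊆ Finset.univ.erase a from fun b hb =>
        Finset.mem_erase.2 ⟨fun h => (Equiv.Perm.mem_support.1 hb) (h ▸ hfa), Finset.mem_univ _⟩)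
      rwa [Finset.card_erase_of_mem (Finset.mem_univ _), Finset.card_univ] at this
    · rw [← hsq]; exact Finset.card_le_card (Equiv.Perm.support_pow_le σ 2)
  have hall : ∀ n ∈ σ.cycleType, n = 4 := by
    intro n hn
    have hd : n ∣ 2 ^ 2 := (Equiv.Perm.dvd_of_mem_cycleType hn).trans (orderOf_dvd_of_pow_eq_one h4)
    have h2n := Equiv.Perm.two_le_of_mem_cycleType hn
    obtain ⟨i, hi, rfl⟩ := (Nat.dvd_prime_pow Nat.prime_two).1 hd
    interval_cases i
    · norm_num at h2n
    swap
    · norm_num
    exfalso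
    obtain ⟨c, τ, hστ, hdis, hc, hcard⟩ := Equiv.Perm.mem_cycleType_iff.1 hn
    obtain ⟨b, hb⟩ : c.support.Nonempty := Finset.card_pos.1 (by rw [hcard]; norm_num)
    have hbs : b ∈ σ.support := by rw [hστ, hdis.support_mul]; exact Finset.mem_union_left _ hb
    have hfix : (σ ^ 2) b = b := by
      have hτb : ∀ x ∈ c.support, τ x = x := fun x hx =>
        (hdis x).resolve_left (Equiv.Perm.mem_support.1 hx)
      have hc2 : c ^ 2 = 1 := by
        rw [show (2 : ℕ) = orderOf c by rw [hc.orderOf, hcard]; rfl]; exact pow_orderOf_eq_one c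
      change σ (σ b) = b
      rw [hστ, Equiv.Perm.mul_apply, Equiv.Perm.mul_apply, hτb b hb,
        hτb _ (Equiv.Perm.apply_mem_support.2 hb)]
      exact congrArg (fun f : Equiv.Perm α => f b) (show c * c = 1 by rw [← sq]; exact hc2)
    have hsub : (σ ^ 2).support ⊆ σ.support.erase b := fun x hx =>
      Finset.mem_erase.2 ⟨fun h => (Equiv.Perm.mem_support.1 hx) (h ▸ hfix),
        Equiv.Perm.support_pow_le σ 2 hx⟩
    have h' := Finset.card_le_card hsub
    rw [Finset.card_erase_of_mem hbs, hsq, hσ] at h'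
    have := Finset.card_pos.2 ⟨b, hbs⟩
    omega
  have hrep : σ.cycleType = Multiset.replicate σ.cycleType.card 4 :=
    Multiset.eq_replicate.2 ⟨rfl, hall⟩
  have hsum := Equiv.Perm.sum_cycleType σ
  rw [hrep, Multiset.sum_replicate, hσ, smul_eq_mul] at hsum
  rw [Equiv.Perm.sign_of_cycleType, hrep, Multiset.sum_replicate, Multiset.card_replicate,
    smul_eq_mul, show σ.cycleType.card * 4 + σ.cycleType.card = (σ.cycleType.card * 2) * 2 +
      σ.cycleType.card by ring, pow_add, pow_mul' _ _ 2, neg_one_sq, one_pow, one_mul, ← hsum,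
    Nat.mul_div_cancel _ (by norm_num)]

variable {G : Type u} [Group G] [Fintype G] [IsSimpleGroup G] (hG : Nat.card G = 360)

include hG in
theorem card_sylow {p : ℕ} [Fact p.Prime] (P : Sylow p G) {n : ℕ} (hn : (360 : ℕ) = p ^ n * (360 / p ^ n))
    (hm : ¬ p ∣ 360 / p ^ n) : Nat.card ↥(P : Subgroup G) = p ^ n := by
  have hm0 : 360 / p ^ n ≠ 0 := fun h => hm (by rw [h]; exact dvd_zero p)
  have h : (360 : ℕ).factorization p = n := by
    conv_lhs => rw [hn]
    rw [Nat.factorization_mul (pow_ne_zero _ (Fact.out : p.Prime).ne_zero) hm0, Finsupp.add_apply,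
      (Fact.out : p.Prime).factorization_pow, Nat.factorization_eq_zero_of_not_dvd hm]
    simp
  rw [P.card_eq_multiplicity, hG, h]

include hG in
theorem card_le_sixty {H : Subgroup G} (hH : H ≠ ⊤) : Nat.card ↥H ≤ 60 := by
  have h6 := six_le_index hG hH
  have h := H.card_mul_index
  rw [hG] at h
  nlinarith

include hG in
theorem centralizer_ne_top {g : G} (hg : g ≠ 1) : Subgroup.centralizer ({g} : Set G) ≠ ⊤ := by
  intro htop
  have hgZ : g ∈ Subgroup.center G := Subgroup.mem_center_iff.2 fun a =>
    Subgroup.mem_centralizer_singleton_iff.1 (by rw [htop]; trivial)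
  rcases (inferInstance : (Subgroup.center G).Normal).eq_bot_or_eq_top with h | h
  · rw [h, Subgroup.mem_bot] at hgZ; exact hg hgZ
  · haveI : Fact (Nat.Prime 2) := ⟨Nat.prime_two⟩
    obtain ⟨z, hz⟩ := exists_prime_orderOf_dvd_card' 2 (G := G) (by rw [hG]; norm_num)
    have hn : (Subgroup.zpowers z).Normal := ⟨fun a ha b => by
      rw [show b * a = a * b from Subgroup.mem_center_iff.1 (h ▸ Subgroup.mem_top a) b,
        mul_inv_cancel_right]
      exact ha⟩
    rcases hn.eq_bot_or_eq_top with h' | h'
    · exact ne_one_of_orderOf hz (Subgroup.zpowers_eq_bot.1 h')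
    · have := Nat.card_zpowers z
      rw [h', Subgroup.card_top, hG, hz] at this
      omega

include hG in
theorem normalizer_ne_top {H : Subgroup G} (h1 : H ≠ ⊥) (h2 : Nat.card ↥H < 360) :
    Subgroup.normalizer (H : Set G) ≠ ⊤ := by
  intro h
  rcases (Subgroup.normalizer_eq_top_iff.1 h).eq_bot_or_eq_top with h' | h'
  · exact h1 h'
  · rw [h', Subgroup.card_top, hG] at h2; omega

include hG in
/-- In a simple group of order 360 a subgroup of order 40 does not exist. -/
theorem card_ne_forty (H : Subgroup G) : Nat.card ↥H ≠ 40 := by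
  intro h40
  haveI : Fact (Nat.Prime 5) := ⟨by norm_num⟩
  let P : Sylow 5 ↥H := default
  have hP5 : Nat.card ↥(P : Subgroup ↥H) = 5 := by
    rw [P.card_eq_multiplicity, h40, show (40 : ℕ) = 5 ^ 1 * 8 from rfl,
      Nat.factorization_mul (by norm_num) (by norm_num), Finsupp.add_apply,
      (Fact.out : Nat.Prime 5).factorization_pow,
      Nat.factorization_eq_zero_of_not_dvd (n := 8) (by norm_num)]
    simp
  have hPn : (P : Subgroup ↥H).Normal := by
    have hd := P.card_dvd_index
    have hidx := (P : Subgroup ↥H).card_mul_index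
    rw [hP5, h40] at hidx
    rw [show (P : Subgroup ↥H).index = 8 by omega] at hd
    have hm : Nat.card (Sylow 5 ↥H) % 5 = 1 := card_sylow_modEq_one 5 ↥H
    have hle := Nat.le_of_dvd (by norm_num) hd
    have h1 : Nat.card (Sylow 5 ↥H) = 1 := by
      generalize Nat.card (Sylow 5 ↥H) = c at hd hm hle
      interval_cases c <;> omega
    have hN := P.card_eq_index_normalizer
    rw [h1] at hN
    exact Subgroup.normalizer_eq_top_iff.1 (Subgroup.index_eq_one.1 hN.symm)
  set Q := (P : Subgroup ↥H).map H.subtype with hQ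
  have hQ5 : Nat.card ↥Q = 5 := (Subgroup.card_map_of_injective H.subtype_injective).trans hP5
  obtain ⟨R, hR⟩ := (IsPGroup.of_card (p := 5) (n := 1) (G := ↥Q) (by rw [hQ5, pow_one])).exists_le_sylow
  have hR5 := card_sylow hG R (n := 1) (by norm_num) (by norm_num)
  have hQR : Q = (R : Subgroup G) := Subgroup.eq_of_le_of_card_ge hR (by rw [hR5, hQ5]; norm_num)
  have hHN : H ≤ Subgroup.normalizer ((R : Subgroup G) : Set G) := by
    rw [← hQR]
    intro h hh
    refine Subgroup.mem_normalizer_iff.2 fun a => ⟨?_, ?_⟩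
    · rintro ⟨b, hb, rfl⟩
      exact ⟨⟨h, hh⟩ * b * ⟨h, hh⟩⁻¹, hPn.conj_mem b hb _, rfl⟩
    · rintro ⟨b, hb, hba⟩
      refine ⟨⟨h, hh⟩⁻¹ * b * ⟨h, hh⟩⁻¹⁻¹, hPn.conj_mem b hb _, ?_⟩
      change h⁻¹ * (b : G) * h⁻¹⁻¹ = a
      rw [show (b : G) = h * a * h⁻¹ from hba]
      group
  set N := Subgroup.normalizer ((R : Subgroup G) : Set G)
  have hle : Nat.card ↥N ≤ 60 := card_le_sixty hG
    (normalizer_ne_top hG (fun h => by rw [h, Subgroup.card_bot] at hR5; norm_num at hR5)
      (by rw [hR5]; norm_num))
  have h8 : 40 ∣ Nat.card ↥N := h40 ▸ Subgroup.card_dvd_of_le hHN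
  have hN40 : Nat.card ↥N = 40 := by
    have hpos : 0 < Nat.card ↥N := Nat.card_pos
    omega
  have hi : Nat.card (Sylow 5 G) = N.index := R.card_eq_index_normalizer
  have h9 := N.card_mul_index
  rw [hN40, hG] at h9
  have hm5 : Nat.card (Sylow 5 G) % 5 = 1 := card_sylow_modEq_one 5 G
  omega

include hG in
/-- The Sylow 3-subgroup is not centralised pointwise by its normalizer anywhere. -/
theorem sylow_three_moved (P : Sylow 3 G) (hab : ∀ a ∈ (P : Subgroup G), ∀ b ∈ (P : Subgroup G), a * b = b * a)
    {x : G} (hx : x ∈ (P : Subgroup G)) (hx3 : orderOf x = 3) :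
    ∃ n ∈ Subgroup.normalizer ((P : Subgroup G) : Set G), n * x * n⁻¹ ≠ x := by
  classical
  haveI : Fact (Nat.Prime 3) := ⟨Nat.prime_three⟩
  by_contra hfix
  push Not at hfix
  haveI : IsMulCommutative ↥(P : Subgroup G) := ⟨⟨fun a b => Subtype.ext (hab _ a.2 _ b.2)⟩⟩
  letI : CommGroup ↥(P : Subgroup G) := { mul_comm := mul_comm' }
  have hkey : ∀ (k : ℕ) (g₀ : G), g₀⁻¹ * x ^ k * g₀ ∈ (P : Subgroup G) →
      g₀⁻¹ * x ^ k * g₀ = x ^ k := by
    intro k g₀ h
    obtain ⟨n, hn, hnx⟩ := Sylow.conj_eq_normalizer_conj_of_mem_centralizer P (x ^ k) g₀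
      (fun a ha => hab a ha _ (pow_mem hx k)) (fun a ha => hab a ha _ h)
    have hn' : n⁻¹ * x * n⁻¹⁻¹ = x := hfix n⁻¹ (inv_mem hn)
    rw [hnx]
    calc n⁻¹ * x ^ k * n = (n⁻¹ * x * n⁻¹⁻¹) ^ k := by rw [conj_pow, inv_inv]
      _ = x ^ k := by rw [hn']
  have h := MonoidHom.transfer_eq_pow (MonoidHom.id ↥(P : Subgroup G)) x hkey
  have htriv : MonoidHom.transfer (MonoidHom.id ↥(P : Subgroup G)) = 1 := by
    rcases (MonoidHom.transfer (MonoidHom.id ↥(P : Subgroup G))).normal_ker.eq_bot_or_eq_top
      with h' | h'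
    · exfalso
      have hinj := (MonoidHom.ker_eq_bot_iff _).1 h'
      have := Nat.card_le_card_of_injective _ hinj
      rw [hG, card_sylow hG P (n := 2) (by norm_num) (by norm_num)] at this
      omega
    · exact MonoidHom.ext fun g => MonoidHom.mem_ker.1 (h' ▸ Subgroup.mem_top g :
        g ∈ (MonoidHom.transfer (MonoidHom.id ↥(P : Subgroup G))).ker)
  rw [htriv, MonoidHom.one_apply, MonoidHom.id_apply] at h
  have h1 : x ^ (P : Subgroup G).index = 1 := (congrArg Subtype.val h).symm
  have := orderOf_dvd_of_pow_eq_one h1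
  rw [hx3] at this
  exact P.not_dvd_index this

include hG in
/-- No involution central in a Sylow subgroup centralises an element of order three. -/
theorem not_commute_three {t c : G} (ht : orderOf t = 2) (hc : orderOf c = 3) (htc : Commute t c)
    (h8 : 8 ∣ Nat.card ↥(Subgroup.centralizer ({t} : Set G))) : False := by
  classical
  haveI : Fact (Nat.Prime 2) := ⟨Nat.prime_two⟩
  haveI : Fact (Nat.Prime 3) := ⟨Nat.prime_three⟩
  set C := Subgroup.centralizer ({t} : Set G) with hC
  have hcC : c ∈ C := Subgroup.mem_centralizer_singleton_iff.2 htc.eq.symm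
  have hC24 : Nat.card ↥C = 24 := by
    have hle := card_le_sixty hG (centralizer_ne_top hG (ne_one_of_orderOf ht))
    have h3 : 3 ∣ Nat.card ↥C := hc ▸ Subgroup.orderOf_dvd_natCard _ hcC
    have hd := hG ▸ C.card_subgroup_dvd_card
    have hpos : 0 < Nat.card ↥C := Nat.card_pos
    rw [← hC] at hle
    have h48 : Nat.card ↥C = 24 ∨ Nat.card ↥C = 48 := by omega
    exact h48.resolve_right fun h => by rw [h] at hd; omega
  -- `Q = ⟨c⟩` lies in an abelian Sylow subgroup `P`
  obtain ⟨P, hP⟩ := (IsPGroup.of_card (p := 3) (n := 1) (G := ↥(Subgroup.zpowers c))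
    (by rw [Nat.card_zpowers, hc, pow_one])).exists_le_sylow
  have hP9 := card_sylow hG P (n := 2) (by norm_num) (by norm_num)
  haveI : IsMulCommutative ↥(P : Subgroup G) :=
    IsPGroup.isMulCommutative_of_card_eq_prime_sq (p := 3) hP9
  have hPab : ∀ a ∈ (P : Subgroup G), ∀ b ∈ (P : Subgroup G), a * b = b * a := fun a ha b hb =>
    congrArg Subtype.val (mul_comm' (⟨a, ha⟩ : ↥(P : Subgroup G)) ⟨b, hb⟩)
  have hcP : c ∈ (P : Subgroup G) := hP (Subgroup.mem_zpowers c)
  set N := Subgroup.normalizer ((Subgroup.zpowers c : Subgroup G) : Set G) with hN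
  have hPN : (P : Subgroup G) ≤ N := fun a ha => Subgroup.mem_normalizer_iff.2 fun b => by
    constructor
    · intro hb
      rwa [hPab a ha b (hP hb), mul_inv_cancel_right]
    · intro hb
      have h1 : b = a⁻¹ * (a * b * a⁻¹) * a := by group
      rw [h1, mul_assoc, ← hPab a ha _ (hP hb), inv_mul_cancel_left]
      exact hb
  have hNle : Nat.card ↥N ≤ 60 := card_le_sixty hG (normalizer_ne_top hG
    (Subgroup.zpowers_ne_bot.2 (fun h => by rw [h, orderOf_one] at hc; omega))
    (by rw [Nat.card_zpowers, hc]; norm_num))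
  -- the centraliser of `c` has order 18 or 36 and normalises `P`
  set K := Subgroup.centralizer ({c} : Set G) with hK
  have hPK : (P : Subgroup G) ≤ K := fun a ha =>
    Subgroup.mem_centralizer_singleton_iff.2 (hPab a ha c hcP)
  have hcN : c ∈ N := hPN hcP
  obtain ⟨S₂, hS₂⟩ : ∃ S₂ : Sylow 2 ↥C, True := ⟨default, trivial⟩
  -- a 2-element inverting `c`
  obtain ⟨h, hh, hht, hhc⟩ : ∃ h : G, orderOf h ∣ 4 ∧ Commute h t ∧ h * c * h⁻¹ = c⁻¹ := by
    by_cases hK18 : (P : Subgroup G).subgroupOf K |>.Normal
    · -- `t` normalises `P`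
      have htK : t ∈ K := Subgroup.mem_centralizer_singleton_iff.2 htc.eq
      have htP : t ∈ Subgroup.normalizer ((P : Subgroup G) : Set G) := by
        refine Subgroup.mem_normalizer_iff.2 fun a => ⟨fun ha => ?_, fun ha => ?_⟩
        · exact hK18.conj_mem ⟨a, hPK ha⟩ ha ⟨t, htK⟩
        · have := hK18.conj_mem ⟨t * a * t⁻¹, hPK ha⟩ ha ⟨t⁻¹, inv_mem htK⟩
          change t⁻¹ * (t * a * t⁻¹) * t⁻¹⁻¹ ∈ (P : Subgroup G) at this
          rwa [show t⁻¹ * (t * a * t⁻¹) * t⁻¹⁻¹ = a by group] at this
      set M := Subgroup.normalizer ((P : Subgroup G) : Set G) with hM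
      obtain ⟨n, hnM, hnc⟩ := sylow_three_moved hG P hPab hcP hc
      -- a Sylow 2-subgroup of the normalizer containing `t`
      obtain ⟨H, hH⟩ := (IsPGroup.of_card (p := 2) (n := 1) (G := ↥(Subgroup.zpowers (⟨t, htP⟩ : ↥M)))
        (by rw [Nat.card_zpowers, Subgroup.orderOf_mk, ht, pow_one])).exists_le_sylow
      have hM36 : Nat.card ↥M = 18 ∨ Nat.card ↥M = 36 ∨ Nat.card ↥M = 9 ∨ Nat.card ↥M = 45 := by
        have h1 : Nat.card ↥M ≤ 60 := card_le_sixty hG (normalizer_ne_top hG
          (fun h => by rw [h, Subgroup.card_bot] at hP9; norm_num at hP9) (by rw [hP9]; norm_num))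
        have h2 : 9 ∣ Nat.card ↥M := by
          have := Subgroup.card_dvd_of_le (Subgroup.le_normalizer : (P : Subgroup G) ≤ M)
          rw [hP9] at this
          exact this
        have h3 := hG ▸ M.card_subgroup_dvd_card
        have hpos : 0 < Nat.card ↥M := Nat.card_pos
        have : Nat.card ↥M ≠ 27 ∧ Nat.card ↥M ≠ 54 := by
          constructor <;> intro h' <;> rw [h'] at h3 <;> omega
        omega
      obtain ⟨k, hk⟩ := IsPGroup.iff_card.1 H.isPGroup'
      have hk2 : k ≤ 2 := by
        by_contra hk3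
        have hd : 2 ^ 3 ∣ Nat.card ↥M :=
          (pow_dvd_pow 2 (by omega : 3 ≤ k)).trans (hk ▸ (H : Subgroup ↥M).card_subgroup_dvd_card)
        omega
      have hHab : ∀ a ∈ (H : Subgroup ↥M), ∀ b ∈ (H : Subgroup ↥M), a * b = b * a := by
        rcases (by omega : k = 0 ∨ k = 1 ∨ k = 2) with rfl | rfl | rfl
        · intro a ha b hb
          rw [pow_zero, Subgroup.card_eq_one] at hk
          rw [hk, Subgroup.mem_bot] at ha
          simp [ha]
        · haveI : IsCyclic ↥(H : Subgroup ↥M) := isCyclic_of_prime_card (hk.trans (pow_one 2))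
          exact fun a ha b hb => congrArg Subtype.val
            (mul_comm' (⟨a, ha⟩ : ↥(H : Subgroup ↥M)) ⟨b, hb⟩)
        · haveI : IsMulCommutative ↥(H : Subgroup ↥M) :=
            IsPGroup.isMulCommutative_of_card_eq_prime_sq (p := 2) hk
          exact fun a ha b hb => congrArg Subtype.val
            (mul_comm' (⟨a, ha⟩ : ↥(H : Subgroup ↥M)) ⟨b, hb⟩)
      have htH : (⟨t, htP⟩ : ↥M) ∈ (H : Subgroup ↥M) := hH (Subgroup.mem_zpowers _)
      -- `H` is not contained in the centraliser of `c`
      have hHK : ∃ a ∈ (H : Subgroup ↥M), (a : G) * c * (a : G)⁻¹ ≠ c := by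
        by_contra hall
        push Not at hall
        refine hnc ?_
        let D : Subgroup ↥M := (Subgroup.centralizer ({c} : Set G)).subgroupOf M
        have hHD : (H : Subgroup ↥M) ≤ D := fun a ha =>
          Subgroup.mem_centralizer_singleton_iff.2 (mul_inv_eq_iff_eq_mul.1 (hall a ha))
        have hPD : (P : Subgroup G).subgroupOf M ≤ D := fun a ha =>
          Subgroup.mem_centralizer_singleton_iff.2 (hPab _ ha c hcP)
        have h9D : 9 ∣ Nat.card ↥D := by
          have := Subgroup.card_dvd_of_le hPD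
          rw [Nat.card_congr (Subgroup.subgroupOfEquivOfLe Subgroup.le_normalizer).toEquiv, hP9]
            at this
          simpa using this
        have hHd : 2 ^ k ∣ Nat.card ↥D := hk ▸ Subgroup.card_dvd_of_le hHD
        have hDM : D = ⊤ := by
          refine Subgroup.eq_top_of_card_eq D ?_
          have hDd := D.card_subgroup_dvd_card
          have hDpos : 0 < Nat.card ↥D := Nat.card_pos
          have hle := Nat.le_of_dvd Nat.card_pos hDd
          have hHi : ¬ 2 ∣ (H : Subgroup ↥M).index := H.not_dvd_index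
          have hHc := (H : Subgroup ↥M).card_mul_index
          rw [hk] at hHc
          have h5 : ¬ 5 ∣ Nat.card ↥M := by
            intro h5
            have h45 : Nat.card ↥M = 45 := by omega
            have h2 : 2 ∣ Nat.card ↥M := by
              rw [← ht, ← Subgroup.orderOf_mk t htP]
              exact orderOf_dvd_natCard _
            omega
          rcases (by omega : k = 0 ∨ k = 1 ∨ k = 2) with rfl | rfl | rfl <;>
            simp only [pow_zero, pow_one, Nat.reducePow] at hHd hHc <;> omega
        have : (⟨n, hnM⟩ : ↥M) ∈ D := by rw [hDM]; trivial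
        exact mul_inv_eq_iff_eq_mul.2 (Subgroup.mem_centralizer_singleton_iff.1 this)
      obtain ⟨a, ha, hac⟩ := hHK
      refine ⟨a, ?_, ?_, ?_⟩
      · have := Subgroup.orderOf_dvd_natCard _ ha
        rw [hk, ← Subgroup.orderOf_coe] at this
        exact this.trans (by rw [show (4 : ℕ) = 2 ^ 2 from rfl]; exact pow_dvd_pow 2 hk2) 
      · exact congrArg Subtype.val (hHab a ha _ htH)
      · -- `a` normalises the centraliser of `t` in `P`, which is `⟨c⟩`
        have hat : (a : G) * t = t * (a : G) := congrArg Subtype.val (hHab a ha _ htH)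
        set b := (a : G) * c * (a : G)⁻¹ with hb
        have hbC : b ∈ C := by
          refine mul_mem (mul_mem ?_ hcC) (inv_mem ?_) <;>
            exact Subgroup.mem_centralizer_singleton_iff.2 hat
        have hbP : b ∈ (P : Subgroup G) := (Subgroup.mem_normalizer_iff.1 a.2 c).1 hcP
        have hcard : Nat.card ↥(C ⊓ (P : Subgroup G)) = 3 := by
          have h1 : 3 ∣ Nat.card ↥(C ⊓ (P : Subgroup G)) :=
            by
              have := Subgroup.orderOf_dvd_natCard (C ⊓ (P : Subgroup G))
                (Subgroup.mem_inf.2 ⟨hcC, hcP⟩)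
              rwa [hc] at this
          have h2 := hC24 ▸ Subgroup.card_dvd_of_le (inf_le_left : C ⊓ (P : Subgroup G) ≤ C)
          have h3 : Nat.card ↥(C ⊓ (P : Subgroup G)) ∣ 3 ^ 2 :=
            hP9 ▸ Subgroup.card_dvd_of_le (inf_le_right : C ⊓ (P : Subgroup G) ≤ _)
          obtain ⟨i, hi, hi2⟩ := (Nat.dvd_prime_pow Nat.prime_three).1 h3
          rw [hi2] at h1 h2 ⊢
          interval_cases i <;> omega
        have hz : Subgroup.zpowers c = C ⊓ (P : Subgroup G) :=
          Subgroup.eq_of_le_of_card_ge (Subgroup.zpowers_le.2 (Subgroup.mem_inf.2 ⟨hcC, hcP⟩))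
            (by rw [hcard, Nat.card_zpowers, hc])
        have hbz : b ∈ Subgroup.zpowers c := hz ▸ Subgroup.mem_inf.2 ⟨hbC, hbP⟩
        obtain ⟨i, hi⟩ := (isOfFinOrder_of_finite c).mem_zpowers_iff_mem_range_orderOf.1 hbz |>
          Finset.mem_image.1
        obtain ⟨hi1, hi2⟩ := hi
        rw [hc, Finset.mem_range] at hi1
        interval_cases i
        · exfalso
          rw [pow_zero] at hi2
          have h1 : orderOf b = 3 := (orderOf_conj' (a : G) c).trans hc
          rw [← hi2, orderOf_one] at h1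
          omega
        · exact absurd (hi2.symm.trans (pow_one c)) hac
        · rw [← hi2]
          exact eq_inv_of_mul_eq_one_left (by
            rw [← pow_succ, show (2 + 1 : ℕ) = orderOf c by rw [hc], pow_orderOf_eq_one])
    · -- the centraliser of `c` has four Sylow subgroups
      exfalso
      haveI hK18' := hK18
      have hK36 : Nat.card ↥K = 36 := by
        have h1 : Nat.card ↥K ≤ 60 := card_le_sixty hG (centralizer_ne_top hG
          (fun h => by rw [h, orderOf_one] at hc; omega))
        have h2 : 9 ∣ Nat.card ↥K := by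
          have := Subgroup.card_dvd_of_le hPK
          rw [hP9] at this
          simpa using this
        have h3 : 2 ∣ Nat.card ↥K :=
          ht ▸ Subgroup.orderOf_dvd_natCard _ (Subgroup.mem_centralizer_singleton_iff.2 htc.eq)
        have h4 := hG ▸ K.card_subgroup_dvd_card
        have hpos : 0 < Nat.card ↥K := Nat.card_pos
        have hne : Nat.card ↥K ≠ 54 := by intro h'; rw [h'] at h4; omega
        have h18 : Nat.card ↥K ≠ 18 := by
          intro h'
          refine hK18 (Subgroup.normal_of_index_eq_two ?_)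
          have := ((P : Subgroup G).subgroupOf K).card_mul_index
          rw [Nat.card_congr (Subgroup.subgroupOfEquivOfLe hPK).toEquiv, hP9, h'] at this
          omega
        omega
      let R : Sylow 3 ↥K := P.subtype hPK
      have hR9 : Nat.card ↥(R : Subgroup ↥K) = 9 :=
        (Nat.card_congr (Subgroup.subgroupOfEquivOfLe hPK).toEquiv).trans hP9
      have hn4 : Nat.card (Sylow 3 ↥K) = 4 := by
        have hd := R.card_dvd_index
        have hidx := (R : Subgroup ↥K).card_mul_index
        rw [hR9, hK36] at hidx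
        rw [show (R : Subgroup ↥K).index = 4 by omega] at hd
        have hm : Nat.card (Sylow 3 ↥K) % 3 = 1 := card_sylow_modEq_one 3 ↥K
        have hle := Nat.le_of_dvd (by norm_num) hd
        have hne1 : Nat.card (Sylow 3 ↥K) ≠ 1 := by
          intro h1
          have hN := R.card_eq_index_normalizer
          rw [h1] at hN
          exact hK18 (Subgroup.normalizer_eq_top_iff.1 (Subgroup.index_eq_one.1 hN.symm))
        omega
      -- elements of order three: 4 subgroups of order 9 in `C(c)`; the quotient has a normal four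
      -- group, whose preimage has a characteristic Sylow 2-subgroup
      let cK : ↥K := ⟨c, Subgroup.mem_centralizer_singleton_iff.2 rfl⟩
      have hcK : orderOf cK = 3 := (Subgroup.orderOf_mk _ _).trans hc
      haveI hcn : (Subgroup.zpowers cK).Normal := ⟨fun a ha g => by
        have hga : g * a = a * g := by
          obtain ⟨i, rfl⟩ := ha
          exact ((show Commute g cK from Subtype.ext
            (Subgroup.mem_centralizer_singleton_iff.1 g.2)).zpow_right i).eq
        rwa [hga, mul_inv_cancel_right]⟩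
      let φ : ↥K →* Equiv.Perm (Sylow 3 ↥K) := MulAction.toPermHom ↥K (Sylow 3 ↥K)
      have hker : ∀ Q : Sylow 3 ↥K, φ.ker ≤ Subgroup.normalizer ((Q : Subgroup ↥K) : Set ↥K) :=
        fun Q k hk => Sylow.smul_eq_iff_mem_normalizer.1
          (congrArg (fun f : Equiv.Perm (Sylow 3 ↥K) => f Q) hk)
      have hN9 : ∀ Q : Sylow 3 ↥K, Subgroup.normalizer ((Q : Subgroup ↥K) : Set ↥K) = (Q : Subgroup ↥K) := by
        intro Q
        refine (Subgroup.eq_of_le_of_card_ge Subgroup.le_normalizer ?_).symm
        have h1 := Subgroup.card_mul_index (Subgroup.normalizer ((Q : Subgroup ↥K) : Set ↥K))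
        have h2 : (Subgroup.normalizer ((Q : Subgroup ↥K) : Set ↥K)).index = 4 :=
          Q.card_eq_index_normalizer.symm.trans hn4
        rw [h2, hK36] at h1
        rw [show Nat.card ↥(Q : Subgroup ↥K) = 9 by
          rw [Q.card_eq_multiplicity, ← R.card_eq_multiplicity]; exact hR9]
        omega
      have hcker : cK ∈ φ.ker := by
        refine MonoidHom.mem_ker.2 (Equiv.ext fun Q => Sylow.smul_eq_iff_mem_normalizer.2 ?_)
        have hQ := hN9 Q
        refine (le_of_eq hQ.symm) ?_
        have hp : IsPGroup 3 ↥(Subgroup.zpowers cK) :=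
          IsPGroup.of_card (n := 1) (by rw [Nat.card_zpowers, hcK, pow_one])
        have := Q.is_maximal' (hp.to_sup_of_normal_left Q.isPGroup') le_sup_right
        rw [← this]
        exact (le_sup_left : Subgroup.zpowers cK ≤ _) (Subgroup.mem_zpowers cK)
      have hK3 : Nat.card ↥φ.ker = 3 := by
        have h1 : 3 ∣ Nat.card ↥φ.ker := by
          have := Subgroup.orderOf_dvd_natCard _ hcker
          rwa [hcK] at this
        have h2 : Nat.card ↥φ.ker ∣ 3 ^ 2 := by
          have := Subgroup.card_dvd_of_le ((hker R).trans (le_of_eq (hN9 R)))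
          rw [hR9] at this
          simpa using this
        obtain ⟨i, hi, hi2⟩ := (Nat.dvd_prime_pow Nat.prime_three).1 h2
        rw [hi2] at h1 ⊢
        interval_cases i
        · norm_num at h1
        · rfl
        · exfalso
          have hall : ∀ Q : Sylow 3 ↥K, (Q : Subgroup ↥K) = φ.ker := fun Q =>
            (Subgroup.eq_of_le_of_card_ge ((hker Q).trans (le_of_eq (hN9 Q))) (by
              rw [hi2, Q.card_eq_multiplicity, ← R.card_eq_multiplicity]; exact le_of_eq hR9)).symm
          have : Subsingleton (Sylow 3 ↥K) := ⟨fun Q Q' => Sylow.ext ((hall Q).trans (hall Q').symm)⟩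
          have := Nat.card_of_subsingleton R
          omega
      -- the image is alternating of degree four
      haveI : Fintype (Sylow 3 ↥K) := Fintype.ofFinite _
      have hrange : Nat.card ↥φ.range = 12 := by
        have h1 := φ.ker.card_mul_index
        rw [Subgroup.index_ker, hK3, hK36] at h1
        omega
      have hidx : φ.range.index = 2 := by
        have h1 := φ.range.card_mul_index
        rw [hrange, Nat.card_perm, hn4, show Nat.factorial 4 = 24 from rfl] at h1
        omega
      have halt : φ.range = alternatingGroup (Sylow 3 ↥K) :=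
        Equiv.Perm.eq_alternatingGroup_of_index_eq_two hidx
      have hα : Nat.card (Sylow 3 ↥K) = 4 := hn4
      -- the Sylow 2-subgroup of `C(c)` is normal
      let V : Sylow 2 ↥K := default
      have hV4 : Nat.card ↥(V : Subgroup ↥K) = 4 := by
        rw [V.card_eq_multiplicity, hK36, show (36 : ℕ) = 2 ^ 2 * 9 from rfl,
          Nat.factorization_mul (by norm_num) (by norm_num), Finsupp.add_apply,
          Nat.prime_two.factorization_pow,
          Nat.factorization_eq_zero_of_not_dvd (n := 9) (by norm_num)]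
        simp
      haveI hVn : (V : Subgroup ↥K).Normal := by
        -- its image is the Klein four subgroup
        have himg : (V : Subgroup ↥K).map φ ≤ (alternatingGroup.kleinFour (Sylow 3 ↥K)).map
            (alternatingGroup (Sylow 3 ↥K)).subtype := by
          rintro _ ⟨a, ha, rfl⟩
          have hmem : φ a ∈ alternatingGroup (Sylow 3 ↥K) := halt ▸ ⟨a, rfl⟩
          have h4 : (⟨φ a, hmem⟩ : ↥(alternatingGroup (Sylow 3 ↥K))) ^ 4 = 1 := by
            refine Subtype.ext ?_
            have : a ^ 4 = 1 := orderOf_dvd_iff_pow_eq_one.1 (hV4 ▸ Subgroup.orderOf_dvd_natCard _ ha)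
            simpa using congrArg φ this
          obtain ⟨W, hW⟩ := (IsPGroup.of_card (p := 2) (G := ↥(Subgroup.zpowers
            (⟨φ a, hmem⟩ : ↥(alternatingGroup (Sylow 3 ↥K))))) (n := Nat.log 2 (orderOf
              (⟨φ a, hmem⟩ : ↥(alternatingGroup (Sylow 3 ↥K))))) (by
            obtain ⟨i, -, hi⟩ := (Nat.dvd_prime_pow Nat.prime_two).1
              ((orderOf_dvd_of_pow_eq_one h4).trans (by norm_num : 4 ∣ 2 ^ 2))
            rw [Nat.card_zpowers, hi, Nat.log_pow (by norm_num)])).exists_le_sylow
          rw [alternatingGroup.two_sylow_eq_kleinFour_of_card_eq_four hα W] at hW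
          exact ⟨_, hW (Subgroup.mem_zpowers _), rfl⟩
        -- its preimage has order twelve
        set W := ((alternatingGroup.kleinFour (Sylow 3 ↥K)).map
            (alternatingGroup (Sylow 3 ↥K)).subtype).comap φ with hW
        haveI hkn : (alternatingGroup.kleinFour (Sylow 3 ↥K)).Normal :=
          alternatingGroup.normal_kleinFour hα
        haveI hWn : W.Normal := by
          refine ⟨fun a ha g => ?_⟩
          obtain ⟨w, hw, hwa⟩ := ha
          have hg : φ g ∈ alternatingGroup (Sylow 3 ↥K) := halt ▸ ⟨g, rfl⟩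
          refine ⟨⟨φ g, hg⟩ * w * ⟨φ g, hg⟩⁻¹, hkn.conj_mem w hw _, ?_⟩
          rw [map_mul, map_mul, map_mul, map_mul, map_inv, map_inv, hwa]
          rfl
        have hVW : (V : Subgroup ↥K) ≤ W := Subgroup.map_le_iff_le_comap.1 himg
        have hkcard : Nat.card ↥(alternatingGroup.kleinFour (Sylow 3 ↥K)) = 4 :=
          alternatingGroup.kleinFour_card_of_card_eq_four hα
        have hWle : Nat.card ↥W ≤ 12 := by
          let ψ : ↥W →* Equiv.Perm (Sylow 3 ↥K) := φ.comp W.subtype
          have h1 := ψ.ker.card_mul_index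
          rw [Subgroup.index_ker] at h1
          have h2 : Nat.card ↥ψ.range ≤ 4 := by
            rw [← hkcard, ← Subgroup.card_map_of_injective (alternatingGroup (Sylow 3 ↥K)).subtype_injective]
            refine Subgroup.card_le_of_le ?_
            rintro _ ⟨w, rfl⟩
            exact w.2
          have h3 : Nat.card ↥ψ.ker ≤ 3 := by
            refine le_of_le_of_eq ?_ hK3
            refine Nat.card_le_card_of_injective (fun k => ⟨((k : ↥W) : ↥K), k.2⟩) ?_
            intro a b hab
            exact Subtype.ext (Subtype.ext (congrArg (fun z : ↥φ.ker => (z : ↥K)) hab))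
          nlinarith
        have h12 : W = (V : Subgroup ↥K) ⊔ Subgroup.zpowers cK := by
          refine (Subgroup.eq_of_le_of_card_ge (sup_le hVW (Subgroup.zpowers_le.2 ?_)) ?_).symm
          · exact ⟨1, Subgroup.one_mem _, by rw [MonoidHom.mem_ker.1 hcker, map_one]⟩
          · refine le_trans hWle (Nat.le_of_dvd Nat.card_pos ?_)
            exact Nat.Coprime.mul_dvd_of_dvd_of_dvd (by norm_num : Nat.Coprime 4 3)
              (hV4 ▸ Subgroup.card_dvd_of_le le_sup_left)
              (hcK ▸ Nat.card_zpowers cK ▸ Subgroup.card_dvd_of_le le_sup_right)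
        refine ⟨fun v hv g => ?_⟩
        have hgv : g * v * g⁻¹ ∈ (V : Subgroup ↥K) ⊔ Subgroup.zpowers cK :=
          h12 ▸ hWn.conj_mem v (h12.symm ▸ (le_sup_left : (V : Subgroup ↥K) ≤ _) hv) g
        haveI : (Subgroup.zpowers cK).Normal := hcn
        rw [Subgroup.mem_sup_of_normal_right] at hgv
        obtain ⟨v', hv', q, hq, hvq⟩ := hgv
        have hcomm : Commute v' q := by
          obtain ⟨i, rfl⟩ := hq
          exact (show Commute v' cK from Subtype.ext
            (Subgroup.mem_centralizer_singleton_iff.1 v'.2)).zpow_right i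
        have hq4 : q ^ 4 = 1 := by
          have h1 : (g * v * g⁻¹) ^ 4 = 1 := by
            rw [conj_pow, orderOf_dvd_iff_pow_eq_one.1 (hV4 ▸ Subgroup.orderOf_dvd_natCard _ hv),
              mul_one, mul_inv_cancel]
          rw [← hvq, hcomm.mul_pow,
            orderOf_dvd_iff_pow_eq_one.1 (hV4 ▸ Subgroup.orderOf_dvd_natCard _ hv'), one_mul] at h1
          exact h1
        have hq3 : q ^ 3 = 1 := by
          have := hcK ▸ Nat.card_zpowers cK ▸ Subgroup.orderOf_dvd_natCard _ hq
          exact orderOf_dvd_iff_pow_eq_one.1 this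
        have hq1 : q = 1 := by rwa [pow_succ, hq3, one_mul] at hq4
        rw [← hvq, hq1, mul_one]
        exact hv'
      -- normalizer of the four group is too big
      set U := (V : Subgroup ↥K).map K.subtype with hU
      have hU4 : Nat.card ↥U = 4 := (Subgroup.card_map_of_injective K.subtype_injective).trans hV4
      obtain ⟨S, hS⟩ := (IsPGroup.of_card (p := 2) (n := 2) (G := ↥U) (by rw [hU4]; norm_num)).exists_le_sylow
      have hS8 := card_sylow hG S (n := 3) (by norm_num) (by norm_num)
      have hKN : K ≤ Subgroup.normalizer (U : Set G) := by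
        intro h hh
        refine Subgroup.mem_normalizer_iff.2 fun a => ⟨?_, ?_⟩
        · rintro ⟨b, hb, rfl⟩
          exact ⟨⟨h, hh⟩ * b * ⟨h, hh⟩⁻¹, hVn.conj_mem b hb _, rfl⟩
        · rintro ⟨b, hb, hba⟩
          refine ⟨⟨h, hh⟩⁻¹ * b * ⟨h, hh⟩⁻¹⁻¹, hVn.conj_mem b hb _, ?_⟩
          change h⁻¹ * (b : G) * h⁻¹⁻¹ = a
          rw [show (b : G) = h * a * h⁻¹ from hba]
          group
      have hSN : (S : Subgroup G) ≤ Subgroup.normalizer (U : Set G) := by
        haveI : (U.subgroupOf (S : Subgroup G)).Normal := by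
          refine Subgroup.normal_of_index_eq_two ?_
          have := (U.subgroupOf (S : Subgroup G)).card_mul_index
          rw [Nat.card_congr (Subgroup.subgroupOfEquivOfLe hS).toEquiv, hU4, hS8] at this
          omega
        exact Subgroup.le_normalizer_of_normal_subgroupOf hS
      have hd1 := hK36 ▸ Subgroup.card_dvd_of_le hKN
      have hd2 := hS8 ▸ Subgroup.card_dvd_of_le hSN
      have hle : Nat.card ↥(Subgroup.normalizer (U : Set G)) ≤ 60 := card_le_sixty hG (normalizer_ne_top hG
        (fun h => by rw [h, Subgroup.card_bot] at hU4; omega) (by rw [hU4]; norm_num))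
      have h72 : 72 ∣ Nat.card ↥(Subgroup.normalizer (U : Set G)) := by
        have : Nat.lcm 36 (2 ^ 3) = 72 := by decide
        exact this ▸ Nat.lcm_dvd hd1 hd2
      have := Nat.le_of_dvd Nat.card_pos h72
      omega
  -- `⟨c⟩` is normal in the centraliser of `t`
  have hcNC : C ≤ N := by
    let cC : ↥C := ⟨c, hcC⟩
    have hcC3 : orderOf cC = 3 := (Subgroup.orderOf_mk _ _).trans hc
    obtain ⟨R, hR⟩ := (IsPGroup.of_card (p := 3) (n := 1) (G := ↥(Subgroup.zpowers cC))
      (by rw [Nat.card_zpowers, hcC3, pow_one])).exists_le_sylow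
    have hR3 : Nat.card ↥(R : Subgroup ↥C) = 3 := by
      rw [R.card_eq_multiplicity, hC24, show (24 : ℕ) = 3 ^ 1 * 8 from rfl,
        Nat.factorization_mul (by norm_num) (by norm_num), Finsupp.add_apply,
        Nat.prime_three.factorization_pow,
        Nat.factorization_eq_zero_of_not_dvd (n := 8) (by norm_num)]
      simp
    have hRz : Subgroup.zpowers cC = (R : Subgroup ↥C) :=
      Subgroup.eq_of_le_of_card_ge hR (by rw [hR3, Nat.card_zpowers, hcC3])
    have hhC : h ∈ C := Subgroup.mem_centralizer_singleton_iff.2 hht.eq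
    let NC := Subgroup.normalizer ((R : Subgroup ↥C) : Set ↥C)
    have hmem : ∀ g : ↥C, (g * cC * g⁻¹ = cC ∨ g * cC * g⁻¹ = cC⁻¹) → g ∈ NC := by
      intro g hg
      change g ∈ Subgroup.normalizer ((R : Subgroup ↥C) : Set ↥C)
      rw [← hRz]
      refine Subgroup.mem_normalizer_iff.2 fun a => ?_
      have h2 : ∀ i : ℤ, g * cC ^ i * g⁻¹ ∈ Subgroup.zpowers cC := fun i => by
        rw [← conj_zpow]
        rcases hg with hg | hg <;> rw [hg]
        · exact zpow_mem (Subgroup.mem_zpowers _) i
        · exact zpow_mem (inv_mem (Subgroup.mem_zpowers _)) i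
      constructor
      · rintro ⟨i, rfl⟩; exact h2 i
      · rintro ⟨i, hi⟩
        have h3 : a = g⁻¹ * cC ^ i * g := by rw [show cC ^ i = g * a * g⁻¹ from hi]; group
        rw [h3, show g⁻¹ * cC ^ i * g = (g⁻¹ * cC * g⁻¹⁻¹) ^ i by rw [conj_zpow, inv_inv]]
        refine zpow_mem ?_ i
        rw [inv_inv]
        rcases hg with hg | hg
        · rw [show g⁻¹ * cC * g = cC from by
            conv_lhs => rw [← hg]
            group]
          exact Subgroup.mem_zpowers _
        · have : g⁻¹ * cC * g = cC⁻¹ := by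
            have h4 : g⁻¹ * cC⁻¹ * g = cC := by
              rw [← hg]; group
            calc g⁻¹ * cC * g = (g⁻¹ * cC⁻¹ * g)⁻¹ := by group
              _ = cC⁻¹ := by rw [h4]
          rw [this]
          exact inv_mem (Subgroup.mem_zpowers _)
    have hhN : (⟨h, hhC⟩ : ↥C) ∈ NC := hmem _ (Or.inr (Subtype.ext hhc))
    let tC : ↥C := ⟨t, Subgroup.mem_centralizer_singleton_iff.2 rfl⟩
    have htN : tC ∈ NC := hmem _ (Or.inl (Subtype.ext (by
      change t * c * t⁻¹ = c
      rw [htc.eq, mul_inv_cancel_right])))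
    have h3N : 3 ∣ Nat.card ↥NC := hR3 ▸ Subgroup.card_dvd_of_le Subgroup.le_normalizer
    have h4N : 4 ∣ Nat.card ↥NC := by
      have hht' : Commute (⟨h, hhC⟩ : ↥C) tC := Subtype.ext hht.eq
      have hcom := Subgroup.isMulCommutative_closure (k := ({⟨h, hhC⟩, tC} : Set ↥C)) (by
        rintro p (rfl | rfl) q (rfl | rfl)
        exacts [rfl, hht'.eq, hht'.eq.symm, rfl])
      set A := Subgroup.closure ({⟨h, hhC⟩, tC} : Set ↥C) with hA
      have hAN : A ≤ NC := (Subgroup.closure_le _).2 (by rintro _ (rfl | rfl); exacts [hhN, htN])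
      refine dvd_trans ?_ (Subgroup.card_dvd_of_le hAN)
      have hAh : (⟨h, hhC⟩ : ↥C) ∈ A := Subgroup.subset_closure (Or.inl rfl)
      have hAt : tC ∈ A := Subgroup.subset_closure (Or.inr rfl)
      have hd4 : orderOf (⟨h, hhC⟩ : ↥C) ∣ 2 ^ 2 := by rw [Subgroup.orderOf_mk]; exact hh
      obtain ⟨i, hi, hi2⟩ := (Nat.dvd_prime_pow Nat.prime_two).1 hd4
      interval_cases i
      · exfalso
        rw [Subgroup.orderOf_mk, pow_zero, orderOf_eq_one_iff] at hi2
        rw [hi2, one_mul, inv_one, mul_one] at hhc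
        have : c ^ 2 = 1 := by rw [sq]; nth_rw 2 [hhc]; exact mul_inv_cancel c
        have := orderOf_dvd_of_pow_eq_one this
        rw [hc] at this; omega
      · -- two distinct commuting involutions
        have hne : (⟨h, hhC⟩ : ↥C) ≠ tC := fun e => by
          have e' : h = t := congrArg Subtype.val e
          rw [e', htc.eq, mul_inv_cancel_right] at hhc
          have : c ^ 2 = 1 := by rw [sq]; nth_rw 2 [hhc]; exact mul_inv_cancel c
          have := orderOf_dvd_of_pow_eq_one this
          rw [hc] at this; omega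
        have ho1 : orderOf (⟨h, hhC⟩ : ↥C) = 2 := by rw [hi2, pow_one]
        have ho2 : orderOf tC = 2 := (Subgroup.orderOf_mk _ _).trans ht
        have hp := orderOf_mul_two ho1 ho2 hht' hne
        have hsub : ({1, ⟨h, hhC⟩, tC, ⟨h, hhC⟩ * tC} : Set ↥C) ⊆ (A : Set ↥C) := by
          rintro _ (rfl | rfl | rfl | rfl)
          exacts [A.one_mem, hAh, hAt, A.mul_mem hAh hAt]
        have h4 : ({1, ⟨h, hhC⟩, tC, ⟨h, hhC⟩ * tC} : Set ↥C).ncard = 4 := by
          rw [Set.ncard_insert_of_notMem (by
            simp only [Set.mem_insert_iff, Set.mem_singleton_iff, not_or]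
            exact ⟨(ne_one_of_orderOf ho1).symm, (ne_one_of_orderOf ho2).symm,
              (ne_one_of_orderOf hp).symm⟩),
            Set.ncard_insert_of_notMem (by
            simp only [Set.mem_insert_iff, Set.mem_singleton_iff, not_or]
            exact ⟨hne, fun e => ne_one_of_orderOf ho2 (mul_eq_left.1 e.symm)⟩),
            Set.ncard_pair (fun e => ne_one_of_orderOf ho1 (mul_eq_right.1 e.symm))]
        have hle4 := Set.ncard_le_ncard hsub
        rw [h4, ← Nat.card_coe_set_eq] at hle4
        simp only [SetLike.coe_sort_coe] at hle4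
        have hsq : ∀ a ∈ A, a ^ 2 = 1 := by
          intro a ha
          induction ha using Subgroup.closure_induction with
          | mem a ha =>
            rcases ha with rfl | rfl
            · rw [← ho1, pow_orderOf_eq_one]
            · rw [← ho2, pow_orderOf_eq_one]
          | one => exact one_pow 2
          | mul p q hp hq ihp ihq =>
            have hpq : Commute p q := congrArg Subtype.val (hcom.is_comm.comm ⟨p, hp⟩ ⟨q, hq⟩)
            rw [hpq.mul_pow, ihp, ihq, one_mul]
          | inv p _ ih => rw [inv_pow, ih, inv_one]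
        have hA2 : IsPGroup 2 ↥A := fun a => ⟨1, Subtype.ext (by simpa using hsq a a.2)⟩
        obtain ⟨j, hj⟩ := IsPGroup.iff_card.1 hA2
        rw [hj] at hle4 ⊢
        have hj2 : 2 ≤ j := by
          by_contra hj'
          have : 2 ^ j ≤ 2 ^ 1 := Nat.pow_le_pow_right (by norm_num) (by omega)
          omega
        exact (show 4 = 2 ^ 2 from rfl) ▸ pow_dvd_pow 2 hj2
      · exact (show 4 = 2 ^ 2 from rfl) ▸ hi2 ▸ Subgroup.orderOf_dvd_natCard _ hAh
    have h12 : 12 ∣ Nat.card ↥NC :=
      Nat.Coprime.mul_dvd_of_dvd_of_dvd (by norm_num : Nat.Coprime 3 4) h3N h4N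
    have hNtop : NC = ⊤ := by
      have hi : Nat.card (Sylow 3 ↥C) = NC.index := R.card_eq_index_normalizer
      have hm : Nat.card (Sylow 3 ↥C) % 3 = 1 := card_sylow_modEq_one 3 ↥C
      have hmul := NC.card_mul_index
      rw [hC24] at hmul
      obtain ⟨j, hj⟩ := h12
      rw [hj] at hmul
      refine Subgroup.index_eq_one.1 ?_
      have : NC.index ≤ 2 := by
        rcases j with _ | j
        · simp at hmul
        · nlinarith
      omega
    intro g hg
    have hgN : (⟨g, hg⟩ : ↥C) ∈ NC := by rw [hNtop]; trivial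
    have key : ∀ a : G, a ∈ Subgroup.zpowers c ↔ ∃ ha : a ∈ C, (⟨a, ha⟩ : ↥C) ∈ (R : Subgroup ↥C) := by
      intro a
      rw [← hRz]
      constructor
      · rintro ⟨i, rfl⟩
        exact ⟨zpow_mem hcC i, ⟨i, Subtype.ext (by simp [cC])⟩⟩
      · rintro ⟨ha, i, hi⟩
        exact ⟨i, by simpa [cC] using congrArg Subtype.val hi⟩
    refine Subgroup.mem_normalizer_iff.2 fun a => ?_
    rw [key, key]
    constructor
    · rintro ⟨ha, hR'⟩
      exact ⟨mul_mem (mul_mem hg ha) (inv_mem hg), (Subgroup.mem_normalizer_iff.1 hgN _).1 hR'⟩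
    · rintro ⟨ha, hR'⟩
      have ha' : a ∈ C := by
        have := mul_mem (mul_mem (inv_mem hg) ha) hg
        rwa [show g⁻¹ * (g * a * g⁻¹) * g = a by group] at this
      exact ⟨ha', (Subgroup.mem_normalizer_iff.1 hgN ⟨a, ha'⟩).2 hR'⟩
  have hd1 : 8 ∣ Nat.card ↥N := h8.trans (Subgroup.card_dvd_of_le hcNC)
  have hd2 : 9 ∣ Nat.card ↥N := by
    have := Subgroup.card_dvd_of_le hPN
    rw [hP9] at this
    simpa using this
  have h72 : 72 ∣ Nat.card ↥N := Nat.Coprime.mul_dvd_of_dvd_of_dvd (by norm_num : Nat.Coprime 8 9) hd1 hd2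
  have := Nat.le_of_dvd Nat.card_pos h72
  omega

include hG in
/-- The centraliser of a central involution of a Sylow 2-subgroup is dihedral of order eight. -/
theorem exists_dihedral :
    ∃ t : G, orderOf t = 2 ∧
      Nonempty (↥(Subgroup.centralizer ({t} : Set G)) ≃* DihedralGroup 4) := by
  classical
  haveI : Fact (Nat.Prime 2) := ⟨Nat.prime_two⟩
  haveI : Fact (Nat.Prime 3) := ⟨Nat.prime_three⟩
  haveI : Fact (Nat.Prime 5) := ⟨by norm_num⟩
  let S : Sylow 2 G := default
  have hS8 := card_sylow hG S (n := 3) (by norm_num) (by norm_num)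
  haveI : Nontrivial ↥(S : Subgroup G) := Finite.one_lt_card_iff_nontrivial.1 (by rw [hS8]; norm_num)
  -- centralisers of central involutions
  have hcen : ∀ t : G, orderOf t = 2 → t ∈ (S : Subgroup G) → (∀ s ∈ (S : Subgroup G), s * t = t * s) →
      Subgroup.centralizer ({t} : Set G) = (S : Subgroup G) := by
    intro t ht htS hst
    have hSC : (S : Subgroup G) ≤ Subgroup.centralizer ({t} : Set G) := fun s hs =>
      Subgroup.mem_centralizer_singleton_iff.2 (hst s hs)
    refine (Subgroup.eq_of_le_of_card_ge hSC ?_).symm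
    set C := Subgroup.centralizer ({t} : Set G) with hC
    have h8 : 8 ∣ Nat.card ↥C := by
      have := Subgroup.card_dvd_of_le hSC
      rw [hS8] at this
      simpa using this
    have h3 : ¬ 3 ∣ Nat.card ↥C := fun h3 => by
      obtain ⟨c, hc⟩ := exists_prime_orderOf_dvd_card' 3 h3
      exact not_commute_three hG ht ((Subgroup.orderOf_coe c).trans hc)
        (show Commute t (c : G) from (Subgroup.mem_centralizer_singleton_iff.1 c.2).symm) h8
    have hle := card_le_sixty hG (centralizer_ne_top hG (ne_one_of_orderOf ht))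
    have hd := hG ▸ C.card_subgroup_dvd_card
    have h40 := card_ne_forty hG C
    rw [← hC] at hle
    have hpos : 0 < Nat.card ↥C := Nat.card_pos
    rw [hS8]
    have : Nat.card ↥C = 8 ∨ Nat.card ↥C = 16 ∨ Nat.card ↥C = 24 ∨ Nat.card ↥C = 32 ∨
        Nat.card ↥C = 40 ∨ Nat.card ↥C = 48 ∨ Nat.card ↥C = 56 := by omega
    rcases this with h | h | h | h | h | h | h <;> rw [h] at hd h3 h40 ⊢ <;> omega
  -- `S` is not abelian
  have hnab : ¬ ∀ a ∈ (S : Subgroup G), ∀ b ∈ (S : Subgroup G), a * b = b * a := by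
    intro hab
    set N := Subgroup.normalizer ((S : Subgroup G) : Set G) with hN
    have hNle : Nat.card ↥N ≤ 60 := card_le_sixty hG (normalizer_ne_top hG
      (fun h => by rw [h, Subgroup.card_bot] at hS8; norm_num at hS8) (by rw [hS8]; norm_num))
    have h8N : 8 ∣ Nat.card ↥N := by
      have := Subgroup.card_dvd_of_le (Subgroup.le_normalizer : (S : Subgroup G) ≤ N)
      rw [hS8] at this
      exact this
    have hNne : Nat.card ↥N ≠ 8 := by
      intro h
      have hNS : N = (S : Subgroup G) :=
        (Subgroup.eq_of_le_of_card_ge Subgroup.le_normalizer (by rw [hS8]; exact le_of_eq h)).symm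
      obtain ⟨P', K, hKn, hc⟩ := Fusion.hasNormalPComplement_of_normalizer_le_centralizer S
        (by rw [← hN, hNS]; exact fun a ha b hb => hab b hb a ha)
      have hc' := hc.card_mul
      rw [P'.card_eq_multiplicity, ← S.card_eq_multiplicity, hS8, hG] at hc'
      rcases hKn.eq_bot_or_eq_top with h' | h'
      · rw [h', Subgroup.card_bot] at hc'; norm_num at hc'
      · rw [h', Subgroup.card_top, hG] at hc'; norm_num at hc'
    have hd := hG ▸ N.card_subgroup_dvd_card
    have h40 := card_ne_forty hG N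
    have hpos : 0 < Nat.card ↥N := Nat.card_pos
    have h24 : Nat.card ↥N = 24 := by
      have : Nat.card ↥N = 16 ∨ Nat.card ↥N = 24 ∨ Nat.card ↥N = 32 ∨
          Nat.card ↥N = 40 ∨ Nat.card ↥N = 48 ∨ Nat.card ↥N = 56 := by omega
      rcases this with h | h | h | h | h | h <;> rw [h] at hd h40 ⊢ <;> omega
    obtain ⟨c, hc⟩ := exists_prime_orderOf_dvd_card' 3 (G := ↥N) (by rw [h24]; norm_num)
    have hc' : orderOf (c : G) = 3 := (Subgroup.orderOf_coe c).trans hc
    -- `⟨c⟩` acts without fixed points on the seven non-identity elements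
    let X := {s : G // s ∈ (S : Subgroup G) ∧ s ≠ 1}
    let σ : Equiv.Perm X :=
      { toFun := fun s => ⟨c * s.1 * (c : G)⁻¹, (Subgroup.mem_normalizer_iff.1 c.2 s.1).1 s.2.1,
          by simpa using s.2.2⟩
        invFun := fun s => ⟨(c : G)⁻¹ * s.1 * c, (Subgroup.mem_normalizer_iff.1 c.2 _).2 (by
          rw [show (c : G) * ((c : G)⁻¹ * s.1 * c) * (c : G)⁻¹ = s.1 by group]; exact s.2.1),
          fun h => s.2.2 (by rw [show s.1 = c * ((c : G)⁻¹ * s.1 * c) * (c : G)⁻¹ by group, h]; group)⟩
        left_inv := fun s => Subtype.ext (by simp [mul_assoc])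
        right_inv := fun s => Subtype.ext (by simp [mul_assoc]) }
    have hσ3 : σ ^ 3 = 1 := by
      refine Equiv.ext fun s => Subtype.ext ?_
      change (c : G) * ((c : G) * ((c : G) * s.1 * (c : G)⁻¹) * (c : G)⁻¹) * (c : G)⁻¹ = s.1
      calc _ = (c : G) ^ 3 * s.1 * ((c : G) ^ 3)⁻¹ := by rw [pow_succ, sq]; group
        _ = s.1 := by rw [← hc', pow_orderOf_eq_one, one_mul, inv_one, mul_one]
    have hfix : σ.supportᶜ = ∅ := by
      refine Finset.eq_empty_iff_forall_notMem.2 fun s hs => ?_
      rw [Finset.mem_compl, Equiv.Perm.notMem_support] at hs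
      have hcs : (c : G) * s.1 = s.1 * c := mul_inv_eq_iff_eq_mul.1 (congrArg Subtype.val hs)
      obtain ⟨⟨w, hwS⟩, hws, hw⟩ : ∃ w : ↥(S : Subgroup G),
          w ∈ Subgroup.zpowers (⟨s.1, s.2.1⟩ : ↥(S : Subgroup G)) ∧ orderOf w = 2 := by
        have hz : 2 ∣ Nat.card ↥(Subgroup.zpowers (⟨s.1, s.2.1⟩ : ↥(S : Subgroup G))) := by
          obtain ⟨k, hk⟩ := IsPGroup.iff_card.1
            (S.isPGroup'.to_subgroup (Subgroup.zpowers (⟨s.1, s.2.1⟩ : ↥(S : Subgroup G))))
          rw [hk]
          refine dvd_pow_self 2 fun h0 => s.2.2 ?_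
          rw [h0, pow_zero, Subgroup.card_eq_one, Subgroup.zpowers_eq_bot] at hk
          exact congrArg Subtype.val hk
        obtain ⟨w, hw⟩ := exists_prime_orderOf_dvd_card' 2 hz
        exact ⟨w, w.2, (Subgroup.orderOf_coe w).trans hw⟩
      have hw2 : orderOf w = 2 := by rwa [Subgroup.orderOf_mk] at hw
      have hwc : Commute w (c : G) := by
        obtain ⟨i, hi⟩ := hws
        have e : s.1 ^ i = w := by simpa using congrArg Subtype.val hi
        rw [← e]
        exact ((show Commute (c : G) s.1 from hcs).zpow_right i).symm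
      refine not_commute_three hG hw2 hc' hwc ?_
      rw [hcen w hw2 hwS (fun a ha => hab a ha w hwS), hS8]
      norm_num
    have hsupp : σ.support.card = 7 := by
      have h1 : σ.support = Finset.univ := by
        rw [← compl_compl σ.support, hfix, Finset.compl_empty]
      rw [h1, Finset.card_univ, ← Nat.card_eq_fintype_card]
      have h2 : Nat.card X + 1 = 8 := by
        have e : Nat.card X = ((S : Set G) \ {1}).ncard := by
          rw [← Nat.card_coe_set_eq]; exact Nat.card_congr (Equiv.subtypeEquivRight fun _ => Iff.rfl)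
        have h3 := Set.ncard_diff_singleton_of_mem (s := ((S : Subgroup G) : Set G)) (a := 1)
          (S : Subgroup G).one_mem
        have h4 : ((S : Subgroup G) : Set G).ncard = 8 := (Nat.card_coe_set_eq _).symm.trans hS8
        change Nat.card X = (((S : Subgroup G) : Set G) \ {1}).ncard at e
        rw [e, h3, h4]
      omega
    have hrep := Equiv.Perm.cycleType_of_pow_prime_eq_one hσ3
    have hsum := Equiv.Perm.sum_cycleType σ
    rw [hrep, Multiset.sum_replicate, hsupp, smul_eq_mul] at hsum
    omega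
  push Not at hnab
  obtain ⟨a, ha, b, hb, hab⟩ := hnab
  -- a central involution
  haveI := S.isPGroup'.center_nontrivial
  obtain ⟨k, hk⟩ := IsPGroup.iff_card.1 (S.isPGroup'.to_subgroup (Subgroup.center ↥(S : Subgroup G)))
  have hk0 : k ≠ 0 := by
    rintro rfl
    have := Finite.one_lt_card (α := ↥(Subgroup.center ↥(S : Subgroup G)))
    omega
  obtain ⟨z, hz⟩ := exists_prime_orderOf_dvd_card' 2
    (G := ↥(Subgroup.center ↥(S : Subgroup G))) (hk ▸ dvd_pow_self 2 hk0)
  set t : G := ((z : ↥(S : Subgroup G)) : G) with htdef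
  have ht : orderOf t = 2 := by rw [htdef, Subgroup.orderOf_coe, Subgroup.orderOf_coe]; exact hz
  have hst : ∀ s ∈ (S : Subgroup G), s * t = t * s := fun s hs =>
    congrArg Subtype.val (Subgroup.mem_center_iff.1 z.2 ⟨s, hs⟩)
  have htS : t ∈ (S : Subgroup G) := (z : ↥(S : Subgroup G)).2
  have hC := hcen t ht htS hst
  refine ⟨t, ht, ?_⟩
  -- an element of order four
  obtain ⟨r, hr, hr4⟩ : ∃ r ∈ (S : Subgroup G), orderOf r = 4 := by
    by_contra hno
    push Not at hno
    have hsq : ∀ s ∈ (S : Subgroup G), s * s = 1 := by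
      intro s hs
      have hd : orderOf s ∣ 2 ^ 3 := hS8 ▸ Subgroup.orderOf_dvd_natCard _ hs
      obtain ⟨i, hi, hi2⟩ := (Nat.dvd_prime_pow Nat.prime_two).1 hd
      interval_cases i
      · rw [orderOf_eq_one_iff.1 (show orderOf s = 1 by simpa using hi2), mul_one]
      · rw [← sq]; exact orderOf_dvd_iff_pow_eq_one.1 (by rw [hi2]; norm_num)
      · exact absurd (by simpa using hi2) (hno s hs)
      · exfalso
        exact hno (s ^ 2) (pow_mem hs 2) (by rw [orderOf_pow, hi2]; norm_num)
    exact hab (by
      calc a * b = (a * b)⁻¹ := (inv_eq_of_mul_eq_one_left (hsq _ (mul_mem ha hb))).symm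
        _ = b * a := by
          rw [mul_inv_rev, inv_eq_of_mul_eq_one_left (hsq a ha), inv_eq_of_mul_eq_one_left (hsq b hb)])
  let Z := Subgroup.zpowers r
  have hZS : Z ≤ (S : Subgroup G) := Subgroup.zpowers_le.2 hr
  have hZidx : (Z.subgroupOf (S : Subgroup G)).index = 2 := by
    have := (Z.subgroupOf (S : Subgroup G)).card_mul_index
    rw [Nat.card_congr (Subgroup.subgroupOfEquivOfLe hZS).toEquiv, Nat.card_zpowers, hr4, hS8] at this
    omega
  haveI hZn : (Z.subgroupOf (S : Subgroup G)).Normal := Subgroup.normal_of_index_eq_two hZidx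
  have hnotcomm : ∀ y ∈ (S : Subgroup G), y ∉ Z → y * r ≠ r * y := by
    intro y hy hyZ hyr
    apply hab
    have hall : ∀ w ∈ (S : Subgroup G), ∃ i : ℤ, w = r ^ i ∨ w = y * r ^ i := by
      intro w hw
      by_cases hwZ : w ∈ Z
      · obtain ⟨i, hi⟩ := hwZ; exact ⟨i, Or.inl hi.symm⟩
      · have h1 := (Subgroup.mul_mem_iff_of_index_two hZidx
          (a := (⟨y⁻¹, inv_mem hy⟩ : ↥(S : Subgroup G))) (b := ⟨w, hw⟩)).2
          (by simp only [Subgroup.mem_subgroupOf, inv_mem_iff]; exact iff_of_false hyZ hwZ)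
        obtain ⟨i, hi⟩ := Subgroup.mem_subgroupOf.1 h1
        exact ⟨i, Or.inr (by change w = y * r ^ i; rw [show r ^ i = y⁻¹ * w from hi, mul_inv_cancel_left])⟩
    have hyr' : Commute y r := hyr
    obtain ⟨i, hi⟩ := hall a ha
    obtain ⟨j, hj⟩ := hall b hb
    have hrr : Commute (r ^ i) (r ^ j) := (Commute.refl r).zpow_zpow i j
    rcases hi with rfl | rfl <;> rcases hj with rfl | rfl
    · exact hrr.eq
    · exact ((hyr'.zpow_right i).symm.mul_right hrr).eq
    · exact ((hyr'.zpow_right j).mul_left hrr).eq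
    · exact ((Commute.mul_right (Commute.refl y) (hyr'.zpow_right j)).mul_left
        ((hyr'.zpow_right i).symm.mul_right hrr)).eq
  -- an involution outside the cyclic group, otherwise a permutation of odd sign
  obtain ⟨y, hy, hyZ, hy2⟩ : ∃ y ∈ (S : Subgroup G), y ∉ Z ∧ y * y = 1 := by
    by_contra hno
    push Not at hno
    have hinv : ∀ s ∈ (S : Subgroup G), orderOf s = 2 → s = r ^ 2 := by
      intro s hs hs2
      have hsZ : s ∈ Z := by
        by_contra hsZ
        exact hno s hs hsZ (mul_self_eq_one hs2)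
      obtain ⟨i, hi, hi2⟩ := (isOfFinOrder_of_finite r).mem_zpowers_iff_mem_range_orderOf.1 hsZ |>
        Finset.mem_image.1 |> fun ⟨i, h1, h2⟩ => (⟨i, h1, h2⟩ : ∃ i, i ∈ Finset.range (orderOf r) ∧ r ^ i = s)
      rw [hr4, Finset.mem_range] at hi
      subst hi2
      interval_cases i
      · rw [pow_zero, orderOf_one] at hs2; omega
      · rw [pow_one, hr4] at hs2; omega
      · rfl
      · rw [orderOf_pow, hr4] at hs2; norm_num at hs2
    have htr : t = r ^ 2 := hinv t htS ht
    let π : G →* Equiv.Perm (G ⧸ (S : Subgroup G)) := MulAction.toPermHom G _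
    letI : Fintype (G ⧸ (S : Subgroup G)) := Fintype.ofFinite _
    have hcard : Fintype.card (G ⧸ (S : Subgroup G)) = 45 := by
      rw [← Nat.card_eq_fintype_card, ← Subgroup.index_eq_card]
      have := (S : Subgroup G).card_mul_index
      rw [hS8, hG] at this
      omega
    have h4 : π r ^ 4 = 1 := by rw [← map_pow, ← hr4, pow_orderOf_eq_one, map_one]
    have h2 : (Finset.univ.filter fun q => (π r ^ 2) q = q).card = 1 := by
      rw [← map_pow, ← htr]
      refine Finset.card_eq_one.2 ⟨((1 : G) : G ⧸ (S : Subgroup G)), ?_⟩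
      ext q
      induction q using QuotientGroup.induction_on with
      | H g =>
        simp only [Finset.mem_filter, Finset.mem_univ, true_and, Finset.mem_singleton]
        change ((t * g : G) : G ⧸ (S : Subgroup G)) = (g : G ⧸ (S : Subgroup G)) ↔ _
        rw [QuotientGroup.eq, QuotientGroup.eq, mul_inv_rev, mul_one]
        constructor
        · intro h
          rw [inv_eq_self ht] at h
          have h2 : orderOf (g⁻¹ * t * g) = 2 := by
            have := orderOf_conj' g⁻¹ t
            rw [inv_inv] at this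
            exact this.trans ht
          have h3 := hinv _ h h2
          rw [← htr] at h3
          refine inv_mem ?_
          rw [← hC]
          refine Subgroup.mem_centralizer_singleton_iff.2 ?_
          calc g * t = g * (g⁻¹ * t * g) := by rw [h3]
            _ = t * g := by group
        · intro h
          have hg : g ∈ (S : Subgroup G) := by simpa using inv_mem h
          exact mul_mem (mul_mem (inv_mem hg) (inv_mem htS)) hg
    have hsign := sign_eq_of_sq_fix_one (π r) h4 h2
    rw [hcard] at hsign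
    let sgn : G →* ℤˣ := Equiv.Perm.sign.comp π
    rcases sgn.normal_ker.eq_bot_or_eq_top with h | h
    · have := Nat.card_le_card_of_injective _ ((MonoidHom.ker_eq_bot_iff _).1 h)
      rw [hG, Nat.card_eq_fintype_card, Fintype.card_units_int] at this
      omega
    · have : r ∈ sgn.ker := by rw [h]; trivial
      rw [MonoidHom.mem_ker] at this
      change Equiv.Perm.sign (π r) = 1 at this
      rw [hsign] at this
      exact absurd this (by decide)
  have hy1 : y ≠ 1 := fun h => hyZ (h ▸ one_mem _)
  have hyinv : y⁻¹ = y := inv_eq_of_mul_eq_one_left hy2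
  -- `y` inverts `r`
  have hconj : y * r * y = r⁻¹ := by
    have hmem : y * r * y⁻¹ ∈ Z :=
      hZn.conj_mem ⟨r, hr⟩ (Subgroup.mem_zpowers r) ⟨y, hy⟩
    rw [hyinv] at hmem
    obtain ⟨i, hi, hi2⟩ := (isOfFinOrder_of_finite r).mem_zpowers_iff_mem_range_orderOf.1 hmem |>
      Finset.mem_image.1 |> fun ⟨i, h1, h2⟩ => (⟨i, h1, h2⟩ : ∃ i, i ∈ Finset.range (orderOf r) ∧ r ^ i = y * r * y)
    rw [hr4, Finset.mem_range] at hi
    have ho : orderOf (r ^ i) = 4 := by
      rw [hi2, ← hyinv]; nth_rw 2 [hyinv]
      have := orderOf_conj' y r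
      rw [hyinv] at this
      rw [hyinv]
      exact this.trans hr4
    interval_cases i
    · rw [pow_zero, orderOf_one] at ho; omega
    · exfalso
      apply hnotcomm y hy hyZ
      rw [pow_one] at hi2
      calc y * r = y * r * (y * y) := by rw [hy2, mul_one]
        _ = r * y := by rw [← mul_assoc, ← hi2]
    · rw [orderOf_pow, hr4] at ho; norm_num at ho
    · rw [← hi2]
      exact eq_inv_of_mul_eq_one_left (by
        rw [← pow_succ, show (3 + 1 : ℕ) = orderOf r by rw [hr4], pow_orderOf_eq_one])
  have hyr : ∀ n : ℤ, r ^ n * y = y * r ^ (-n) := by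
    intro n
    have h1 : (y * r * y⁻¹) ^ n = r ^ (-n) := by rw [hyinv, hconj, inv_zpow', ]
    rw [conj_zpow, hyinv] at h1
    rw [← h1, ← mul_assoc, ← mul_assoc, hy2, one_mul]
  have hmod : ∀ m n : ℤ, (m : ZMod 4) = (n : ZMod 4) → r ^ m = r ^ n := by
    intro m n h
    rw [zpow_eq_zpow_iff_modEq, hr4]
    exact (ZMod.intCast_eq_intCast_iff _ _ _).1 h
  let φ : DihedralGroup 4 →* G :=
    MonoidHom.mk' (fun d => match d with
      | .r i => r ^ (i.val : ℤ)
      | .sr i => y * r ^ (i.val : ℤ)) (by
      rintro (i | i) (j | j) <;> simp only [DihedralGroup.r_mul_r, DihedralGroup.r_mul_sr,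
        DihedralGroup.sr_mul_r, DihedralGroup.sr_mul_sr]
      · rw [← zpow_add]; apply hmod; push_cast; simp
      · rw [← mul_assoc, hyr, mul_assoc, ← zpow_add]; congr 1; apply hmod; push_cast; simp; ring
      · rw [mul_assoc, ← zpow_add]; congr 1; apply hmod; push_cast; simp
      · rw [mul_assoc, ← mul_assoc (r ^ (i.val : ℤ)), hyr, mul_assoc, ← mul_assoc y y, hy2, one_mul,
          ← zpow_add]
        apply hmod; push_cast; simp; ring)
  have hφ : Function.Injective φ := by
    rw [injective_iff_map_eq_one]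
    rintro (i | i) hi
    · change r ^ (i.val : ℤ) = 1 at hi
      rw [zpow_natCast, ← orderOf_dvd_iff_pow_eq_one, hr4] at hi
      have := ZMod.val_lt i
      have hi0 : i.val = 0 := by omega
      rw [ZMod.val_eq_zero] at hi0
      rw [hi0]; rfl
    · exfalso
      change y * r ^ (i.val : ℤ) = 1 at hi
      exact hyZ (by rw [eq_inv_of_mul_eq_one_left hi]; exact inv_mem (zpow_mem (Subgroup.mem_zpowers r) _))
  have hrange : φ.range = Subgroup.centralizer ({t} : Set G) := by
    rw [hC]
    refine Subgroup.eq_of_le_of_card_ge ?_ (le_of_eq ?_)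
    · rintro _ ⟨(i | i), rfl⟩
      · exact zpow_mem hr _
      · exact mul_mem hy (zpow_mem hr _)
    · rw [hS8, ← Nat.card_congr (MonoidHom.ofInjective hφ).toEquiv, Nat.card_eq_fintype_card,
        DihedralGroup.card]
      norm_num
  exact ⟨((MonoidHom.ofInjective hφ).trans (MulEquiv.subgroupCongr hrange)).symm⟩

end Cfsg.Agent.H65.OrderThreeSixty
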