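import Cfsg.Agent.H65.CentralFour
import Cfsg.Agent.H26.Invol
import Mathlib.GroupTheory.SpecificGroups.Dihedral

/-!
A finite group with one class of involutions whose involution centraliser is dihedral of order
eight has order 168 or 360 (two columns of the character table and two structure constants).
-/

set_option autoImplicit false
set_option linter.unusedSectionVars false
set_option linter.style.haveILetI false

open scoped ComplexConjugate
open Finset

namespace Cfsg.Agent.H65.DihedralEight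

open Cfsg Cfsg.Agent.CharBasic

universe u

/-- The sign character killing the rotations. -/
noncomputable def rotHom : DihedralGroup 4 →* ℂˣ where
  toFun d := match d with
    | .r _ => 1
    | .sr _ => -1
  map_one' := rfl
  map_mul' := by rintro (i | i) (j | j) <;> simp

/-- The sign character killing `⟨r 2, sr 0⟩`. -/
noncomputable def oddHom : DihedralGroup 4 →* ℂˣ where
  toFun d := match d with
    | .r i => (-1) ^ i.val
    | .sr i => (-1) ^ i.val
  map_one' := rfl
  map_mul' := by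
    have key : ∀ i j : ZMod 4, ((i + j).val % 2 = (i.val + j.val) % 2) ∧
        ((j - i).val % 2 = (i.val + j.val) % 2) := by decide
    have hpow : ∀ m n : ℕ, m % 2 = n % 2 → (-1 : ℂˣ) ^ m = (-1) ^ n := fun m n h => by
      rw [pow_eq_pow_mod m (show (-1 : ℂˣ) ^ 2 = 1 by simp), h,
        ← pow_eq_pow_mod n (show (-1 : ℂˣ) ^ 2 = 1 by simp)]
    rintro (i | i) (j | j) <;>
      simp only [DihedralGroup.r_mul_r, DihedralGroup.r_mul_sr, DihedralGroup.sr_mul_r,
        DihedralGroup.sr_mul_sr, ← pow_add] <;>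
      first | exact hpow _ _ (key i j).1 | exact hpow _ _ (key i j).2

theorem rotHom_r (i : ZMod 4) : rotHom (.r i) = 1 := rfl

theorem rotHom_sr (i : ZMod 4) : rotHom (.sr i) = -1 := rfl

theorem oddHom_r (i : ZMod 4) : oddHom (.r i) = (-1) ^ i.val := rfl

theorem oddHom_sr (i : ZMod 4) : oddHom (.sr i) = (-1) ^ i.val := rfl

theorem sum_dihedral (f : DihedralGroup 4 → ℂ) :
    ∑ d, f d = f (.r 0) + f (.r 1) + f (.r 2) + f (.r 3) +
      (f (.sr 0) + f (.sr 1) + f (.sr 2) + f (.sr 3)) := by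
  have h : (Finset.univ : Finset (DihedralGroup 4)) =
      {.r 0, .r 1, .r 2, .r 3, .sr 0, .sr 1, .sr 2, .sr 3} := by decide
  rw [h]
  simp (decide := true) [Finset.sum_insert]
  ring

variable {G : Type u} [Group G]

open scoped Classical in
/-- Class multiplication in the form of a sum over pairs. -/
theorem pair_sum [Fintype G] (g : G) (I J : Finset G) (hI : ∀ y v : G, y * v * y⁻¹ ∈ I ↔ v ∈ I)
    (hJ : ∀ y v : G, y * v * y⁻¹ ∈ J ↔ v ∈ J) :
    ∑ χ : IrrCharacter G, conj ((χ : G → ℂ) g) * (∑ s ∈ I, ∑ v ∈ J, (χ : G → ℂ) (s * v)) =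
      (Nat.card G : ℂ) * ((((I ×ˢ J).filter fun p => p.1 * p.2 = g).card : ℕ) : ℂ) := by
  have h1 : ∀ s v : G, ∑ χ : IrrCharacter G, (χ : G → ℂ) (s * v) * conj ((χ : G → ℂ) g) =
      ∑ y : G, if y * g * y⁻¹ = s * v then (1 : ℂ) else 0 := by
    intro s v
    rw [second_orthogonality_count, Finset.sum_boole, Nat.card_eq_fintype_card,
      Fintype.card_subtype]
  calc ∑ χ : IrrCharacter G, conj ((χ : G → ℂ) g) * (∑ s ∈ I, ∑ v ∈ J, (χ : G → ℂ) (s * v))
      = ∑ p ∈ I ×ˢ J, ∑ χ : IrrCharacter G, (χ : G → ℂ) (p.1 * p.2) * conj ((χ : G → ℂ) g) := by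
        rw [Finset.sum_comm]
        refine Finset.sum_congr rfl fun χ _ => ?_
        rw [← Finset.sum_product (f := fun p : G × G => (χ : G → ℂ) (p.1 * p.2)), Finset.mul_sum]
        exact Finset.sum_congr rfl fun p _ => mul_comm _ _
    _ = ∑ y : G, ∑ p ∈ I ×ˢ J, if y * g * y⁻¹ = p.1 * p.2 then (1 : ℂ) else 0 := by
        rw [Finset.sum_congr rfl fun p _ => h1 p.1 p.2, Finset.sum_comm]
    _ = ∑ y : G, ((((I ×ˢ J).filter fun p => p.1 * p.2 = g).card : ℕ) : ℂ) := by
        refine Finset.sum_congr rfl fun y _ => ?_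
        rw [Finset.sum_boole]
        congr 1
        refine Finset.card_bij' (fun p _ => (y⁻¹ * p.1 * y, y⁻¹ * p.2 * y))
          (fun p _ => (y * p.1 * y⁻¹, y * p.2 * y⁻¹)) ?_ ?_ ?_ ?_
        · intro p hp
          simp only [Finset.mem_filter, Finset.mem_product] at hp ⊢
          have e1 := (hI y⁻¹ p.1).2 hp.1.1
          have e2 := (hJ y⁻¹ p.2).2 hp.1.2
          rw [inv_inv] at e1 e2
          refine ⟨⟨e1, e2⟩, ?_⟩
          rw [show y⁻¹ * p.1 * y * (y⁻¹ * p.2 * y) = y⁻¹ * (p.1 * p.2) * y by group, ← hp.2]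
          group
        · intro p hp
          simp only [Finset.mem_filter, Finset.mem_product] at hp ⊢
          refine ⟨⟨(hI y p.1).2 hp.1.1, (hJ y p.2).2 hp.1.2⟩, ?_⟩
          rw [← hp.2]; group
        · intro p _; ext <;> group
        · intro p _; ext <;> group
    _ = _ := by rw [Finset.sum_const, Finset.card_univ, nsmul_eq_mul, Nat.card_eq_fintype_card]

/-- The arithmetic of the two columns. -/
theorem order_of_columns (g P Q R W : ℤ) (hQ0 : Q ≠ 0) (hR0 : R ≠ 0) (hW0 : W ≠ 0) (hP0 : P ≠ 0)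
    (hQ : Q % 8 = 3)
    (h1 : 1 + P + Q + R = 0) (h2 : 1 + P - Q - R + 2 * W = 0)
    (h3 : (g : ℚ) * (1 + 1 / P + 1 / Q + 1 / R) = 256)
    (h4 : (g : ℚ) * (1 + 1 / P - 1 / Q - 1 / R + 8 / W) = 256) : g = 168 ∨ (g = 360 ∧ Q = -5 ∧ R = -5 ∧ P = 9 ∧ W = -10) := by
  have hP' : P = -1 - Q - R := by omega
  have hW : W = Q + R := by omega
  have hg : (g : ℚ) ≠ 0 := by intro h; rw [h, zero_mul] at h3; norm_num at h3
  have hq : (Q : ℚ) ≠ 0 := Int.cast_ne_zero.2 hQ0
  have hr : (R : ℚ) ≠ 0 := Int.cast_ne_zero.2 hR0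
  have hw : (W : ℚ) ≠ 0 := Int.cast_ne_zero.2 hW0
  have hp : (P : ℚ) ≠ 0 := Int.cast_ne_zero.2 hP0
  have h5 : (1 : ℚ) / Q + 1 / R = 4 / W := by
    apply mul_left_cancel₀ hg
    linear_combination (h3 - h4) / 2
  have hQR : Q = R := by
    have h6 : (W : ℚ) * (R + Q) = 4 * (Q * R) := by field_simp at h5; linarith
    have h7 : W * (R + Q) = 4 * (Q * R) := by exact_mod_cast h6
    subst hW
    have : (Q - R) ^ 2 = 0 := by ring_nf; ring_nf at h7; linarith
    exact sub_eq_zero.1 (pow_eq_zero_iff (two_ne_zero) |>.1 this)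
  subst hQR
  have hP2 : P = -(2 * Q + 1) := by omega
  subst hP2
  have h8 : g * (Q + 1) ^ 2 = 128 * Q * (2 * Q + 1) := by
    have hq2 : (2 : ℚ) * Q + 1 ≠ 0 := by
      push_cast at hp; intro h; exact hp (by linarith)
    have h3' : (g : ℚ) * (2 * (Q + 1) ^ 2 / (Q * (2 * Q + 1))) = 256 := by
      rw [← h3]; congr 1; push_cast; field_simp; ring
    have : (g : ℚ) * (Q + 1) ^ 2 = 128 * Q * (2 * Q + 1) := by
      rw [mul_div, div_eq_iff (mul_ne_zero hq hq2)] at h3'
      linarith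
    exact_mod_cast this
  obtain ⟨k, hk⟩ : ∃ k, Q = 8 * k + 3 := ⟨Q / 8, by omega⟩
  subst hk
  have h9 : g * (2 * k + 1) ^ 2 = 8 * (8 * k + 3) * (16 * k + 7) := by linarith
  have hdvd : (2 * k + 1) ∣ (8 : ℤ) :=
    ⟨g * (2 * k + 1) - 256 * (2 * k + 1) + 96, by linarith⟩
  have hle := Int.le_of_dvd (by norm_num) hdvd
  have hge : -8 ≤ 2 * k + 1 := by
    have := Int.le_of_dvd (by norm_num) (Int.neg_dvd.2 hdvd)
    omega
  obtain ⟨j, hj⟩ := hdvd
  have hk1 : k ≤ 3 := by omega
  have hk2 : -4 ≤ k := by omega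
  interval_cases k <;> norm_num at h9 ⊢ <;> omega

section Main

variable (t : G) (e : ↥(Subgroup.centralizer ({t} : Set G)) ≃* DihedralGroup 4)

/-- The inclusion of the dihedral group. -/
def inc : DihedralGroup 4 →* G :=
  (Subgroup.centralizer ({t} : Set G)).subtype.comp e.symm.toMonoidHom

theorem inc_injective : Function.Injective (inc t e) :=
  Subtype.val_injective.comp e.symm.injective

theorem inc_commute (d : DihedralGroup 4) : Commute (inc t e d) t :=
  Subgroup.mem_centralizer_singleton_iff.1 (e.symm d).2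

theorem exists_inc {g : G} (h : Commute g t) : ∃ d, inc t e d = g :=
  ⟨e ⟨g, Subgroup.mem_centralizer_singleton_iff.2 h⟩, by simp [inc]⟩

variable (ht : orderOf t = 2)

include ht in
theorem inc_center : inc t e (.r 2) = t := by
  obtain ⟨d, hd⟩ := exists_inc t e (Commute.refl t)
  have key : ∀ d : DihedralGroup 4, d ≠ 1 → (∀ c, c * d = d * c) → d = .r 2 := by decide
  rw [← key d (fun h => ne_one_of_orderOf ht (by rw [← hd, h, map_one]))
    (fun c => inc_injective t e (by rw [map_mul, map_mul, hd, (inc_commute t e c).eq])), hd]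

theorem inc_orderOf (d : DihedralGroup 4) : orderOf (inc t e d) = orderOf d :=
  orderOf_injective _ (inc_injective t e) d

include ht in
theorem inc_sq : inc t e (.r 1) * inc t e (.r 1) = t := by
  rw [← map_mul, show DihedralGroup.r (1 : ZMod 4) * .r 1 = .r 2 by decide, inc_center t e ht]

include ht in
theorem card_centralizer_four :
    Nat.card ↥(Subgroup.centralizer ({inc t e (.r 1)} : Set G)) = 4 := by
  classical
  have hmem : ∀ g : G, g ∈ Subgroup.centralizer ({inc t e (.r 1)} : Set G) ↔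
      g * inc t e (.r 1) = inc t e (.r 1) * g := fun g => Subgroup.mem_centralizer_singleton_iff
  rw [← Nat.card_eq_of_bijective
    (fun d : {d : DihedralGroup 4 // d * .r 1 = .r 1 * d} =>
      (⟨inc t e d.1, (hmem _).2 (by rw [← map_mul, d.2, map_mul])⟩ :
        ↥(Subgroup.centralizer ({inc t e (.r 1)} : Set G)))) ⟨?_, ?_⟩, Nat.card_eq_fintype_card]
  · decide
  · intro a b h
    have h' : inc t e a.1 = inc t e b.1 := Subtype.mk.inj h
    exact Subtype.ext (inc_injective t e h')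
  · rintro ⟨g, hg⟩
    have hg' : Commute g (inc t e (.r 1)) := (hmem g).1 hg
    have hgt : Commute g t := by rw [← inc_sq t e ht]; exact hg'.mul_right hg'
    obtain ⟨d, rfl⟩ := exists_inc t e hgt
    exact ⟨⟨d, inc_injective t e (by rw [map_mul, map_mul]; exact hg'.eq)⟩, rfl⟩

include e ht in
theorem card_centralizer_eight : Nat.card ↥(Subgroup.centralizer ({t} : Set G)) = 8 := by
  rw [Nat.card_congr e.toEquiv, Nat.card_eq_fintype_card, DihedralGroup.card]

variable [Fintype G] (hone : ∀ v : G, orderOf v = 2 → IsConj t v)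

include ht in
open scoped Classical in
/-- Pairs of involutions with a given product inverted only inside the centraliser of `t`. -/
theorem card_pairs (d₀ : DihedralGroup 4) (n : ℕ)
    (hd₀ : ∀ s : G, s * inc t e d₀ * s⁻¹ = (inc t e d₀)⁻¹ → Commute s t)
    (hn : (univ.filter fun d : DihedralGroup 4 =>
      d * d = 1 ∧ d ≠ 1 ∧ d * d₀ * (d * d₀) = 1 ∧ d * d₀ ≠ 1).card = n) :
    (((univ.filter fun v : G => orderOf v = 2) ×ˢ (univ.filter fun v : G => orderOf v = 2)).filter
      fun p => p.1 * p.2 = inc t e d₀).card = n := by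
  have hord : ∀ v : G, orderOf v = 2 ↔ v * v = 1 ∧ v ≠ 1 := fun v => H26.orderOf_two_iff
  rw [← hn]
  symm
  refine Finset.card_bij (fun d _ => (inc t e d, inc t e (d * d₀))) ?_ ?_ ?_
  · intro d hd
    simp only [Finset.mem_filter, Finset.mem_univ, true_and] at hd
    obtain ⟨h1, h2, h3, h4⟩ := hd
    simp only [Finset.mem_filter, Finset.mem_product, Finset.mem_univ, true_and, hord, ← map_mul,
      ← mul_assoc]
    refine ⟨⟨⟨by rw [h1, map_one], ?_⟩, ⟨by rw [mul_assoc (d * d₀), h3, map_one], ?_⟩⟩,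
      by rw [h1, one_mul]⟩
    · exact fun h => h2 (inc_injective t e (by rw [h, map_one]))
    · exact fun h => h4 (inc_injective t e (by rw [h, map_one]))
  · exact fun a _ b _ h => inc_injective t e (congrArg Prod.fst h)
  · rintro ⟨s, v⟩ hp
    simp only [Finset.mem_filter, Finset.mem_product, Finset.mem_univ, true_and, hord] at hp
    obtain ⟨⟨⟨hs, hs1⟩, hv, hv1⟩, hsv⟩ := hp
    have hs' : s⁻¹ = s := inv_eq_of_mul_eq_one_right hs
    have hv' : v⁻¹ = v := inv_eq_of_mul_eq_one_right hv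
    obtain ⟨d, rfl⟩ := exists_inc t e (hd₀ s (by
      rw [← hsv, mul_inv_rev, hs', hv', ← mul_assoc, hs, one_mul]))
    have hv2 : v = inc t e (d * d₀) := by rw [map_mul, ← hsv, ← mul_assoc, hs, one_mul]
    subst hv2
    refine ⟨d, ?_, rfl⟩
    simp only [Finset.mem_filter, Finset.mem_univ, true_and]
    refine ⟨inc_injective t e (by rw [map_mul, hs, map_one]), fun h => hs1 (by rw [h, map_one]),
      inc_injective t e (by rw [map_mul, hv, map_one]), fun h => hv1 (by rw [h, map_one])⟩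

include ht hone in
/-- The values on the two classes: integrality and congruences. -/
theorem exists_values {χ : G → ℂ} (hχ : IsCharacter G χ) :
    ∃ (d : ℕ) (a b : ℤ), χ 1 = d ∧ χ t = a ∧ χ (inc t e (.r 1)) = b ∧
      (d : ℤ) % 2 = a % 2 ∧ (a + b) % 2 = 0 ∧
      ((d : ℤ) + a - 2 * b) % 8 = 0 := by
  classical
  have hcl := IsChar.isClassFunction hχ
  have hΦ := CharInduce.IsChar.comp hχ (inc t e)
  obtain ⟨d, hd⟩ := IsChar.exists_degree hχ
  have hinv : ∀ v : DihedralGroup 4, v * v = 1 → v ≠ 1 → χ (inc t e v) = χ t := by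
    intro v h1 h2
    obtain ⟨y, hy⟩ := isConj_iff.1 (hone (inc t e v) (H26.orderOf_two_iff.2
      ⟨by rw [← map_mul, h1, map_one], fun h => h2 (inc_injective t e (by rw [h, map_one]))⟩))
    rw [← hy]; exact hcl t y
  have hr3 : χ (inc t e (.r 3)) = χ (inc t e (.r 1)) := by
    rw [show DihedralGroup.r (3 : ZMod 4) = .sr 0 * .r 1 * (DihedralGroup.sr 0)⁻¹ by decide,
      map_mul, map_mul, map_inv]
    exact hcl _ _
  obtain ⟨n0, h0⟩ := classInner_isChar_nat hΦ (CharInduce.isCharacter_hom 1)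
  obtain ⟨n1, h1⟩ := classInner_isChar_nat hΦ (CharInduce.isCharacter_hom rotHom)
  obtain ⟨n2, h2⟩ := classInner_isChar_nat hΦ (CharInduce.isCharacter_hom oddHom)
  rw [classInner, sum_dihedral] at h0 h1 h2
  simp only [Function.comp_apply, MonoidHom.one_apply, Units.val_one, map_one, mul_one] at h0
  simp only [hr3, hinv (.r 2) (by decide) (by decide), hinv (.sr 0) (by decide) (by decide),
    hinv (.sr 1) (by decide) (by decide), hinv (.sr 2) (by decide) (by decide),
    hinv (.sr 3) (by decide) (by decide), DihedralGroup.r_zero, map_one, hd,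
    Nat.card_eq_fintype_card, DihedralGroup.card] at h0
  simp [rotHom_r, rotHom_sr, oddHom_r, oddHom_sr, hr3, hinv (.r 2) (by decide) (by decide),
    hinv (.sr 0) (by decide) (by decide), hinv (.sr 1) (by decide) (by decide),
    hinv (.sr 2) (by decide) (by decide), hinv (.sr 3) (by decide) (by decide),
    DihedralGroup.r_zero, hd, Nat.card_eq_fintype_card, DihedralGroup.card,
    show (2 : ZMod 4).val = 2 from rfl, show (3 : ZMod 4).val = 3 from rfl,
    show (1 : ZMod 4).val = 1 from rfl, show (0 : ZMod 4).val = 0 from rfl] at h1 h2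
  have ha : χ t = (((n0 : ℤ) - n1 : ℤ) : ℂ) := by
    push_cast; linear_combination h0 - h1
  have hk : (((8 * n0 : ℤ) - d - 5 * ((n0 : ℤ) - n1) : ℤ) : ℂ) = 2 * χ (inc t e (.r 1)) := by
    push_cast at ha ⊢
    linear_combination (-8 : ℂ) * h0 + 5 * ha
  obtain ⟨b, hb⟩ := CentralFour.even_of_two_mul (IsChar.isIntegral hχ _) hk
  have hb' : χ (inc t e (.r 1)) = (b : ℂ) := by
    rw [hb] at hk; push_cast at hk; linear_combination (-(1 / 2) : ℂ) * hk
  have e0 : ((d : ℤ) + 5 * ((n0 : ℤ) - n1) + 2 * b) = 8 * n0 := by omega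
  have e2 : ((d : ℤ) + ((n0 : ℤ) - n1) - 2 * b) = 8 * n2 := by
    have : ((((d : ℤ) + ((n0 : ℤ) - n1) - 2 * b) : ℤ) : ℂ) = ((8 * n2 : ℤ) : ℂ) := by
      push_cast at ha ⊢
      linear_combination (8 : ℂ) * h2 - ha + 2 * hb'
    exact_mod_cast this
  refine ⟨d, (n0 : ℤ) - n1, b, hd, ha, hb', ?_, ?_, ?_⟩ <;> omega

include e ht hone in
/-- The order of the group, and in the case of order 360 the characters nonzero at an involution. -/
theorem card_cases : Nat.card G = 168 ∨ (Nat.card G = 360 ∧ ∃ χ₀ : IrrCharacter G,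
    (χ₀ : G → ℂ) 1 = 9 ∧ (χ₀ : G → ℂ) t = 1 ∧ ∀ χ : IrrCharacter G, (χ : G → ℂ) t ≠ 0 →
      (χ : G → ℂ) ≠ (fun _ => 1) → χ = χ₀ ∨ ∃ n : ℕ, (χ : G → ℂ) 1 = n ∧ 5 ∣ n) := by
  classical
  set x := inc t e (.r 1) with hx
  have hx4 : orderOf x = 4 := by
    rw [hx, inc_orderOf, DihedralGroup.orderOf_r_one]
  choose d a b hd ha hb hpar hab h8 using fun χ : IrrCharacter G =>
    exists_values t e ht hone (IsIrr.isCharacter χ.2)
  have hbx : ∀ χ : IrrCharacter G, (χ : G → ℂ) x = (b χ : ℂ) := hb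
  have hxt : ¬ IsConj x t := fun h => by
    have := orderOf_of_isConj h; omega
  have hbb : ∑ χ, b χ * b χ = 4 := by
    have h := second_orthogonality_self x
    rw [hx, card_centralizer_four t e ht] at h
    simp only [← hx, hbx, map_intCast] at h
    exact_mod_cast h
  have haa : ∑ χ, a χ * a χ = 8 := by
    have h := second_orthogonality_self t
    rw [card_centralizer_eight t e ht] at h
    simp only [ha, map_intCast] at h
    exact_mod_cast h
  have habs : ∑ χ, a χ * b χ = 0 := by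
    have h := second_orthogonality_not_isConj (g := t) (h := x) fun h => hxt h.symm
    simp only [ha, hbx, map_intCast] at h
    exact_mod_cast h
  have hdb : ∑ χ, (d χ : ℤ) * b χ = 0 := by
    have h := sum_degree_mul_apply x
    rw [if_neg (fun h => by rw [h, orderOf_one] at hx4; omega)] at h
    simp only [hd, hbx] at h
    exact_mod_cast h
  have hda : ∑ χ, (d χ : ℤ) * a χ = 0 := by
    have h := sum_degree_mul_apply t
    rw [if_neg (ne_one_of_orderOf ht)] at h
    simp only [hd, ha] at h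
    exact_mod_cast h
  have hd0 : ∀ χ, d χ ≠ 0 := fun χ h => IsIrr.one_ne_zero χ.2 (by rw [hd χ, h, Nat.cast_zero])
  let triv : IrrCharacter G := ⟨fun _ => 1, isIrrCharacter_one⟩
  have hat : a triv = 1 := by
    have h : ((a triv : ℤ) : ℂ) = 1 := (ha triv).symm
    exact_mod_cast h
  have hbt : b triv = 1 := by
    have h : ((b triv : ℤ) : ℂ) = 1 := (hb triv).symm
    exact_mod_cast h
  have hdt : d triv = 1 := by
    have h : ((d triv : ℕ) : ℂ) = 1 := (hd triv).symm
    exact_mod_cast h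
  set E := (univ : Finset (IrrCharacter G)).erase triv with hE
  have hbE : ∑ χ ∈ E, b χ * b χ = 3 := by
    rw [← Finset.add_sum_erase _ _ (mem_univ triv), hbt, ← hE] at hbb; omega
  have haE : ∑ χ ∈ E, a χ * a χ = 7 := by
    rw [← Finset.add_sum_erase _ _ (mem_univ triv), hat, ← hE] at haa; omega
  have hb1 : ∀ χ ∈ E, b χ ≠ 0 → b χ = 1 ∨ b χ = -1 := by
    intro χ hχ h0
    have := Finset.single_le_sum (f := fun χ => b χ * b χ) (fun ψ _ => mul_self_nonneg _) hχ
    rw [hbE] at this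
    have : b χ ≤ 1 := by nlinarith
    have : -1 ≤ b χ := by nlinarith
    omega
  set T := E.filter fun χ => b χ ≠ 0 with hT
  have hTcard : T.card = 3 := by
    have h1 : ∑ χ ∈ E, b χ * b χ = (T.card : ℤ) := by
      rw [Finset.card_eq_sum_ones, hT, Nat.cast_sum, Finset.sum_filter]
      refine Finset.sum_congr rfl fun χ hχ => ?_
      split_ifs with h
      · rcases hb1 χ hχ h with h' | h' <;> rw [h'] <;> rfl
      · push Not at h; rw [h, mul_zero]
    omega
  have ha1 : ∀ χ ∈ T, a χ = 1 ∨ a χ = -1 := by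
    intro χ hχ
    obtain ⟨h1, h2⟩ := Finset.mem_filter.1 hχ
    have := Finset.single_le_sum (f := fun χ => a χ * a χ) (fun ψ _ => mul_self_nonneg _) h1
    rw [haE] at this
    have : a χ ≤ 2 := by nlinarith
    have : -2 ≤ a χ := by nlinarith
    have := hab χ
    rcases hb1 χ h1 h2 with h | h <;> omega
  -- the even row
  set U := E.filter fun χ => b χ = 0 ∧ a χ ≠ 0 with hU
  have hUsum : ∑ χ ∈ U, a χ * a χ = 4 := by
    have h1 : ∑ χ ∈ E, a χ * a χ = ∑ χ ∈ T, a χ * a χ + ∑ χ ∈ U, a χ * a χ := by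
      rw [hT, hU, Finset.sum_filter, Finset.sum_filter, ← Finset.sum_add_distrib]
      refine Finset.sum_congr rfl fun χ _ => ?_
      by_cases h : b χ = 0 <;> by_cases h' : a χ = 0 <;> simp [h, h']
    have h2 : ∑ χ ∈ T, a χ * a χ = 3 := by
      rw [Finset.sum_congr rfl (g := fun _ => (1 : ℤ)) (fun χ hχ => by
        rcases ha1 χ hχ with h | h <;> rw [h] <;> norm_num)]
      simp [hTcard]
    omega
  have hUcard : U.card = 1 := by
    have h4 : ∀ χ ∈ U, 4 ≤ a χ * a χ := fun χ hχ => by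
      obtain ⟨-, h1, h2⟩ := Finset.mem_filter.1 hχ
      have := hab χ
      have : 2 ≤ a χ ∨ a χ ≤ -2 := by omega
      rcases this with h | h <;> nlinarith
    have h5 : 4 * (U.card : ℤ) ≤ 4 := by
      calc 4 * (U.card : ℤ) = ∑ _χ ∈ U, (4 : ℤ) := by rw [Finset.sum_const, nsmul_eq_mul]; ring
        _ ≤ ∑ χ ∈ U, a χ * a χ := Finset.sum_le_sum h4
        _ = 4 := hUsum
    have : U.card ≠ 0 := fun h => by
      rw [Finset.card_eq_zero.1 h, Finset.sum_empty] at hUsum; omega
    omega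
  obtain ⟨w, hw⟩ := Finset.card_eq_one.1 hUcard
  rw [hw, Finset.sum_singleton] at hUsum
  have haw : a w = 2 ∨ a w = -2 := by
    have : a w ≤ 2 := by nlinarith
    have : -2 ≤ a w := by nlinarith
    interval_cases a w <;> simp_all
  have hwU : w ∈ U := by rw [hw]; exact Finset.mem_singleton_self w
  obtain ⟨hwE, hbw, -⟩ := Finset.mem_filter.1 hwU
  -- three odd rows, of which exactly one has `a = b`
  have hsplit : ∀ f : IrrCharacter G → ℚ, (∀ χ, a χ = 0 → b χ = 0 → f χ = 0) →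
      ∑ χ, f χ = f triv + ∑ χ ∈ T.filter (fun χ => a χ = b χ), f χ +
        ∑ χ ∈ T.filter (fun χ => ¬ a χ = b χ), f χ + f w := by
    intro f hf
    rw [← Finset.add_sum_erase _ _ (mem_univ triv), ← hE, add_assoc (f triv),
      Finset.sum_filter_add_sum_filter_not, add_assoc, ← Finset.sum_singleton (fun χ => f χ) w, ← hw]
    congr 1
    rw [hT, hU, Finset.sum_filter, Finset.sum_filter, ← Finset.sum_add_distrib]
    refine Finset.sum_congr rfl fun χ _ => ?_
    by_cases h : b χ = 0 <;> by_cases h' : a χ = 0 <;> simp [h, h']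
    exact hf χ h' h
  have hTab : ∀ χ ∈ T, (a χ : ℚ) * b χ = if a χ = b χ then 1 else -1 := by
    intro χ hχ
    obtain ⟨h1, h2⟩ := Finset.mem_filter.1 hχ
    rcases ha1 χ hχ with h | h <;> rcases hb1 χ h1 h2 with h' | h' <;> norm_num [h, h']
  obtain ⟨hp1, hq2⟩ : (T.filter fun χ => a χ = b χ).card = 1 ∧
      (T.filter fun χ => ¬ a χ = b χ).card = 2 := by
    have h1 := hsplit (fun χ => (a χ : ℚ) * b χ) (fun χ h _ => by rw [h, Int.cast_zero, zero_mul])
    have h0 : ∑ χ, (a χ : ℚ) * b χ = 0 := by exact_mod_cast habs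
    have hs1 : ∑ χ ∈ T.filter (fun χ => a χ = b χ), (a χ : ℚ) * b χ =
        ∑ _χ ∈ T.filter (fun χ => a χ = b χ), (1 : ℚ) :=
      Finset.sum_congr rfl fun χ hχ => by
        rw [hTab χ (Finset.mem_filter.1 hχ).1, if_pos (Finset.mem_filter.1 hχ).2]
    have hs2 : ∑ χ ∈ T.filter (fun χ => ¬ a χ = b χ), (a χ : ℚ) * b χ =
        ∑ _χ ∈ T.filter (fun χ => ¬ a χ = b χ), (-1 : ℚ) :=
      Finset.sum_congr rfl fun χ hχ => by
        rw [hTab χ (Finset.mem_filter.1 hχ).1, if_neg (Finset.mem_filter.1 hχ).2]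
    rw [h0, hat, hbt, hbw, hs1, hs2] at h1
    simp only [Finset.sum_const, nsmul_eq_mul, Int.cast_one, Int.cast_zero, mul_one, mul_zero,
      add_zero, mul_neg] at h1
    have h2 := Finset.card_filter_add_card_filter_not (s := T) (fun χ => a χ = b χ)
    rw [hTcard] at h2
    have h3 : ((T.filter fun χ => a χ = b χ).card : ℤ) + 1 =
        (T.filter fun χ => ¬ a χ = b χ).card := by
      have : (((T.filter fun χ => a χ = b χ).card : ℤ) : ℚ) + 1 =
          (((T.filter fun χ => ¬ a χ = b χ).card : ℤ) : ℚ) := by push_cast; linarith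
      exact_mod_cast this
    omega
  obtain ⟨p, hp⟩ := Finset.card_eq_one.1 hp1
  obtain ⟨q, r, hqr, hqr'⟩ := Finset.card_eq_two.1 hq2
  rw [hp, hqr'] at hsplit
  simp only [Finset.sum_singleton, Finset.sum_pair hqr] at hsplit
  obtain ⟨hpT, hpe⟩ := Finset.mem_filter.1 (hp ▸ Finset.mem_singleton_self p)
  obtain ⟨hqT, hqe⟩ := Finset.mem_filter.1 (show q ∈ T.filter fun χ => ¬ a χ = b χ by rw [hqr']; simp)
  obtain ⟨hrT, hre⟩ := Finset.mem_filter.1 (show r ∈ T.filter fun χ => ¬ a χ = b χ by rw [hqr']; simp)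
  have hopp : ∀ χ ∈ T, ¬ a χ = b χ → a χ = -b χ ∧ (b χ = 1 ∨ b χ = -1) := by
    intro χ hχ hne
    obtain ⟨h1, h2⟩ := Finset.mem_filter.1 hχ
    rcases ha1 χ hχ with h | h <;> rcases hb1 χ h1 h2 with h' | h' <;> omega
  obtain ⟨haq, hbq⟩ := hopp q hqT hqe
  obtain ⟨har, hbr⟩ := hopp r hrT hre
  have hbp := hb1 p (Finset.mem_filter.1 hpT).1 (Finset.mem_filter.1 hpT).2
  have hQmod : b q * d q % 8 = 3 := by
    have := h8 q
    rw [haq] at this
    rcases hbq with h | h <;> rw [h] at this ⊢ <;> omega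
  have hz : ∀ (c : ℤ) (χ : IrrCharacter G), (c = 1 ∨ c = -1 ∨ c = 2 ∨ c = -2) → c * d χ ≠ 0 := by
    intro c χ hc
    exact mul_ne_zero (by rcases hc with rfl | rfl | rfl | rfl <;> norm_num)
      (by exact_mod_cast hd0 χ)
  -- degree equations
  have e1 : 1 + b p * d p + b q * d q + b r * d r = 0 := by
    have h1 := hsplit (fun χ => (b χ : ℚ) * d χ) (fun χ _ h => by rw [h, Int.cast_zero, zero_mul])
    have h0 : ∑ χ, (b χ : ℚ) * d χ = 0 := by
      have h0 : ∑ χ, b χ * (d χ : ℤ) = 0 := by rw [← hdb]; simp only [mul_comm]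
      exact_mod_cast h0
    rw [h0, hbt, hdt, hbw] at h1
    have h2 : ((1 + b p * d p + b q * d q + b r * d r : ℤ) : ℚ) = 0 := by
      push_cast at h1 ⊢; linarith
    exact_mod_cast h2
  set σ := a w / 2 with hσ
  have hσ' : a w = 2 * σ ∧ (σ = 1 ∨ σ = -1) := by omega
  have e2 : 1 + b p * d p - b q * d q - b r * d r + 2 * (σ * d w) = 0 := by
    have h1 := hsplit (fun χ => (a χ : ℚ) * d χ) (fun χ h _ => by rw [h, Int.cast_zero, zero_mul])
    have h0 : ∑ χ, (a χ : ℚ) * d χ = 0 := by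
      have h0 : ∑ χ, a χ * (d χ : ℤ) = 0 := by rw [← hda]; simp only [mul_comm]
      exact_mod_cast h0
    rw [h0, hat, hdt, hσ'.1, hpe, haq, har] at h1
    have h2 : ((1 + b p * d p - b q * d q - b r * d r + 2 * (σ * d w) : ℤ) : ℚ) = 0 := by
      push_cast at h1 ⊢; linarith
    exact_mod_cast h2
  -- the two structure constants
  set I := univ.filter fun v : G => orderOf v = 2 with hI
  have hI8 : (8 : ℂ) * (I.card : ℂ) = (Nat.card G : ℂ) := by
    have h := H26.card_conj_mul_card_centralizer t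
    rw [card_centralizer_eight t e ht, Nat.card_eq_fintype_card, Fintype.card_subtype,
      show (univ.filter fun g : G => IsConj t g) = I from Finset.ext fun v => by
        simp only [hI, Finset.mem_filter, Finset.mem_univ, true_and]
        exact ⟨fun h => (orderOf_of_isConj h).symm.trans ht, hone v⟩] at h
    rw [← h]; push_cast; ring
  have hpairs : ∀ χ : IrrCharacter G, ∑ s ∈ I, ∑ v ∈ I, (χ : G → ℂ) (s * v) =
      (I.card : ℂ) ^ 2 * (a χ : ℂ) ^ 2 / (d χ : ℂ) := by
    intro χ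
    obtain ⟨ω, hω⟩ := CentralFour.exists_scalar χ.2 (f := fun g => if orderOf g = 2 then 1 else 0)
      (fun g h => by simp only [orderOf_conj'])
    have hω' : ∀ h : G, ∑ v ∈ I, (χ : G → ℂ) (h * v) = ω * (χ : G → ℂ) h := by
      intro h
      rw [← hω h, hI, Finset.sum_filter]
      refine Finset.sum_congr rfl fun g _ => ?_
      split_ifs <;> simp
    have hsum : ∑ v ∈ I, (χ : G → ℂ) v = (I.card : ℂ) * (a χ : ℂ) := by
      rw [Finset.sum_congr rfl (fun v hv => ?_), Finset.sum_const, nsmul_eq_mul]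
      obtain ⟨y, rfl⟩ := isConj_iff.1 (hone v (Finset.mem_filter.1 hv).2)
      rw [← ha χ]
      exact IsIrr.isClassFunction χ.2 t y
    have h1 := hω' 1
    simp only [one_mul] at h1
    rw [hsum, hd χ] at h1
    rw [Finset.sum_congr rfl fun s _ => hω' s, ← Finset.mul_sum, hsum,
      eq_div_iff (Nat.cast_ne_zero.2 (hd0 χ))]
    linear_combination (-((I.card : ℂ) * (a χ : ℂ))) * h1
  have hG0 : (Nat.card G : ℂ) ≠ 0 := Nat.cast_ne_zero.2 Nat.card_pos.ne'
  have hstruct : ∀ (g : G) (c : IrrCharacter G → ℤ),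
      (∀ χ : IrrCharacter G, (χ : G → ℂ) g = (c χ : ℂ)) →
      ((I ×ˢ I).filter fun p => p.1 * p.2 = g).card = 4 →
      (Nat.card G : ℚ) * ∑ χ, (c χ : ℚ) * (a χ : ℚ) ^ 2 / (d χ : ℚ) = 256 := by
    intro g c hc hk
    have h := pair_sum g I I (fun y v => by simp [hI, orderOf_conj'])
      (fun y v => by simp [hI, orderOf_conj'])
    rw [hk] at h
    simp only [hc, hpairs, map_intCast] at h
    have h2 : (I.card : ℂ) ^ 2 * ∑ χ, (c χ : ℂ) * (a χ : ℂ) ^ 2 / (d χ : ℂ) =
        (Nat.card G : ℂ) * 4 := by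
      rw [Finset.mul_sum]
      refine Eq.trans (Finset.sum_congr rfl fun χ _ => ?_) (h.trans (by norm_num))
      ring
    have h3 : (Nat.card G : ℂ) * ∑ χ, (c χ : ℂ) * (a χ : ℂ) ^ 2 / (d χ : ℂ) = 256 := by
      apply mul_left_cancel₀ hG0
      linear_combination (64 : ℂ) * h2 - (8 * (I.card : ℂ) + (Nat.card G : ℂ)) *
        (∑ χ, (c χ : ℂ) * (a χ : ℂ) ^ 2 / (d χ : ℂ)) * hI8
    have h4 : (((Nat.card G : ℚ) * ∑ χ, (c χ : ℚ) * (a χ : ℚ) ^ 2 / (d χ : ℚ) : ℚ) : ℂ) =
        ((256 : ℚ) : ℂ) := by push_cast; exact h3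
    exact_mod_cast h4
  have hkx : ((I ×ˢ I).filter fun p => p.1 * p.2 = x).card = 4 := by
    refine card_pairs t e ht (.r 1) 4 (fun s hs => ?_) (by decide)
    rw [← inc_sq t e ht]
    have : s * (inc t e (.r 1) * inc t e (.r 1)) * s⁻¹ = inc t e (.r 1) * inc t e (.r 1) := by
      rw [show s * (inc t e (.r 1) * inc t e (.r 1)) * s⁻¹ = (s * inc t e (.r 1) * s⁻¹) *
        (s * inc t e (.r 1) * s⁻¹) by group, hs, ← mul_inv_rev, inc_sq t e ht, inv_eq_self ht]
    exact mul_inv_eq_iff_eq_mul.1 this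
  have hkt : ((I ×ˢ I).filter fun p => p.1 * p.2 = t).card = 4 := by
    have h : ∀ s : G, s * inc t e (.r 2) * s⁻¹ = (inc t e (.r 2))⁻¹ → Commute s t := fun s hs => by
      rw [inc_center t e ht, inv_eq_self ht] at hs
      exact mul_inv_eq_iff_eq_mul.1 hs
    have h' := card_pairs t e ht (.r 2) 4 h (by decide)
    rwa [inc_center t e ht] at h'
  have e3 := hstruct x b hbx hkx
  have e4 := hstruct t a ha hkt
  rw [hsplit (fun χ => (b χ : ℚ) * (a χ : ℚ) ^ 2 / (d χ : ℚ))
    (fun χ h _ => by simp [h]), hat, hbt, hdt, hbw, hpe, haq, har] at e3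
  rw [hsplit (fun χ => (a χ : ℚ) * (a χ : ℚ) ^ 2 / (d χ : ℚ))
    (fun χ h _ => by simp [h]), hat, hdt, hσ'.1, hpe, haq, har] at e4
  have hinvb : ∀ (c : ℤ) (χ : IrrCharacter G), (c = 1 ∨ c = -1) →
      (c : ℚ) * (c : ℚ) ^ 2 / (d χ : ℚ) = 1 / ((c * d χ : ℤ) : ℚ) := by
    intro c χ hc
    rcases hc with rfl | rfl <;> push_cast <;> ring
  refine (order_of_columns (Nat.card G : ℤ) (b p * d p) (b q * d q) (b r * d r) (σ * d w)
    (hz _ _ (by omega)) (hz _ _ (by omega)) (hz _ _ (by omega)) (hz _ _ (by omega)) hQmod e1 e2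
    ?_ ?_).imp (fun h => by exact_mod_cast h) (fun h => ?_)
  rotate_left 2
  · obtain ⟨hg, hQ5, hR5, hP9, hW10⟩ := h
    refine ⟨by exact_mod_cast hg, p, ?_, ?_, fun χ hχt hχ1 => ?_⟩
    · rw [hd p, show d p = 9 by rcases hbp with h | h <;> rw [h] at hP9 <;> omega, Nat.cast_ofNat]
    · rw [ha p, hpe, show b p = 1 by rcases hbp with h | h <;> rw [h] at hP9 <;> omega, Int.cast_one]
    · have haχ : a χ ≠ 0 := fun h => hχt (by rw [ha χ, h, Int.cast_zero])
      have hmem : χ ∈ T ∨ χ ∈ U := by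
        have : χ ∈ E := Finset.mem_erase.2 ⟨fun h => hχ1 (congrArg Subtype.val h), mem_univ _⟩
        by_cases hb0 : b χ = 0
        · exact Or.inr (Finset.mem_filter.2 ⟨this, hb0, haχ⟩)
        · exact Or.inl (Finset.mem_filter.2 ⟨this, hb0⟩)
      rcases hmem with hm | hm
      · by_cases hab' : a χ = b χ
        · exact Or.inl (Finset.mem_singleton.1 (hp ▸ Finset.mem_filter.2 ⟨hm, hab'⟩))
        · have : χ ∈ ({q, r} : Finset _) := hqr' ▸ Finset.mem_filter.2 ⟨hm, hab'⟩
          refine Or.inr ⟨d χ, hd χ, ?_⟩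
          rcases Finset.mem_insert.1 this with rfl | h
          · rcases hbq with h | h <;> rw [h] at hQ5 <;> omega
          · rw [Finset.mem_singleton.1 h]
            rcases hbr with h | h <;> rw [h] at hR5 <;> omega
      · rw [hw, Finset.mem_singleton] at hm
        subst hm
        refine Or.inr ⟨d χ, hd χ, ?_⟩
        rcases hσ'.2 with h | h <;> rw [h] at hW10 <;> omega
  · rw [← hinvb _ p hbp, ← hinvb _ q hbq, ← hinvb _ r hbr]
    push_cast at e3 ⊢
    linear_combination e3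
  · rw [← hinvb _ p hbp, ← hinvb _ q hbq, ← hinvb _ r hbr]
    have : (8 : ℚ) / ((σ * d w : ℤ) : ℚ) = 8 * ((σ : ℚ) * (σ : ℚ) ^ 2 / (d w : ℚ)) := by
      rcases hσ'.2 with h | h <;> rw [h] <;> push_cast <;> ring
    rw [this]
    push_cast at e4 ⊢
    linear_combination e4

include e ht hone in
/-- The order of the group. -/
theorem card_eq : Nat.card G = 168 ∨ Nat.card G = 360 :=
  (card_cases t e ht hone).imp_right And.left

end Main

end Cfsg.Agent.H65.DihedralEight
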