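import Cfsg.Agent.H65.Invol
import Cfsg.Agent.CharBasic.Complete
import Cfsg.Agent.CharBasic.Integral
import Cfsg.Agent.CharInduce.Ops

/-!
Characters of a group with an involution `t` whose centraliser is `V × D`, with `V` a four-group and
`D` of odd order: the generalised character columns of the section of `t`, and the resulting bound
on the number of involutions.
-/

set_option autoImplicit false
set_option linter.unusedSectionVars false
set_option linter.unusedSimpArgs false

open scoped ComplexConjugate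
open Finset

namespace Cfsg.Agent.H65.CentralFour

open Cfsg Cfsg.Agent.CharBasic

universe u

/-- An integer which is twice an algebraic integer is even. -/
theorem even_of_two_mul {k : ℤ} {w : ℂ} (hw : IsIntegral ℤ w) (h : (k : ℂ) = 2 * w) : Even k := by
  have hq : w = algebraMap ℚ ℂ ((k : ℚ) / 2) := by
    simp only [eq_ratCast, Rat.cast_div, Rat.cast_intCast, Rat.cast_ofNat]
    rw [h]; ring
  rw [hq, isIntegral_algebraMap_iff (algebraMap ℚ ℂ).injective] at hw
  obtain ⟨m, hm⟩ := IsIntegrallyClosed.isIntegral_iff.1 hw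
  refine ⟨m, ?_⟩
  have : (k : ℚ) = (m : ℚ) + m := by
    have hm' : (m : ℚ) = (k : ℚ) / 2 := by simpa using hm
    rw [hm']; ring
  exact_mod_cast this

/-- Sign character of the group of order two. -/
noncomputable def sgnHom : Multiplicative (ZMod 2) →* ℂˣ where
  toFun a := if a = 1 then 1 else -1
  map_one' := if_pos rfl
  map_mul' := by
    have key : ∀ a b : Multiplicative (ZMod 2), (a * b = 1 ↔ (a = 1 ↔ b = 1)) := by decide
    intro a b
    have := key a b
    by_cases ha : a = 1 <;> by_cases hb : b = 1 <;> simp_all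

/-- The homomorphism from the group of order two given by an involution. -/
def twoHom {G : Type u} [Group G] {t : G} (ht : t * t = 1) : Multiplicative (ZMod 2) →* G where
  toFun a := if a = 1 then 1 else t
  map_one' := if_pos rfl
  map_mul' := by
    have key : ∀ a b : Multiplicative (ZMod 2), (a * b = 1 ↔ (a = 1 ↔ b = 1)) := by decide
    intro a b
    have := key a b
    by_cases ha : a = 1 <;> by_cases hb : b = 1 <;> simp_all

theorem sum_two {M : Type*} [AddCommMonoid M] (f : Multiplicative (ZMod 2) → M) :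
    ∑ a, f a = f 1 + f (Multiplicative.ofAdd 1) := by
  have h : (Finset.univ : Finset (Multiplicative (ZMod 2))) = {1, Multiplicative.ofAdd 1} := by
    decide
  rw [h, Finset.sum_pair (by decide)]

theorem pow_natCard_one {G : Type u} [Group G] (D : Subgroup G) {e : G} (he : e ∈ D) :
    e ^ Nat.card ↥D = 1 :=
  orderOf_dvd_iff_pow_eq_one.1 (Subgroup.orderOf_dvd_natCard D he)

theorem ofAdd_one_ne : (Multiplicative.ofAdd (1 : ZMod 2)) ≠ 1 := by decide

variable {G : Type u} [Group G] [Fintype G]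

/-- Degree and value at an involution have the same parity. -/
theorem degree_sub_even {t : G} (ht : orderOf t = 2) {χ : G → ℂ} (hχ : IsCharacter G χ) :
    ∃ n : ℕ, χ 1 - χ t = 2 * (n : ℂ) := by
  have hΦ := CharInduce.IsChar.comp hχ (twoHom (mul_self_eq_one ht))
  obtain ⟨n, hn⟩ := classInner_isChar_nat hΦ (CharInduce.isCharacter_hom sgnHom)
  refine ⟨n, ?_⟩
  rw [← hn, classInner, sum_two]
  simp [sgnHom, twoHom, ofAdd_one_ne]
  ring

/-- Sums of an irreducible character over translates of a union of classes. -/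
theorem exists_scalar {χ : G → ℂ} (hχ : IsIrrCharacter G χ) {f : G → ℂ}
    (hf : IsClassFunction G f) :
    ∃ ω : ℂ, ∀ h : G, ∑ g : G, f g * χ (h * g) = ω * χ h := by
  obtain ⟨n, ρ, hρ, rfl⟩ := hχ
  obtain ⟨ω, hω⟩ := schur_scalar ρ (repSum f ρ) (repSum_comm hf ρ)
  refine ⟨ω, fun h => ?_⟩
  have h1 := congrArg (fun T => LinearMap.trace ℂ (Fin n → ℂ) (ρ h * T)) hω
  simp only [repSum, Finset.mul_sum, mul_smul_comm, map_sum, map_smul, ← map_mul, smul_eq_mul] at h1
  rw [show ρ h * LinearMap.id = ρ h from LinearMap.ext fun _ => rfl] at h1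
  exact h1

/-- A sum invariant under a fixed-point-free involution is twice an integral sum. -/
theorem exists_half {α : Type*} [Fintype α] (s : Finset α) (σ : α → α) (f : α → ℂ)
    (hmem : ∀ a ∈ s, σ a ∈ s) (hinv : ∀ a ∈ s, σ (σ a) = a) (hne : ∀ a ∈ s, σ a ≠ a)
    (hf : ∀ a ∈ s, f (σ a) = f a) (hint : ∀ a, IsIntegral ℤ (f a)) :
    ∃ w : ℂ, IsIntegral ℤ w ∧ ∑ a ∈ s, f a = 2 * w := by
  classical
  let e := Fintype.equivFin α
  refine ⟨∑ a ∈ s.filter (fun a => e a < e (σ a)), f a, IsIntegral.sum _ fun a _ => hint a, ?_⟩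
  rw [two_mul, ← Finset.sum_filter_add_sum_filter_not s (fun a => e a < e (σ a))]
  congr 1
  refine Finset.sum_bij' (fun a _ => σ a) (fun a _ => σ a) ?_ ?_ ?_ ?_ ?_
  · intro a ha
    obtain ⟨ha, hlt⟩ := Finset.mem_filter.1 ha
    refine Finset.mem_filter.2 ⟨hmem a ha, ?_⟩
    rw [hinv a ha]
    exact lt_of_le_of_ne (not_lt.1 hlt) fun h => hne a ha (e.injective h)
  · intro a ha
    obtain ⟨ha, hlt⟩ := Finset.mem_filter.1 ha
    refine Finset.mem_filter.2 ⟨hmem a ha, ?_⟩
    rw [hinv a ha]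
    exact not_lt.2 hlt.le
  · exact fun a ha => hinv a (Finset.mem_filter.1 ha).1
  · exact fun a ha => hinv a (Finset.mem_filter.1 ha).1
  · exact fun a ha => (hf a (Finset.mem_filter.1 ha).1).symm

variable (t : G) (D : Subgroup G) [Fintype ↥D]

/-- The coefficient of `θ` in the values of `χ` on the section `t D`. -/
noncomputable def cf (θ : ↥D → ℂ) (χ : G → ℂ) : ℂ :=
  classInner (fun e : ↥D => χ (t * (e : G))) θ

/-- The principal coefficient. -/
noncomputable def cf1 (χ : G → ℂ) : ℂ := cf t D (fun _ => (1 : ℂ)) χ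

theorem cf1_eq (χ : G → ℂ) :
    cf1 t D χ = (Nat.card ↥D : ℂ)⁻¹ * ∑ e : ↥D, χ (t * (e : G)) := by
  simp [cf1, cf, classInner]

variable (ht : orderOf t = 2) (hDt : ∀ e ∈ D, Commute t e) (hDodd : Odd (Nat.card ↥D))
  (hdec : ∀ g : G, Commute g t →
    ∃ v e : G, v ^ 2 = 1 ∧ e ∈ D ∧ g = v * e ∧ ∀ f ∈ D, Commute v f)
  (hcard : Nat.card ↥(Subgroup.centralizer ({t} : Set G)) = 4 * Nat.card ↥D)

include ht hDt in
/-- The coefficients on irreducible characters of `D` are integers. -/
theorem cf_int {θ : ↥D → ℂ} (hθ : IsCharacter ↥D θ) {χ : G → ℂ} (hχ : IsCharacter G χ) :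
    ∃ m : ℤ, cf t D θ χ = m := by
  let ι : Multiplicative (ZMod 2) × ↥D →* G :=
    (twoHom (mul_self_eq_one ht)).noncommCoprod D.subtype (fun a e => by
      change Commute (if a = 1 then 1 else t) (e : G)
      split_ifs
      · exact Commute.one_left _
      · exact hDt e e.2)
  have hΦ := CharInduce.IsChar.comp hχ ι
  have hp := CharInduce.IsChar.comp hθ (MonoidHom.snd (Multiplicative (ZMod 2)) ↥D)
  have hm := CharInduce.IsChar.mul
    (CharInduce.IsChar.comp (CharInduce.isCharacter_hom sgnHom) (MonoidHom.fst _ ↥D)) hp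
  obtain ⟨n1, h1⟩ := classInner_isChar_nat hΦ hp
  obtain ⟨n2, h2⟩ := classInner_isChar_nat hΦ hm
  refine ⟨(n1 : ℤ) - n2, ?_⟩
  push_cast
  rw [← h1, ← h2, cf, classInner, classInner, classInner, ← mul_sub, ← Finset.sum_sub_distrib,
    Fintype.sum_prod_type, sum_two]
  simp only [Pi.mul_apply, Function.comp_apply, MonoidHom.coe_snd, MonoidHom.coe_fst]
  simp [ι, sgnHom, twoHom, ofAdd_one_ne, Nat.card_prod, Finset.mul_sum, ← Finset.sum_add_distrib]
  refine Finset.sum_congr rfl fun e _ => ?_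
  ring

include hDt in
theorem sum_conj_lemma (e : G) (he : e ∈ D) (r : G) (χ : G → ℂ) (hχ : IsClassFunction G χ) :
    χ (t * e * (t * r * t⁻¹)) = χ (t * e * r) := by
  rw [show t * e * (t * r * t⁻¹) = t * (e * t * r) * t⁻¹ by group, hχ, ← (hDt e he).eq]

include ht hDodd in
theorem pow_card_mul {e : G} (he : e ∈ D) (hc : Commute t e) : (t * e) ^ Nat.card ↥D = t := by
  obtain ⟨k, hk⟩ := hDodd
  have h1 : e ^ Nat.card ↥D = 1 := pow_natCard_one D he
  rw [hc.mul_pow, h1, mul_one, hk, pow_succ, pow_mul, sq, mul_self_eq_one ht, one_pow, one_mul]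

include hdec hDodd in
theorem mem_of_odd {r : G} (hr : Odd (orderOf r)) (hc : Commute r t) : r ∈ D := by
  obtain ⟨v, e, hv, he, rfl, hve⟩ := hdec r hc
  have h1 : e ^ Nat.card ↥D = 1 := pow_natCard_one D he
  obtain ⟨j, hj⟩ := hr.mul hDodd
  have h2 : (v * e) ^ (orderOf (v * e) * Nat.card ↥D) = 1 := by
    rw [pow_mul, pow_orderOf_eq_one, one_pow]
  rw [(hve e he).mul_pow, hj] at h2
  have h3 : e ^ (2 * j + 1) = 1 := by rw [← hj, mul_comm, pow_mul, h1, one_pow]
  rw [h3, mul_one, pow_succ, pow_mul, hv, one_pow, one_mul] at h2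
  rw [h2, one_mul]; exact he

include hdec in
/-- Conjugation by an element of the centraliser of `t` on `D` is inner. -/
theorem conj_inner {x : G} (hx : Commute x t) :
    ∃ f : ↥D, ∀ e : ↥D, x * (e : G) * x⁻¹ = ((f * e * f⁻¹ : ↥D) : G) := by
  obtain ⟨v, f, -, hf, rfl, hve⟩ := hdec x hx
  refine ⟨⟨f, hf⟩, fun e => ?_⟩
  have hc := hve _ (D.mul_mem (D.mul_mem hf e.2) (D.inv_mem hf))
  calc v * f * (e : G) * (v * f)⁻¹ = v * (f * (e : G) * f⁻¹) * v⁻¹ := by group
    _ = f * (e : G) * f⁻¹ := by rw [hc.eq, mul_inv_cancel_right]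

include ht hDt hDodd hdec in
/-- The congruence between the coefficients: the product with the principal one is even. -/
theorem cf_mul_even {χ : G → ℂ} (hχ : IsIrrCharacter G χ) {θ : ↥D → ℂ}
    (hθ : IsIrrCharacter ↥D θ) (hne : θ ≠ fun _ => 1) :
    ∃ w : ℂ, IsIntegral ℤ w ∧ cf t D θ χ * cf1 t D χ * (Nat.card ↥D : ℂ) ^ 2 = 2 * w := by
  classical
  have hclass := IsIrr.isClassFunction hχ
  have hint := IsChar.isIntegral (IsIrr.isCharacter hχ)
  set f : G → ℂ := fun g => if Odd (orderOf g) then 1 else 0 with hf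
  have hfcl : IsClassFunction G f := fun g h => by simp only [hf, orderOf_conj']
  obtain ⟨ω, hω⟩ := exists_scalar hχ hfcl
  have htt := mul_self_eq_one ht
  -- split the sum over elements of odd order
  have hsplit : ∀ e : ↥D, ∃ w : ℂ, IsIntegral ℤ w ∧
      ω * χ (t * e) = ∑ r : ↥D, χ (t * e * r) + 2 * w := by
    intro e
    set R := univ.filter fun g : G => Odd (orderOf g) with hR
    have h1 : ω * χ (t * e) = ∑ r ∈ R, χ (t * e * r) := by
      rw [← hω, hR, Finset.sum_filter]
      refine Finset.sum_congr rfl fun g _ => ?_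
      simp only [hf]
      split_ifs <;> simp
    obtain ⟨w, hw, hww⟩ := exists_half (R.filter fun r => r ∉ D) (fun r => t * r * t⁻¹)
      (fun r => χ (t * e * r))
      (by
        intro r hr
        simp only [hR, Finset.mem_filter, Finset.mem_univ, true_and] at hr ⊢
        refine ⟨by rw [orderOf_conj']; exact hr.1, fun h => hr.2 ?_⟩
        have h' := hDt _ h
        have : r = t * r * t⁻¹ := by
          calc r = t⁻¹ * (t * r * t⁻¹) * t := by group
            _ = t * r * t⁻¹ := by rw [mul_assoc, ← h'.eq, inv_mul_cancel_left]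
        rw [this]; exact h)
      (by
        intro r _
        rw [inv_eq_self ht, ← mul_assoc, ← mul_assoc, htt, one_mul, mul_assoc, htt, mul_one])
      (by
        intro r hr h
        simp only [hR, Finset.mem_filter, Finset.mem_univ, true_and] at hr
        exact hr.2 (mem_of_odd t D hDodd hdec hr.1
          (show r * t = t * r from (mul_inv_eq_iff_eq_mul.1 h).symm)))
      (fun r _ => sum_conj_lemma t D hDt e e.2 r χ hclass) (fun r => hint _)
    refine ⟨w, hw, ?_⟩
    rw [h1, ← hww, ← Finset.sum_filter_add_sum_filter_not R (fun r => r ∈ D)]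
    congr 1
    refine (Finset.sum_subtype _ (fun r => ?_) _)
    simp only [hR, Finset.mem_filter, Finset.mem_univ, true_and]
    exact ⟨fun h => h.2, fun h => ⟨hDodd.of_dvd_nat (Subgroup.orderOf_dvd_natCard D h), h⟩⟩
  choose w hw hwe using hsplit
  have hθint : ∀ e, IsIntegral ℤ (conj (θ e)) := fun e => by
    rw [← IsChar.inv_apply (IsIrr.isCharacter hθ)]
    exact IsChar.isIntegral (IsIrr.isCharacter hθ) _
  set d : ℂ := (Nat.card ↥D : ℂ) with hd
  have hd0 : d ≠ 0 := Nat.cast_ne_zero.2 Nat.card_pos.ne'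
  -- the double sum
  have hdouble : ∀ ψ : ↥D → ℂ, ∑ e : ↥D, ψ e * ∑ r : ↥D, χ (t * e * r) =
      ∑ g : ↥D, χ (t * g) * ∑ r : ↥D, ψ (g * r⁻¹) := by
    intro ψ
    simp only [Finset.mul_sum]
    rw [Finset.sum_comm]
    conv_rhs => rw [Finset.sum_comm]
    refine Finset.sum_congr rfl fun r _ => Fintype.sum_equiv (Equiv.mulRight r) _ _ fun e => ?_
    simp only [Equiv.coe_mulRight, mul_inv_cancel_right, Subgroup.coe_mul, mul_assoc, mul_inv_cancel,
      mul_one]
    ring
  have hsum0 : ∀ g : ↥D, ∑ r : ↥D, conj (θ (g * r⁻¹)) = 0 := by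
    intro g
    rw [Fintype.sum_equiv ((Equiv.inv ↥D).trans (Equiv.mulLeft g))
      (fun r => conj (θ (g * r⁻¹))) (fun x => conj (θ x)) (fun r => rfl)]
    have h := classInner_irr isIrrCharacter_one hθ
    rw [if_neg (fun h => hne h.symm), classInner] at h
    simpa using h
  have hW : ∀ ψ : ↥D → ℂ, ω * ∑ e : ↥D, χ (t * e) * ψ e =
      (∑ g : ↥D, χ (t * g) * ∑ r : ↥D, ψ (g * r⁻¹)) + 2 * ∑ e : ↥D, ψ e * w e := by
    intro ψ
    rw [← hdouble, Finset.mul_sum, Finset.mul_sum, ← Finset.sum_add_distrib]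
    refine Finset.sum_congr rfl fun e _ => ?_
    rw [← mul_assoc, hwe e]; ring
  set A : ℂ := ∑ e : ↥D, conj (θ e) * w e
  set B : ℂ := ∑ e : ↥D, w e
  have hWθ : ω * (d * cf t D θ χ) = 2 * A := by
    have := hW (fun e => conj (θ e))
    simp only [hsum0, mul_zero, Finset.sum_const_zero, zero_add] at this
    rw [cf, classInner, ← hd, mul_inv_cancel_left₀ hd0]
    exact this
  have hW1 : ω * (d * cf1 t D χ) = d * (d * cf1 t D χ) + 2 * B := by
    have := hW (fun _ => 1)
    simp only [mul_one, one_mul, Finset.sum_const, Finset.card_univ, nsmul_eq_mul,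
      ← Finset.sum_mul, ← Nat.card_eq_fintype_card] at this
    rw [cf1_eq, ← hd, mul_inv_cancel_left₀ hd0, this, ← hd]
    ring
  obtain ⟨m1, hm1⟩ := cf_int t D ht hDt (IsIrr.isCharacter (isIrrCharacter_one (G := ↥D)))
    (IsIrr.isCharacter hχ)
  obtain ⟨m, hm⟩ := cf_int t D ht hDt (IsIrr.isCharacter hθ) (IsIrr.isCharacter hχ)
  refine ⟨cf1 t D χ * A - cf t D θ χ * B, ?_, ?_⟩
  · refine IsIntegral.sub (IsIntegral.mul ?_ (IsIntegral.sum _ fun e _ => (hθint e).mul (hw e)))
      (IsIntegral.mul ?_ (IsIntegral.sum _ fun e _ => hw e))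
    · rw [cf1, hm1]; exact isIntegral_algebraMap (x := m1)
    · rw [hm]; exact isIntegral_algebraMap (x := m)
  · linear_combination cf1 t D χ * hWθ - cf t D θ χ * hW1

include ht hDt hDodd hdec hcard in
/-- Orthogonality of the columns. -/
theorem cf_orth {θ θ' : ↥D → ℂ} (hθ : IsIrrCharacter ↥D θ) (hθ' : IsIrrCharacter ↥D θ') :
    ∑ χ : IrrCharacter G, cf t D θ (χ : G → ℂ) * conj (cf t D θ' (χ : G → ℂ)) =
      4 * classInner θ' θ := by
  classical
  set d : ℂ := (Nat.card ↥D : ℂ) with hd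
  have hd0 : d ≠ 0 := Nat.cast_ne_zero.2 Nat.card_pos.ne'
  have key : ∀ x : G, ∑ e : ↥D, ∑ e' : ↥D,
      (if x * (t * e') * x⁻¹ = t * (e : G) then conj (θ e) * θ' e' else 0) =
      if Commute x t then ∑ e' : ↥D, conj (θ e') * θ' e' else 0 := by
    intro x
    rw [Finset.sum_comm]
    split_ifs with hx
    · obtain ⟨f, hf⟩ := conj_inner t D hdec hx
      refine Finset.sum_congr rfl fun e' _ => ?_
      rw [Finset.sum_eq_single (f * e' * f⁻¹)]
      · rw [if_pos]
        · rw [IsIrr.isClassFunction hθ]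
        · rw [show x * (t * (e' : G)) * x⁻¹ = x * t * x⁻¹ * (x * (e' : G) * x⁻¹) by group, hf,
            hx.eq, mul_inv_cancel_right]
      · intro e _ hne
        rw [if_neg]
        intro h
        apply hne
        refine Subtype.ext ?_
        rw [show x * (t * (e' : G)) * x⁻¹ = x * t * x⁻¹ * (x * (e' : G) * x⁻¹) by group, hf,
          hx.eq, mul_inv_cancel_right] at h
        exact (mul_left_cancel h).symm
      · simp
    · refine Finset.sum_eq_zero fun e' _ => Finset.sum_eq_zero fun e _ => if_neg fun h => hx ?_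
      have h2 := congrArg (· ^ Nat.card ↥D) h
      simp only [conj_pow] at h2
      rw [pow_card_mul t D ht hDodd e'.2 (hDt _ e'.2), pow_card_mul t D ht hDodd e.2 (hDt _ e.2)] at h2
      exact mul_inv_eq_iff_eq_mul.1 h2
  have hC : (univ.filter fun x : G => Commute x t).card = 4 * Nat.card ↥D := by
    rw [← hcard, Nat.card_eq_fintype_card (α := ↥(Subgroup.centralizer ({t} : Set G)))]
    refine (Fintype.card_of_subtype _ fun x => ?_).symm
    simp [Subgroup.mem_centralizer_singleton_iff, commute_iff_eq]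
  calc ∑ χ : IrrCharacter G, cf t D θ (χ : G → ℂ) * conj (cf t D θ' (χ : G → ℂ))
      = d⁻¹ * d⁻¹ * ∑ e : ↥D, ∑ e' : ↥D, conj (θ e) * θ' e' *
          ∑ χ : IrrCharacter G, (χ : G → ℂ) (t * e) * conj ((χ : G → ℂ) (t * e')) := by
        simp only [cf, classInner, map_mul, map_sum, map_inv₀, Complex.conj_natCast, Complex.conj_conj,
          ← hd, Finset.mul_sum, Finset.sum_mul]
        rw [Finset.sum_comm]
        conv_lhs => rw [Finset.sum_comm]
        conv_lhs => enter [2, e]; rw [Finset.sum_comm]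
        conv_lhs => rw [Finset.sum_comm]
        refine Finset.sum_congr rfl fun e _ => ?_
        rw [Finset.sum_comm]
        refine Finset.sum_congr rfl fun e' _ => Finset.sum_congr rfl fun χ _ => ?_
        rw [show conj d = d from Complex.conj_natCast _]
        ring
    _ = d⁻¹ * d⁻¹ * ∑ x : G, ∑ e : ↥D, ∑ e' : ↥D,
          (if x * (t * e') * x⁻¹ = t * (e : G) then conj (θ e) * θ' e' else 0) := by
        congr 1
        rw [Finset.sum_comm (s := univ (α := G))]
        refine Finset.sum_congr rfl fun e _ => ?_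
        rw [Finset.sum_comm (s := univ (α := G))]
        refine Finset.sum_congr rfl fun e' _ => ?_
        rw [second_orthogonality_count, ← Finset.sum_filter, Finset.sum_const, nsmul_eq_mul,
          Nat.card_eq_fintype_card, Fintype.card_subtype]
        ring
    _ = d⁻¹ * d⁻¹ * ((4 * d) * ∑ e' : ↥D, conj (θ e') * θ' e') := by
        rw [Finset.sum_congr rfl fun x _ => key x, ← Finset.sum_filter, Finset.sum_const, hC,
          nsmul_eq_mul, hd]
        push_cast; ring
    _ = 4 * classInner θ' θ := by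
        simp only [classInner, ← hd]
        rw [Finset.sum_congr rfl fun e (_ : e ∈ univ) => mul_comm (conj (θ e)) (θ' e)]
        field_simp

include hDt in
theorem phi_class {χ : G → ℂ} (hχ : IsClassFunction G χ) :
    IsClassFunction ↥D (fun e : ↥D => χ (t * (e : G))) := by
  intro e f
  change χ (t * ((f : G) * e * (f : G)⁻¹)) = χ (t * e)
  rw [show t * ((f : G) * e * (f : G)⁻¹) = (t * f) * e * (f : G)⁻¹ by group, (hDt f f.2).eq,
    show (f : G) * t * e * (f : G)⁻¹ = f * (t * e) * (f : G)⁻¹ by group]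
  exact hχ _ _

include ht hDt hDodd hdec hcard in
/-- A character whose principal coefficient is odd is constant on the section. -/
theorem const_on_section {χ : IrrCharacter G} (h1 : cf1 t D (χ : G → ℂ) ^ 2 = 1) (e : ↥D) :
    (χ : G → ℂ) (t * e) = cf1 t D (χ : G → ℂ) := by
  classical
  have hexp := congrFun (classFunction_expansion (phi_class t D hDt
    (IsIrr.isClassFunction χ.2))) e
  simp only [Finset.sum_apply, Pi.smul_apply, smul_eq_mul] at hexp
  rw [hexp]
  let one : IrrCharacter ↥D := ⟨fun _ => 1, isIrrCharacter_one⟩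
  rw [Finset.sum_eq_single one]
  · change cf t D (fun _ => 1) (χ : G → ℂ) * 1 = cf1 t D (χ : G → ℂ)
    rw [mul_one]; rfl
  · intro θ _ hθ
    have hne : (θ : ↥D → ℂ) ≠ fun _ => 1 := fun h => hθ (Subtype.ext h)
    suffices h0 : cf t D (θ : ↥D → ℂ) (χ : G → ℂ) = 0 by
      change cf t D (θ : ↥D → ℂ) (χ : G → ℂ) * _ = 0
      rw [h0, zero_mul]
    have hZ : ∀ ψ : IrrCharacter G, ∃ m : ℤ, cf t D (θ : ↥D → ℂ) (ψ : G → ℂ) = m := fun ψ =>
      cf_int t D ht hDt (IsIrr.isCharacter θ.2) (IsIrr.isCharacter ψ.2)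
    have hZ1 : ∀ ψ : IrrCharacter G, ∃ m : ℤ, cf1 t D (ψ : G → ℂ) = m := fun ψ =>
      cf_int t D ht hDt (IsIrr.isCharacter isIrrCharacter_one) (IsIrr.isCharacter ψ.2)
    choose m hm using hZ
    choose m1 hm1 using hZ1
    -- parity
    have hev : Even (m χ) := by
      obtain ⟨w, hw, hwe⟩ := cf_mul_even t D ht hDt hDodd hdec χ.2 θ.2 hne
      have h2 : ((m χ * m1 χ * (Nat.card ↥D : ℤ) ^ 2 : ℤ) : ℂ) = 2 * w := by
        push_cast; rw [← hm, ← hm1]; exact hwe
      have h3 := even_of_two_mul hw h2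
      have h4 : m1 χ ^ 2 = 1 := by
        rw [hm1] at h1; exact_mod_cast h1
      have hodd1 : Odd (m1 χ) := by
        rcases sq_eq_one_iff.1 h4 with h | h <;> rw [h] <;> decide
      have hd2 : Odd ((Nat.card ↥D : ℤ) ^ 2) := (by exact_mod_cast hDodd : Odd (Nat.card ↥D : ℤ)).pow
      rcases Int.even_mul.1 h3 with h | h
      · rcases Int.even_mul.1 h with h | h
        · exact h
        · exact absurd h (Int.not_even_iff_odd.2 hodd1)
      · exact absurd h (Int.not_even_iff_odd.2 hd2)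
    -- column norm and inner product
    have hnorm := cf_orth t D ht hDt hDodd hdec hcard θ.2 θ.2
    rw [classInner_irr θ.2 θ.2, if_pos rfl] at hnorm
    have horth := cf_orth t D ht hDt hDodd hdec hcard θ.2 isIrrCharacter_one
    rw [classInner_irr isIrrCharacter_one θ.2, if_neg (Ne.symm hne), mul_zero] at horth
    have hN : ∑ ψ, m ψ * m ψ = 4 := by
      have : ((∑ ψ, m ψ * m ψ : ℤ) : ℂ) = ((4 : ℤ) : ℂ) := by
        push_cast
        rw [← (by simpa using hnorm : ∑ ψ : IrrCharacter G, cf t D (θ : ↥D → ℂ) (ψ : G → ℂ) *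
          conj (cf t D (θ : ↥D → ℂ) (ψ : G → ℂ)) = 4)]
        simp only [hm, map_intCast]
      exact_mod_cast this
    have hO : ∑ ψ, m ψ * m1 ψ = 0 := by
      have : ((∑ ψ, m ψ * m1 ψ : ℤ) : ℂ) = ((0 : ℤ) : ℂ) := by
        push_cast
        rw [← horth]
        refine Finset.sum_congr rfl fun ψ _ => ?_
        have := hm1 ψ
        unfold cf1 at this
        rw [this, hm, map_intCast]
      exact_mod_cast this
    by_contra h0
    have hm0 : m χ ≠ 0 := fun h => h0 (by rw [hm, h, Int.cast_zero])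
    obtain ⟨k, hk⟩ := hev
    rw [← Finset.add_sum_erase _ _ (Finset.mem_univ χ)] at hN
    have hge : 4 ≤ m χ * m χ := by
      have : k ≠ 0 := fun h => hm0 (by rw [hk, h]; rfl)
      have : 0 < k * k := mul_self_pos.2 this
      rw [hk]; nlinarith
    have hrest : ∑ ψ ∈ univ.erase χ, m ψ * m ψ = 0 := by
      have : 0 ≤ ∑ ψ ∈ univ.erase χ, m ψ * m ψ := Finset.sum_nonneg fun ψ _ => mul_self_nonneg _
      omega
    rw [← Finset.add_sum_erase _ _ (Finset.mem_univ χ), Finset.sum_eq_zero fun ψ hψ => by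
      rw [mul_self_eq_zero.1 ((Finset.sum_eq_zero_iff_of_nonneg fun ψ _ => mul_self_nonneg _).1
        hrest ψ hψ), zero_mul], add_zero] at hO
    rcases mul_eq_zero.1 hO with h | h
    · exact hm0 h
    · rw [hm1, h] at h1; simp at h1
  · simp

include ht hDt hDodd hdec hcard in
/-- The value of the principal column at an element is the averaged conjugator count. -/
theorem column_eq (g : G) :
    ∑ χ : IrrCharacter G, cf1 t D (χ : G → ℂ) * (χ : G → ℂ) g =
      (Nat.card ↥D : ℂ)⁻¹ *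
        ∑ e : ↥D, (Nat.card {x : G // x * g⁻¹ * x⁻¹ = t * (e : G)} : ℂ) := by
  simp only [cf1_eq, ← second_orthogonality_count, Finset.mul_sum, Finset.sum_mul]
  rw [Finset.sum_comm]
  refine Finset.sum_congr rfl fun e _ => Finset.sum_congr rfl fun χ _ => ?_
  rw [IsChar.inv_apply (IsIrr.isCharacter χ.2), Complex.conj_conj]
  ring

include ht hDt hDodd hdec hcard in
/-- The column at one, and at products of two involutions. -/
theorem column_values :
    (∑ χ : IrrCharacter G, cf1 t D (χ : G → ℂ) * (χ : G → ℂ) 1 = 0) ∧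
    (∀ s u : G, orderOf s = 2 → orderOf u = 2 → ¬ IsConj t (s * u) →
      ∑ χ : IrrCharacter G, cf1 t D (χ : G → ℂ) * (χ : G → ℂ) (s * u) = 0) ∧
    (∀ g : G, IsConj t g → ∑ χ : IrrCharacter G, cf1 t D (χ : G → ℂ) * (χ : G → ℂ) g = 4) := by
  classical
  refine ⟨?_, ?_, ?_⟩
  · rw [column_eq t D ht hDt hDodd hdec hcard, Finset.sum_eq_zero (fun e _ => ?_), mul_zero]
    haveI : IsEmpty {x : G // x * (1 : G)⁻¹ * x⁻¹ = t * (e : G)} := ⟨fun ⟨x, h⟩ => by
      rw [inv_one, mul_one, mul_inv_cancel] at h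
      have h2 := congrArg (· ^ Nat.card ↥D) h
      simp only [one_pow] at h2
      rw [pow_card_mul t D ht hDodd e.2 (hDt _ e.2)] at h2
      exact ne_one_of_orderOf ht h2.symm⟩
    rw [Nat.card_of_isEmpty, Nat.cast_zero]
  · intro s u hs hu hnc
    rw [column_eq t D ht hDt hDodd hdec hcard, Finset.sum_eq_zero (fun e _ => ?_), mul_zero]
    haveI : IsEmpty {x : G // x * (s * u)⁻¹ * x⁻¹ = t * (e : G)} := by
      constructor
      rintro ⟨x, hx⟩
      -- `w` inverts `t * e`
      set w := x * u * x⁻¹ with hw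
      have hw2 : orderOf w = 2 := (orderOf_conj' x u).trans hu
      have hinv : w * (t * (e : G)) * w⁻¹ = (t * (e : G))⁻¹ := by
        rw [← hx, hw, mul_inv_rev s u, inv_eq_self hs, inv_eq_self hu]
        calc x * u * x⁻¹ * (x * (u * s) * x⁻¹) * (x * u * x⁻¹)⁻¹
            = x * ((u * u) * (s * u⁻¹)) * x⁻¹ := by group
          _ = (x * (u * s) * x⁻¹)⁻¹ := by
              rw [mul_self_eq_one hu, one_mul, inv_eq_self hu]
              simp only [mul_inv_rev, inv_inv, inv_eq_self hs, inv_eq_self hu, mul_assoc]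
      have hwt : w * t * w⁻¹ = t := by
        have h2 := congrArg (· ^ Nat.card ↥D) hinv
        simp only [conj_pow, inv_pow] at h2
        rw [pow_card_mul t D ht hDodd e.2 (hDt _ e.2), inv_eq_self ht] at h2
        exact h2
      have hwc : Commute w t := mul_inv_eq_iff_eq_mul.1 hwt
      obtain ⟨v, f, hv, hf, hwvf, hve⟩ := hdec w hwc
      have hf1 : f = 1 := by
        have h3 : f ^ 2 = 1 := by
          have := mul_self_eq_one hw2
          rw [← sq, hwvf, (hve f hf).mul_pow, hv, one_mul] at this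
          exact this
        have hd : f ^ Nat.card ↥D = 1 := pow_natCard_one D hf
        obtain ⟨k, hk⟩ := hDodd
        rwa [hk, pow_succ, pow_mul, h3, one_pow, one_mul] at hd
      rw [hf1, mul_one] at hwvf
      have he1 : (e : G) = 1 := by
        have h4 : t * (e : G) = (t * (e : G))⁻¹ := by
          rw [← hinv, hwvf]
          have hc : Commute v (t * (e : G)) :=
            (hwvf ▸ hwc).mul_right (hve _ e.2)
          rw [hc.eq, mul_inv_cancel_right]
        have h5 : (t * (e : G)) ^ 2 = 1 := by rw [sq]; nth_rw 2 [h4]; rw [mul_inv_cancel]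
        rw [(hDt _ e.2).mul_pow, sq t, mul_self_eq_one ht, one_mul] at h5
        have hd : (e : G) ^ Nat.card ↥D = 1 := pow_natCard_one D e.2
        obtain ⟨k, hk⟩ := hDodd
        rwa [hk, pow_succ, pow_mul, h5, one_pow, one_mul] at hd
      rw [he1, mul_one] at hx
      refine hnc (isConj_iff.2 ⟨x⁻¹, ?_⟩)
      have : (s * u)⁻¹ = x⁻¹ * t * x⁻¹⁻¹ := by rw [← hx]; group
      rw [← inv_inv (s * u), this]
      simp only [mul_inv_rev, inv_inv, inv_eq_self ht, mul_assoc]
    rw [Nat.card_of_isEmpty, Nat.cast_zero]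
  · intro g hg
    obtain ⟨y, rfl⟩ := isConj_iff.1 hg
    have hcl : ∀ χ : IrrCharacter G, (χ : G → ℂ) (y * t * y⁻¹) = (χ : G → ℂ) t := fun χ =>
      IsIrr.isClassFunction χ.2 t y
    simp only [hcl]
    rw [column_eq t D ht hDt hDodd hdec hcard, Finset.sum_eq_single (1 : ↥D)]
    · have h : Nat.card {x : G // x * t⁻¹ * x⁻¹ = t * ((1 : ↥D) : G)} = 4 * Nat.card ↥D := by
        rw [← hcard]
        refine Nat.card_congr (Equiv.subtypeEquivRight fun x => ?_)
        rw [Subgroup.coe_one, mul_one, inv_eq_self ht, mul_inv_eq_iff_eq_mul,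
          Subgroup.mem_centralizer_singleton_iff]
      rw [h]; push_cast
      rw [mul_left_comm, inv_mul_cancel₀ (Nat.cast_ne_zero.2 Nat.card_pos.ne'), mul_one]
    · intro e _ he
      haveI : IsEmpty {x : G // x * t⁻¹ * x⁻¹ = t * (e : G)} := ⟨fun ⟨x, h⟩ => he (Subtype.ext ?_)⟩
      · rw [Nat.card_of_isEmpty, Nat.cast_zero]
      · have h5 : (t * (e : G)) ^ 2 = 1 := by
          rw [← h, conj_pow, inv_pow, sq, mul_self_eq_one ht]; simp
        rw [(hDt _ e.2).mul_pow, sq t, mul_self_eq_one ht, one_mul] at h5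
        have hd : (e : G) ^ Nat.card ↥D = 1 := pow_natCard_one D e.2
        obtain ⟨k, hk⟩ := hDodd
        rwa [hk, pow_succ, pow_mul, h5, one_pow, one_mul] at hd
    · simp

/-- The arithmetic: `1 + Σ ±1/Δ ≥ 8/15` when `1 + Σ ±Δ = 0` and all `Δ` are odd and at least 3. -/
theorem bound_of_signs {a b c : ℕ} {p q r : ℤ} (hp : p ^ 2 = 1) (hq : q ^ 2 = 1) (hr : r ^ 2 = 1)
    (ha : 3 ≤ a) (hb : 3 ≤ b) (hc : 3 ≤ c) (ha' : Odd a) (hb' : Odd b) (hc' : Odd c)
    (hsum : 1 + p * a + q * b + r * c = 0) :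
    (8 : ℚ) / 15 ≤ 1 + p / a + q / b + r / c := by
  have key : ∀ x y z : ℕ, 3 ≤ x → 3 ≤ y → 3 ≤ z → Odd y → Odd z → x + 1 = y + z →
      (8 : ℚ) / 15 ≤ 1 + 1 / x - 1 / y - 1 / z := by
    intro x y z hx hy hz hy' hz' hxyz
    have hxq : (x : ℚ) = y + z - 1 := by
      have : ((x + 1 : ℕ) : ℚ) = ((y + z : ℕ) : ℚ) := by rw [hxyz]
      push_cast at this; linarith
    have hx0 : (0 : ℚ) < 1 / x := by positivity
    have h5 : ∀ w : ℕ, 3 ≤ w → Odd w → w ≠ 3 → (1 : ℚ) / w ≤ 1 / 5 := by
      intro w hw hw' hw3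
      have : 5 ≤ w := by obtain ⟨k, hk⟩ := hw'; omega
      exact one_div_le_one_div_of_le (by norm_num) (by exact_mod_cast this)
    have h3 : ∀ w : ℕ, 3 ≤ w → Odd w → (8 : ℚ) / 15 ≤ 1 + 1 / (2 + w) - 1 / 3 - 1 / w := by
      intro w hw _
      have hwq : (3 : ℚ) ≤ w := by exact_mod_cast hw
      rw [← sub_nonneg, show (1 : ℚ) + 1 / (2 + w) - 1 / 3 - 1 / w - 8 / 15 =
        (2 * w ^ 2 + 4 * w - 30) / (15 * w * (2 + w)) by field_simp; ring]
      refine div_nonneg (by nlinarith) (by positivity)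
    by_cases hy3 : y = 3
    · subst hy3
      rw [hxq]; push_cast
      rw [show (3 : ℚ) + z - 1 = 2 + z by ring]
      exact h3 z hz hz'
    by_cases hz3 : z = 3
    · subst hz3
      rw [hxq]; push_cast
      rw [show (y : ℚ) + 3 - 1 = 2 + y by ring]
      linarith [h3 y hy hy']
    linarith [h5 y hy hy' hy3, h5 z hz hz' hz3]
  have pos : ∀ x : ℕ, 3 ≤ x → (0 : ℚ) < 1 / x ∧ (1 : ℚ) / x ≤ 1 / 3 := fun x hx =>
    ⟨by positivity, one_div_le_one_div_of_le (by norm_num) (by exact_mod_cast hx)⟩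
  obtain ⟨pa, pa'⟩ := pos a ha
  obtain ⟨pb, pb'⟩ := pos b hb
  obtain ⟨pc, pc'⟩ := pos c hc
  rcases sq_eq_one_iff.1 hp with rfl | rfl <;> rcases sq_eq_one_iff.1 hq with rfl | rfl <;>
    rcases sq_eq_one_iff.1 hr with rfl | rfl <;> push_cast <;>
    (try simp only [neg_div]) <;>
    first
      | linarith
      | linarith [key a b c ha hb hc hb' hc' (by omega)]
      | linarith [key b a c hb ha hc ha' hc' (by omega)]
      | linarith [key c a b hc ha hb ha' hb' (by omega)]

open scoped Classical in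
include ht hDt hDodd hdec hcard in
/-- At most fifteen involutions. -/
theorem card_invol_le (hone : ∀ s : G, orderOf s = 2 → IsConj t s)
    (h3 : (univ.filter fun v : G => orderOf v = 2 ∧ Commute v t).card = 3)
    (hlin : ∀ χ : IrrCharacter G, (χ : G → ℂ) ≠ (fun _ => 1) → (χ : G → ℂ) 1 ≠ 1) :
    (univ.filter fun v : G => orderOf v = 2).card ≤ 15 := by
  classical
  set I := univ.filter fun v : G => orderOf v = 2 with hI
  have hIt : t ∈ I := Finset.mem_filter.2 ⟨Finset.mem_univ _, ht⟩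
  let triv : IrrCharacter G := ⟨fun _ => 1, isIrrCharacter_one⟩
  choose m hm using fun χ : IrrCharacter G =>
    cf_int t D ht hDt (IsIrr.isCharacter (isIrrCharacter_one (G := ↥D))) (IsIrr.isCharacter χ.2)
  have hm1 : ∀ χ : IrrCharacter G, cf1 t D (χ : G → ℂ) = m χ := hm
  have hmtriv : m triv = 1 := by
    have : cf1 t D (triv : G → ℂ) = 1 := by
      rw [cf1_eq]; simp [triv, ← Nat.card_eq_fintype_card]
    rw [hm1] at this
    exact_mod_cast this
  have hnorm : ∑ χ, m χ * m χ = 4 := by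
    have h := cf_orth t D ht hDt hDodd hdec hcard (isIrrCharacter_one (G := ↥D))
      (isIrrCharacter_one (G := ↥D))
    rw [classInner_irr isIrrCharacter_one isIrrCharacter_one, if_pos rfl, mul_one] at h
    have : ((∑ χ, m χ * m χ : ℤ) : ℂ) = ((4 : ℤ) : ℂ) := by
      push_cast
      rw [← h]
      refine Finset.sum_congr rfl fun χ _ => ?_
      rw [hm, map_intCast]
    exact_mod_cast this
  rw [← Finset.add_sum_erase _ _ (Finset.mem_univ triv), hmtriv] at hnorm
  set T := (univ.erase triv).filter fun χ => m χ ≠ 0 with hT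
  have hsq : ∀ χ ∈ univ.erase triv, m χ ≠ 0 → m χ ^ 2 = 1 := by
    intro χ hχ h0
    have h1 := Finset.single_le_sum (f := fun χ => m χ * m χ) (fun ψ _ => mul_self_nonneg _) hχ
    try simp only at h1
    have hle : m χ ≤ 1 := by nlinarith
    have hge : -1 ≤ m χ := by nlinarith
    interval_cases m χ <;> simp_all
  have hcard3 : T.card = 3 := by
    have h1 : ∑ χ ∈ univ.erase triv, m χ * m χ = (T.card : ℤ) := by
      rw [Finset.card_eq_sum_ones, hT, Nat.cast_sum, Finset.sum_filter]
      refine Finset.sum_congr rfl fun χ hχ => ?_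
      split_ifs with h
      · rw [← sq, hsq χ hχ h]; rfl
      · push Not at h; rw [h, mul_zero]
    omega
  obtain ⟨a, b, c, hab, hac, hbc, hTabc⟩ := Finset.card_eq_three.1 hcard3
  have hT' : ∀ χ ∈ T, χ ≠ triv ∧ m χ ^ 2 = 1 := fun χ hχ => by
    obtain ⟨h1, h2⟩ := Finset.mem_filter.1 hχ
    exact ⟨Finset.ne_of_mem_erase h1, hsq χ h1 h2⟩
  -- value at t
  have hval : ∀ χ ∈ T, (χ : G → ℂ) t = m χ := by
    intro χ hχ
    have h := const_on_section t D ht hDt hDodd hdec hcard (χ := χ)
      (by rw [hm1]; exact_mod_cast (hT' χ hχ).2) 1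
    rw [Subgroup.coe_one, mul_one] at h
    rw [h, hm1]
  -- degrees
  have hdeg : ∀ χ ∈ T, ∃ n : ℕ, 3 ≤ n ∧ Odd n ∧ (χ : G → ℂ) 1 = n := by
    intro χ hχ
    obtain ⟨n, hn0, hn⟩ := IsIrr.exists_degree χ.2
    refine ⟨n, ?_, ?_, hn⟩
    all_goals
      obtain ⟨k, hk⟩ := degree_sub_even ht (IsIrr.isCharacter χ.2)
      rw [hn, hval χ hχ] at hk
      have hk' : (n : ℤ) - m χ = 2 * k := by exact_mod_cast hk
      have hn1 : n ≠ 1 := fun h => hlin χ (fun e => (hT' χ hχ).1 (Subtype.ext e)) (by rw [hn, h, Nat.cast_one])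
      rcases sq_eq_one_iff.1 (hT' χ hχ).2 with h | h <;> rw [h] at hk'
    all_goals first
      | omega
      | exact Nat.odd_iff.2 (by omega)
  have haT : a ∈ T := by rw [hTabc]; simp
  have hbT : b ∈ T := by rw [hTabc]; simp
  have hcT : c ∈ T := by rw [hTabc]; simp
  obtain ⟨na, hna, hnao, hna'⟩ := hdeg a haT
  obtain ⟨nb, hnb, hnbo, hnb'⟩ := hdeg b hbT
  obtain ⟨nc, hnc, hnco, hnc'⟩ := hdeg c hcT
  have hsplit : ∀ f : IrrCharacter G → ℂ, ∑ χ, (m χ : ℂ) * f χ =
      f triv + (m a : ℂ) * f a + (m b : ℂ) * f b + (m c : ℂ) * f c := by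
    intro f
    have h0 : ∑ χ ∈ univ.erase triv, (m χ : ℂ) * f χ = ∑ χ ∈ T, (m χ : ℂ) * f χ := by
      rw [hT, Finset.sum_filter]
      refine Finset.sum_congr rfl fun χ _ => ?_
      split_ifs with h
      · rfl
      · push Not at h; rw [h, Int.cast_zero, zero_mul]
    rw [← Finset.add_sum_erase _ _ (Finset.mem_univ triv), hmtriv, Int.cast_one, one_mul, h0,
      hTabc, Finset.sum_insert (by simp [hab, hac]), Finset.sum_pair hbc]
    ring
  obtain ⟨hv1, hv0, hv4⟩ := column_values t D ht hDt hDodd hdec hcard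
  simp only [hm1] at hv1 hv0 hv4
  have hdegeq : (1 : ℤ) + m a * na + m b * nb + m c * nc = 0 := by
    rw [hsplit (fun χ => (χ : G → ℂ) 1), hna', hnb', hnc'] at hv1
    have : (((1 : ℤ) + m a * na + m b * nb + m c * nc : ℤ) : ℂ) = ((0 : ℤ) : ℂ) := by
      push_cast; exact hv1
    exact_mod_cast this
  -- pairs of involutions
  have hpairs : ∀ χ : IrrCharacter G, ∑ s ∈ I, ∑ u ∈ I, (χ : G → ℂ) (s * u) =
      (I.card : ℂ) ^ 2 * (χ : G → ℂ) t ^ 2 / (χ : G → ℂ) 1 := by
    intro χ
    obtain ⟨ω, hω⟩ := exists_scalar χ.2 (f := fun g => if orderOf g = 2 then 1 else 0)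
      (fun g h => by simp only [orderOf_conj'])
    have hω' : ∀ h : G, ∑ u ∈ I, (χ : G → ℂ) (h * u) = ω * (χ : G → ℂ) h := by
      intro h
      rw [← hω h, hI, Finset.sum_filter]
      refine Finset.sum_congr rfl fun g _ => ?_
      split_ifs <;> simp
    have hsum : ∑ u ∈ I, (χ : G → ℂ) u = (I.card : ℂ) * (χ : G → ℂ) t := by
      rw [Finset.sum_congr rfl (fun u hu => ?_), Finset.sum_const, nsmul_eq_mul]
      obtain ⟨y, rfl⟩ := isConj_iff.1 (hone u (Finset.mem_filter.1 hu).2)
      exact IsIrr.isClassFunction χ.2 t y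
    have h1 := hω' 1
    simp only [one_mul] at h1
    rw [hsum] at h1
    rw [Finset.sum_congr rfl fun s _ => hω' s, ← Finset.mul_sum, hsum,
      eq_div_iff (IsIrr.one_ne_zero χ.2)]
    linear_combination (-((I.card : ℂ) * (χ : G → ℂ) t)) * h1
  have hconjI : ∀ s ∈ I, (I.filter fun u => orderOf (s * u) = 2).card = 2 := by
    intro s hs
    have hs' := (Finset.mem_filter.1 hs).2
    obtain ⟨y, hy⟩ := isConj_iff.1 (hone s hs')
    have e : (I.filter fun u => orderOf (s * u) = 2) =
        ((univ.filter fun v : G => orderOf v = 2 ∧ Commute v t).image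
          fun v => y * v * y⁻¹).erase s := by
      ext u
      simp only [hI, Finset.mem_filter, Finset.mem_univ, true_and, Finset.mem_erase,
        Finset.mem_image]
      constructor
      · rintro ⟨hu, hsu⟩
        have hcomm : s * u = u * s := by
          have h := inv_eq_self hsu
          rwa [mul_inv_rev, inv_eq_self hu, inv_eq_self hs', eq_comm] at h
        refine ⟨fun h => ?_, y⁻¹ * u * y, ⟨?_, ?_⟩, by group⟩
        · subst h
          rw [mul_self_eq_one hu, orderOf_one] at hsu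
          omega
        · have := orderOf_conj' y⁻¹ u; rw [inv_inv] at this; exact this.trans hu
        · change y⁻¹ * u * y * t = t * (y⁻¹ * u * y)
          calc y⁻¹ * u * y * t = y⁻¹ * (u * (y * t * y⁻¹)) * y := by group
            _ = y⁻¹ * (y * t * y⁻¹ * u) * y := by rw [hy, hcomm]
            _ = t * (y⁻¹ * u * y) := by group
      · rintro ⟨hne, v, ⟨hv, hvt⟩, rfl⟩
        refine ⟨(orderOf_conj' y v).trans hv, orderOf_mul_two hs' ((orderOf_conj' y v).trans hv)
          ?_ (Ne.symm hne)⟩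
        rw [← hy]
        exact hvt.symm.map (MulAut.conj y).toMonoidHom
    rw [e, Finset.card_erase_of_mem, Finset.card_image_of_injective _
      (fun p q h => mul_left_cancel (mul_right_cancel h)), h3]
    exact Finset.mem_image.2 ⟨t, Finset.mem_filter.2 ⟨Finset.mem_univ _, ht, Commute.refl t⟩, hy⟩
  have h8 : (I.card : ℂ) * (1 + (m a : ℂ) / na + (m b : ℂ) / nb + (m c : ℂ) / nc) = 8 := by
    have h1 : ∑ s ∈ I, ∑ u ∈ I, ∑ χ : IrrCharacter G, (m χ : ℂ) * (χ : G → ℂ) (s * u) =
        8 * (I.card : ℂ) := by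
      have hin : ∀ s ∈ I, ∑ u ∈ I, ∑ χ : IrrCharacter G, (m χ : ℂ) * (χ : G → ℂ) (s * u) = 8 := by
        intro s hs
        have hs' := (Finset.mem_filter.1 hs).2
        have hite : ∀ u ∈ I, ∑ χ : IrrCharacter G, (m χ : ℂ) * (χ : G → ℂ) (s * u) =
            if orderOf (s * u) = 2 then 4 else 0 := by
          intro u hu
          split_ifs with h
          · exact hv4 _ (hone _ h)
          · exact hv0 s u hs' (Finset.mem_filter.1 hu).2
              fun hc => h ((orderOf_of_isConj hc).symm.trans ht)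
        rw [Finset.sum_congr rfl hite, ← Finset.sum_filter, Finset.sum_const, hconjI s hs]
        norm_num
      rw [Finset.sum_congr rfl hin, Finset.sum_const, nsmul_eq_mul]
      ring
    have h2 : ∑ s ∈ I, ∑ u ∈ I, ∑ χ : IrrCharacter G, (m χ : ℂ) * (χ : G → ℂ) (s * u) =
        ∑ χ : IrrCharacter G, (m χ : ℂ) *
          ((I.card : ℂ) ^ 2 * (χ : G → ℂ) t ^ 2 / (χ : G → ℂ) 1) := by
      rw [Finset.sum_congr rfl (fun s _ => Finset.sum_comm), Finset.sum_comm]
      refine Finset.sum_congr rfl fun χ _ => ?_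
      rw [← hpairs, Finset.mul_sum]
      simp only [Finset.mul_sum]
    rw [h2, hsplit, hna', hnb', hnc', hval a haT, hval b hbT, hval c hcT] at h1
    have hsqC : ∀ χ ∈ T, (m χ : ℂ) ^ 2 = 1 := fun χ hχ => by exact_mod_cast (hT' χ hχ).2
    simp only [triv, hsqC a haT, hsqC b hbT, hsqC c hcT, one_pow, mul_one, div_one] at h1
    have hI0 : (I.card : ℂ) ≠ 0 := Nat.cast_ne_zero.2 (Finset.card_ne_zero.2 ⟨t, hIt⟩)
    refine mul_left_cancel₀ hI0 ?_
    linear_combination h1
  have h8' : (I.card : ℚ) * (1 + (m a : ℚ) / na + (m b : ℚ) / nb + (m c : ℚ) / nc) = 8 := by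
    have : (((I.card : ℚ) * (1 + (m a : ℚ) / na + (m b : ℚ) / nb + (m c : ℚ) / nc) : ℚ) : ℂ) =
        ((8 : ℚ) : ℂ) := by push_cast; exact h8
    exact_mod_cast this
  have hb' := bound_of_signs (hT' a haT).2 (hT' b hbT).2 (hT' c hcT).2 hna hnb hnc hnao hnbo hnco
    hdegeq
  have : (I.card : ℚ) ≤ 15 := by nlinarith [Nat.cast_nonneg (α := ℚ) I.card]
  exact_mod_cast this

end Cfsg.Agent.H65.CentralFour
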