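import Cfsg.Agent.H65.DihedralFusion
import Cfsg.Agent.Cores.PCore
import Cfsg.Agent.Fusion.PComplement
import Cfsg.Agent.S3277
import Mathlib.GroupTheory.SpecificGroups.Alternating

/-!
A group with a dihedral involution centraliser of order eight and a normal subgroup of index two.
-/

set_option autoImplicit false
set_option linter.style.haveILetI false

namespace Cfsg.Agent.H65.DihedralIndexTwo

open Cfsg DihedralEight

universe u

variable {G : Type u} [Group G] [Finite G]

/-- If `V = C(t)` is a normal elementary abelian four group the order is four or twelve. -/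
theorem card_le_twelve {t : G} (ht : orderOf t = 2) (E : Subgroup G) [E.Normal] (htE : t ∈ E)
    (hE4 : Nat.card ↥E = 4) (hC4 : Nat.card ↥(Subgroup.centralizer ({t} : Set G)) = 4) :
    Nat.card G ≤ 12 := by
  classical
  have h1 := H26.card_conj_mul_card_centralizer t
  rw [hC4] at h1
  have h3 : Nat.card {g : G // IsConj t g} ≤ 3 := by
    have hsub : {g : G | IsConj t g} ⊆ (E : Set G) \ {1} := by
      intro g hg
      obtain ⟨c, rfl⟩ := isConj_iff.1 hg
      exact ⟨Subgroup.Normal.conj_mem inferInstance t htE c, by simpa using ne_one_of_orderOf ht⟩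
    have := Set.ncard_le_ncard hsub
    rw [Set.ncard_diff_singleton_of_mem E.one_mem,
      show (E : Set G).ncard = 4 from (Nat.card_coe_set_eq _).symm.trans hE4] at this
    exact le_trans (le_of_eq (Nat.card_coe_set_eq {g : G | IsConj t g})) this
  omega

variable {t : G} (e : ↥(Subgroup.centralizer ({t} : Set G)) ≃* DihedralGroup 4)
  (ht : orderOf t = 2)

include e ht in
/-- Order 24: the symmetric group on the Sylow 3-subgroups. -/
theorem iso_perm_four (hG : Nat.card G = 24) (V : Subgroup G) [hV : V.Normal] (hV4 : Nat.card ↥V = 4)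
    (htV : t ∈ V) : Nonempty (G ≃* Equiv.Perm (Fin 4)) := by
  classical
  haveI : Fact (Nat.Prime 3) := ⟨Nat.prime_three⟩
  have h8 := DihedralFusion.card_eight e
  have hC3 : ∀ P : Subgroup G, Nat.card ↥P = 3 → ¬ P.Normal := by
    intro P hP hPn
    have hdis : Disjoint P V := by
      rw [disjoint_iff, ← Subgroup.card_eq_one]
      have h1 := hP ▸ Subgroup.card_dvd_of_le (inf_le_left : P ⊓ V ≤ P)
      have h2 := hV4 ▸ Subgroup.card_dvd_of_le (inf_le_right : P ⊓ V ≤ V)
      have : Nat.card ↥(P ⊓ V) ∣ 1 := (Nat.dvd_gcd h1 h2).trans (by norm_num)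
      exact Nat.dvd_one.1 this
    have hle : P ≤ Subgroup.centralizer ({t} : Set G) := fun a ha =>
      Subgroup.mem_centralizer_singleton_iff.2
        (Subgroup.commute_of_normal_of_disjoint P V hPn hV hdis a t ha htV).eq
    have := Subgroup.card_dvd_of_le hle
    rw [hP, h8] at this
    omega
  let P : Sylow 3 G := default
  have hP : Nat.card ↥(P : Subgroup G) = 3 := by
    obtain ⟨k, hk⟩ := IsPGroup.iff_card.1 P.isPGroup'
    have hk2 : k < 2 := by
      by_contra h
      have : 3 ^ 2 ∣ 24 := (pow_dvd_pow 3 (not_lt.1 h)).trans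
        (hk ▸ hG ▸ (P : Subgroup G).card_subgroup_dvd_card)
      omega
    have hk0 : k ≠ 0 := fun h => P.ne_bot_of_dvd_card (hG ▸ by norm_num)
      (Subgroup.card_eq_one.1 (by rw [hk, h, pow_zero]))
    rw [hk, show k = 1 by omega, pow_one]
  have hidx : (P : Subgroup G).index = 8 := by
    have := (P : Subgroup G).card_mul_index
    rw [hP, hG] at this; omega
  have hn : Nat.card (Sylow 3 G) = 4 := by
    have hd : Nat.card (Sylow 3 G) ∣ 8 := hidx ▸ P.card_dvd_index
    have hm : Nat.card (Sylow 3 G) % 3 = 1 := card_sylow_modEq_one 3 G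
    have hle := Nat.le_of_dvd (by norm_num) hd
    have hne1 : Nat.card (Sylow 3 G) ≠ 1 := fun h1 => by
      have h2 := P.card_eq_index_normalizer
      rw [h1] at h2
      exact hC3 P hP (Subgroup.normalizer_eq_top_iff.1 (Subgroup.index_eq_one.1 h2.symm))
    have hcases : Nat.card (Sylow 3 G) = 4 ∨ Nat.card (Sylow 3 G) = 7 := by omega
    rcases hcases with h | h
    · exact h
    · rw [h] at hd; omega
  let φ : G →* Equiv.Perm (Sylow 3 G) := MulAction.toPermHom G (Sylow 3 G)
  have hinj : Function.Injective φ := by
    rw [← MonoidHom.ker_eq_bot_iff]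
    have hKle : φ.ker ≤ Subgroup.normalizer ((P : Subgroup G) : Set G) := fun k hk =>
      Sylow.smul_eq_iff_mem_normalizer.1 (congrArg (fun f : Equiv.Perm (Sylow 3 G) => f P) hk)
    have hN : Nat.card ↥(Subgroup.normalizer ((P : Subgroup G) : Set G)) = 6 := by
      have h1 := Subgroup.card_mul_index (Subgroup.normalizer ((P : Subgroup G) : Set G))
      have h2 : (Subgroup.normalizer ((P : Subgroup G) : Set G)).index = 4 :=
        P.card_eq_index_normalizer.symm.trans hn
      rw [h2, hG] at h1
      omega
    have hKd : Nat.card ↥φ.ker ∣ 6 := hN ▸ Subgroup.card_dvd_of_le hKle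
    have hK3 : ¬ 3 ∣ Nat.card ↥φ.ker := by
      intro h3
      -- then every Sylow subgroup lies in the kernel
      obtain ⟨z, hz⟩ := exists_prime_orderOf_dvd_card' 3 h3
      have hz' : orderOf (z : G) = 3 := (Subgroup.orderOf_coe z).trans hz
      have hall : ∀ Q : Sylow 3 G, Subgroup.zpowers (z : G) = (Q : Subgroup G) := by
        intro Q
        obtain ⟨g, hg⟩ := MulAction.exists_smul_eq G P Q
        have hzN : (z : G) ∈ Subgroup.normalizer ((Q : Subgroup G) : Set G) :=
          Sylow.smul_eq_iff_mem_normalizer.1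
            (congrArg (fun f : Equiv.Perm (Sylow 3 G) => f Q) z.2)
        have hzQ : (z : G) ∈ (Q : Subgroup G) := by
          have hp : IsPGroup 3 ↥(Subgroup.zpowers (z : G)) :=
            IsPGroup.of_card (n := 1) (by rw [Nat.card_zpowers, hz', pow_one])
          have hsup := hp.to_sup_of_normal_right' Q.isPGroup' (Subgroup.zpowers_le.2 hzN)
          have := Q.is_maximal' hsup le_sup_right
          rw [← this]
          exact (le_sup_left : Subgroup.zpowers (z : G) ≤ _) (Subgroup.mem_zpowers _)
        refine Subgroup.eq_of_le_of_card_ge (Subgroup.zpowers_le.2 hzQ) ?_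
        rw [Nat.card_zpowers, hz', Q.card_eq_multiplicity, ← P.card_eq_multiplicity]
        exact le_of_eq hP
      have : Subsingleton (Sylow 3 G) :=
        ⟨fun Q R => Sylow.ext ((hall Q).symm.trans (hall R))⟩
      have := Nat.card_of_subsingleton P
      omega
    rw [← Subgroup.card_eq_one]
    have hle6 := Nat.le_of_dvd (by norm_num) hKd
    have hpos : 0 < Nat.card ↥φ.ker := Nat.card_pos
    have hcases : Nat.card ↥φ.ker = 1 ∨ Nat.card ↥φ.ker = 2 := by
      generalize Nat.card ↥φ.ker = c at hKd hK3 hle6 hpos
      interval_cases c <;> omega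
    refine hcases.resolve_right fun h2 => ?_
    obtain ⟨z, hz⟩ := exists_prime_orderOf_dvd_card' 2 (show 2 ∣ Nat.card ↥φ.ker by rw [h2])
    have hz' : orderOf (z : G) = 2 := (Subgroup.orderOf_coe z).trans hz
    have hcen : ∀ g : G, g * (z : G) = (z : G) * g := by
      intro g
      have hmem : g * z * g⁻¹ ∈ φ.ker := φ.normal_ker.conj_mem z z.2 g
      have key : ∀ w ∈ φ.ker, w ≠ 1 → w = (z : G) := by
        intro w hw hw1
        by_contra hne
        have h3 : ({1, w, (z : G)} : Set G).ncard = 3 := by
          rw [Set.ncard_insert_of_notMem (by simp [hw1.symm, (ne_one_of_orderOf hz').symm]),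
            Set.ncard_pair hne]
        have hsub : ({1, w, (z : G)} : Set G) ⊆ (φ.ker : Set G) := by
          rintro _ (rfl | rfl | rfl)
          exacts [φ.ker.one_mem, hw, z.2]
        have := Set.ncard_le_ncard hsub
        rw [h3, ← Nat.card_coe_set_eq, show Nat.card ((φ.ker : Set G) : Set G) = 2 from h2] at this
        omega
      exact mul_inv_eq_iff_eq_mul.1 (key _ hmem (by simpa using ne_one_of_orderOf hz'))
    obtain ⟨d, hd⟩ := exists_inc t e (hcen t).symm
    have key : ∀ d : DihedralGroup 4, d ≠ 1 → (∀ c, c * d = d * c) → d = .r 2 := by decide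
    have hzt : (z : G) = t := by
      rw [← hd, key d (fun h => ne_one_of_orderOf hz' (by rw [← hd, h, map_one]))
        (fun c => inc_injective t e (by rw [map_mul, map_mul, hd]; exact hcen _)),
        inc_center t e ht]
    have : Subgroup.centralizer ({t} : Set G) = ⊤ := eq_top_iff.2 fun g _ =>
      Subgroup.mem_centralizer_singleton_iff.2 (hzt ▸ hcen g)
    rw [this, Subgroup.card_top, hG] at h8
    omega
  let f : G →* Equiv.Perm (Fin 4) :=
    ((Finite.equivFinOfCardEq hn).permCongrHom.toMonoidHom).comp φ
  have hf : Function.Bijective f := (Nat.bijective_iff_injective_and_card f).2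
    ⟨(Finite.equivFinOfCardEq hn).permCongrHom.injective.comp hinj, by
      rw [hG, Nat.card_perm, Nat.card_fin]; rfl⟩
  exact ⟨MulEquiv.ofBijective f hf⟩

include e ht in
/-- Order 120: the symmetric group on the five conjugates of a four group. -/
theorem iso_perm_five (M : Subgroup G) [M.Normal] (hM2 : M.index = 2) (htM : t ∈ M)
    (eM : ↥M ≃* ↥(alternatingGroup (Fin 5))) : Nonempty (G ≃* Equiv.Perm (Fin 5)) := by
  classical
  haveI : Fact (Nat.Prime 2) := ⟨Nat.prime_two⟩
  haveI : IsSimpleGroup ↥(alternatingGroup (Fin 5)) := alternatingGroup.isSimpleGroup (by simp)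
  haveI : Nontrivial ↥M := eM.toEquiv.nontrivial
  haveI : IsSimpleGroup ↥M :=
    IsSimpleGroup.isSimpleGroup_of_surjective eM.symm.toMonoidHom eM.symm.surjective
  have hM60 : Nat.card ↥M = 60 := by
    rw [Nat.card_congr eM.toEquiv, nat_card_alternatingGroup, Nat.card_fin]
    rfl
  have hG : Nat.card G = 120 := by rw [← M.card_mul_index, hM60, hM2]
  let P : Sylow 2 ↥M := default
  have hP : Nat.card ↥(P : Subgroup ↥M) = 4 := by
    rw [P.card_eq_multiplicity, hM60, show (60 : ℕ) = 2 ^ 2 * 15 from rfl,
      Nat.factorization_mul (by norm_num) (by norm_num), Finsupp.add_apply,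
      Nat.prime_two.factorization_pow,
      Nat.factorization_eq_zero_of_not_dvd (n := 15) (by norm_num)]
    simp
  have hPidx : (P : Subgroup ↥M).index = 15 := by
    have := (P : Subgroup ↥M).card_mul_index
    rw [hP, hM60] at this; omega
  have hn5 : Nat.card (Sylow 2 ↥M) = 5 := by
    have hd : Nat.card (Sylow 2 ↥M) ∣ 15 := hPidx ▸ P.card_dvd_index
    have hN := P.card_eq_index_normalizer
    have hne1 : Nat.card (Sylow 2 ↥M) ≠ 1 := by
      intro h
      rw [h] at hN
      rcases (Subgroup.normalizer_eq_top_iff.1 (Subgroup.index_eq_one.1 hN.symm)).eq_bot_or_eq_top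
        with h' | h'
      · rw [h', Subgroup.card_bot] at hP; omega
      · rw [h', Subgroup.card_top, hM60] at hP; omega
    have hne3 : Nat.card (Sylow 2 ↥M) ≠ 3 := by
      intro h
      let φ : ↥M →* Equiv.Perm (Sylow 2 ↥M) := MulAction.toPermHom ↥M (Sylow 2 ↥M)
      rcases φ.normal_ker.eq_bot_or_eq_top with h' | h'
      · have := Subgroup.card_dvd_of_injective φ (φ.ker_eq_bot_iff.1 h')
        rw [hM60, Nat.card_perm, h] at this
        have := Nat.le_of_dvd (Nat.factorial_pos _) this
        rw [show Nat.factorial 3 = 6 from rfl] at this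
        omega
      · have : Subsingleton (Sylow 2 ↥M) := ⟨fun Q R => by
          obtain ⟨g, rfl⟩ := MulAction.exists_smul_eq ↥M Q R
          exact (congrArg (fun f : Equiv.Perm (Sylow 2 ↥M) => f Q)
            (h' ▸ Subgroup.mem_top g : g ∈ φ.ker)).symm⟩
        have := Nat.card_of_subsingleton P
        omega
    have hne15 : Nat.card (Sylow 2 ↥M) ≠ 15 := by
      intro h
      have hNP : Subgroup.normalizer ((P : Subgroup ↥M) : Set ↥M) = (P : Subgroup ↥M) := by
        refine (Subgroup.eq_of_le_of_card_ge Subgroup.le_normalizer ?_).symm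
        have h1 := Subgroup.card_mul_index (Subgroup.normalizer ((P : Subgroup ↥M) : Set ↥M))
        have h2 : (Subgroup.normalizer ((P : Subgroup ↥M) : Set ↥M)).index = 15 :=
          hN.symm.trans h
        rw [h2, hM60] at h1
        rw [hP]; omega
      haveI : IsMulCommutative ↥(P : Subgroup ↥M) :=
        IsPGroup.isMulCommutative_of_card_eq_prime_sq (p := 2) (by rw [hP]; norm_num)
      obtain ⟨P', N, hNn, hc⟩ := Cfsg.Agent.Fusion.hasNormalPComplement_of_normalizer_le_centralizer P
        (by
          rw [hNP]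
          exact fun a ha b hb =>
            congrArg Subtype.val (mul_comm' (⟨b, hb⟩ : ↥(P : Subgroup ↥M)) ⟨a, ha⟩))
      have hc' := hc.card_mul
      rw [P'.card_eq_multiplicity, ← P.card_eq_multiplicity, hP, hM60] at hc'
      rcases hNn.eq_bot_or_eq_top with h' | h'
      · rw [h', Subgroup.card_bot] at hc'; omega
      · rw [h', Subgroup.card_top, hM60] at hc'; omega
    have hle := Nat.le_of_dvd (by norm_num) hd
    generalize Nat.card (Sylow 2 ↥M) = c at hd hle hne1 hne3 hne15
    interval_cases c <;> omega
  set N : Subgroup G := Subgroup.normalizer (((P : Subgroup ↥M).map M.subtype : Subgroup G) : Set G)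
    with hNdef
  have hfr : N ⊔ M = ⊤ := Sylow.normalizer_sup_eq_top P
  have hNidx : N.index = 5 := by
    have h1 : N.relIndex M = 5 := by
      rw [← hn5, P.card_eq_index_normalizer]
      refine congrArg Subgroup.index ?_
      ext m
      simp only [Subgroup.mem_subgroupOf, hNdef, Subgroup.mem_normalizer_iff]
      constructor
      · intro hm a
        have := hm (a : G)
        constructor
        · intro ha
          obtain ⟨b, hb, hba⟩ := this.1 ⟨a, ha, rfl⟩
          rwa [show m * a * m⁻¹ = b from Subtype.ext hba.symm]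
        · intro ha
          obtain ⟨b, hb, hba⟩ := this.2 ⟨_, ha, rfl⟩
          rwa [show a = b from Subtype.ext hba.symm]
      · intro hm g
        constructor
        · rintro ⟨a, ha, rfl⟩
          exact ⟨_, (hm a).1 ha, rfl⟩
        · rintro ⟨b, hb, hbg⟩
          refine ⟨m⁻¹ * b * m, (hm _).2 ?_, ?_⟩
          · rwa [show m * (m⁻¹ * b * m) * m⁻¹ = b by group]
          · change ((m⁻¹ * b * m : ↥M) : G) = g
            push_cast
            rw [show (b : G) = m * g * (m : G)⁻¹ from hbg]
            group
    have h2 : M.relIndex N = 2 := by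
      rw [← Subgroup.relIndex_sup_right (K := M) (H := N), hfr, Subgroup.relIndex_top_right, hM2]
    have h3 := Subgroup.relIndex_mul_index (inf_le_left : N ⊓ M ≤ N)
    have h4 := Subgroup.relIndex_mul_index (inf_le_right : N ⊓ M ≤ M)
    rw [Subgroup.inf_relIndex_left, h2] at h3
    rw [Subgroup.inf_relIndex_right, h1, hM2] at h4
    omega
  let φ : G →* Equiv.Perm (G ⧸ N) := MulAction.toPermHom G (G ⧸ N)
  have hinj : Function.Injective φ := by
    rw [← MonoidHom.ker_eq_bot_iff]
    have hkle : φ.ker ≤ N := by rw [← Subgroup.normalCore_eq_ker]; exact N.normalCore_le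
    rcases (φ.normal_ker.subgroupOf M).eq_bot_or_eq_top with h | h
    · rw [Subgroup.subgroupOf_eq_bot, disjoint_iff] at h
      rw [Subgroup.eq_bot_iff_forall]
      intro k hk
      by_contra hk1
      have hk2 : k * k = 1 := by
        have : k * k ∈ φ.ker ⊓ M := ⟨φ.ker.mul_mem hk hk, Subgroup.mul_self_mem_of_index_two hM2 k⟩
        rwa [h, Subgroup.mem_bot] at this
      -- the kernel commutes with `M`
      have hcM : ∀ m ∈ M, k * m = m * k := fun m hm =>
        (Subgroup.commute_of_normal_of_disjoint φ.ker M φ.normal_ker inferInstance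
          (disjoint_iff.2 h) k m hk hm).eq
      obtain ⟨d, hd⟩ := exists_inc t e (hcM t htM)
      have hknM : k ∉ M := fun hkM => hk1 (by
        have : k ∈ φ.ker ⊓ M := ⟨hk, hkM⟩
        rwa [h, Subgroup.mem_bot] at this)
      have hcen : ∀ g : G, k * g = g * k := by
        intro g
        by_cases hg : g ∈ M
        · exact hcM g hg
        · have hkg : k * g ∈ M := (Subgroup.mul_mem_iff_of_index_two hM2).2 (iff_of_false hknM hg)
          have := hcM _ hkg
          rw [← mul_assoc, hk2, one_mul] at this
          calc k * g = k * ((k * g) * k) := by rw [← this]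
            _ = g * k := by rw [← mul_assoc, ← mul_assoc, hk2, one_mul]
      have key : ∀ d : DihedralGroup 4, d ≠ 1 → (∀ c, c * d = d * c) → d = .r 2 := by decide
      refine hknM ?_
      rw [← hd, key d (fun h' => hk1 (by rw [← hd, h', map_one]))
        (fun c => inc_injective t e (by rw [map_mul, map_mul, hd]; exact (hcen _).symm)),
        inc_center t e ht]
      exact htM
    · exfalso
      have hMN : M ≤ N := (Subgroup.subgroupOf_eq_top.1 h).trans hkle
      rw [sup_of_le_left hMN] at hfr
      rw [hfr, Subgroup.index_top] at hNidx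
      omega
  have hcard : Nat.card (G ⧸ N) = 5 := by rw [← Subgroup.index_eq_card, hNidx]
  let f : G →* Equiv.Perm (Fin 5) :=
    ((Finite.equivFinOfCardEq hcard).permCongrHom.toMonoidHom).comp φ
  have hf : Function.Bijective f := (Nat.bijective_iff_injective_and_card f).2
    ⟨(Finite.equivFinOfCardEq hcard).permCongrHom.injective.comp hinj, by
      rw [hG, Nat.card_perm, Nat.card_fin]; rfl⟩
  exact ⟨MulEquiv.ofBijective f hf⟩

end Cfsg.Agent.H65.DihedralIndexTwo
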